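import Cfsg.Agent.H1.SZConj
import Cfsg.Agent.H1.Hall
import Cfsg.Agent.H1.MinNormal
import Cfsg.Agent.H1.PQLemma
import Cfsg.Agent.H1.PCore

/-!
# Carter subgroups of finite solvable groups (S0045)
-/

set_option autoImplicit false
open Pointwise

namespace Cfsg.Agent.H1

namespace Carter

universe u

variable {G : Type u} [Group G]

/-- `C` is a Carter subgroup: nilpotent and self-normalising. -/
def IsC (C : Subgroup G) : Prop :=
  Group.IsNilpotent C ∧ Subgroup.normalizer (C : Set G) = C

theorem isNilpotent_conj_smul (g : G) (H : Subgroup G) [Group.IsNilpotent H] :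
    Group.IsNilpotent (MulAut.conj g • H : Subgroup G) :=
  Group.nilpotent_of_mulEquiv (Subgroup.equivSMul (MulAut.conj g) H)

theorem normalizer_conj_smul (g : G) (H : Subgroup G) :
    Subgroup.normalizer ((MulAut.conj g • H : Subgroup G) : Set G)
      = MulAut.conj g • Subgroup.normalizer (H : Set G) := by
  ext x
  rw [mem_conj_smul_iff, mem_normalizer_iff_conj_smul, mem_normalizer_iff_conj_smul]
  constructor
  · intro h
    have h1 : MulAut.conj g⁻¹ • MulAut.conj x • MulAut.conj g • H
        = MulAut.conj g⁻¹ • MulAut.conj g • H := by rw [h]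
    rw [conj_inv_smul_conj_smul, ← conj_mul_smul, ← conj_mul_smul] at h1
    exact h1
  · intro h
    calc MulAut.conj x • MulAut.conj g • H
        = MulAut.conj g • MulAut.conj (g⁻¹ * x * g) • H := by
          rw [← conj_mul_smul, ← conj_mul_smul]; congr 2; group
      _ = MulAut.conj g • H := by rw [h]

theorem isC_conj (g : G) {C : Subgroup G} (hC : IsC C) : IsC (MulAut.conj g • C) := by
  obtain ⟨h1, h2⟩ := hC
  exact ⟨isNilpotent_conj_smul g C, by rw [normalizer_conj_smul, h2]⟩

theorem mem_normalizer_subgroupOf {H L : Subgroup G} (hHL : H ≤ L) (y : L) :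
    y ∈ Subgroup.normalizer ((H.subgroupOf L : Subgroup L) : Set L)
      ↔ (y : G) ∈ Subgroup.normalizer (H : Set G) := by
  rw [Subgroup.mem_normalizer_iff, Subgroup.mem_normalizer_iff]
  constructor
  · intro h x
    constructor
    · intro hx
      exact Subgroup.mem_subgroupOf.mp ((h ⟨x, hHL hx⟩).mp (Subgroup.mem_subgroupOf.mpr hx))
    · intro hx
      have hxL : x ∈ L := by
        have h1 := L.mul_mem (L.mul_mem (L.inv_mem y.2) (hHL hx)) y.2
        have h2 : (y : G)⁻¹ * ((y : G) * x * (y : G)⁻¹) * (y : G) = x := by group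
        rwa [h2] at h1
      exact Subgroup.mem_subgroupOf.mp ((h ⟨x, hxL⟩).mpr (Subgroup.mem_subgroupOf.mpr hx))
  · intro h x
    rw [Subgroup.mem_subgroupOf, Subgroup.mem_subgroupOf]
    exact h x

theorem isC_subgroupOf {C L : Subgroup G} (hC : IsC C) (hCL : C ≤ L) : IsC (C.subgroupOf L) := by
  obtain ⟨h1, h2⟩ := hC
  refine ⟨Group.nilpotent_of_mulEquiv (Subgroup.subgroupOfEquivOfLe hCL).symm, ?_⟩
  ext y
  rw [mem_normalizer_subgroupOf hCL, h2, Subgroup.mem_subgroupOf]

theorem isNilpotent_map_subtype (K : Subgroup G) (C₀ : Subgroup K) [Group.IsNilpotent C₀] :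
    Group.IsNilpotent (C₀.map K.subtype) :=
  Group.nilpotent_of_mulEquiv (C₀.equivMapOfInjective K.subtype K.subtype_injective)

theorem mem_of_mem_normalizer_map (K : Subgroup G) (C₀ : Subgroup K)
    (hC₀ : Subgroup.normalizer (C₀ : Set K) = C₀) (x : G) (hxK : x ∈ K)
    (hx : x ∈ Subgroup.normalizer ((C₀.map K.subtype : Subgroup G) : Set G)) :
    x ∈ C₀.map K.subtype := by
  have h1 : (⟨x, hxK⟩ : K) ∈ Subgroup.normalizer (C₀ : Set K) := by
    rw [Subgroup.mem_normalizer_iff] at hx ⊢
    intro h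
    have h2 := hx (h : G)
    have e1 : (h : G) ∈ C₀.map K.subtype ↔ h ∈ C₀ :=
      Subgroup.mem_map_iff_mem K.subtype_injective (x := h)
    have e2 : x * (h : G) * x⁻¹ ∈ C₀.map K.subtype ↔ (⟨x, hxK⟩ : K) * h * (⟨x, hxK⟩ : K)⁻¹ ∈ C₀ :=
      Subgroup.mem_map_iff_mem K.subtype_injective (x := (⟨x, hxK⟩ : K) * h * (⟨x, hxK⟩ : K)⁻¹)
    rw [← e1, ← e2]
    exact h2
  rw [hC₀] at h1
  exact Subgroup.mem_map_of_mem K.subtype h1

/-- If Carter subgroups are conjugate in every proper subgroup, then `C N` is self-normalising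
for a Carter subgroup `C` and a normal subgroup `N`. -/
theorem normalizer_sup_le
    (hsub : ∀ L : Subgroup G, L ≠ ⊤ → ∀ C D : Subgroup L, IsC C → IsC D →
      ∃ l : L, MulAut.conj l • C = D)
    {C : Subgroup G} (hC : IsC C) (N : Subgroup G) [N.Normal] :
    Subgroup.normalizer ((C ⊔ N : Subgroup G) : Set G) ≤ C ⊔ N := by
  intro x hx
  by_cases htop : C ⊔ N = ⊤
  · rw [htop]; trivial
  · have hx' := (mem_normalizer_iff_conj_smul x _).mp hx
    have hC'le : MulAut.conj x • C ≤ C ⊔ N := by
      rw [← hx']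
      exact Subgroup.pointwise_smul_le_pointwise_smul_iff.mpr le_sup_left
    obtain ⟨l, hl⟩ := hsub _ htop _ _ (isC_subgroupOf hC le_sup_left)
      (isC_subgroupOf (isC_conj x hC) hC'le)
    have h1 : MulAut.conj (l : G) • C = MulAut.conj x • C :=
      conj_smul_eq_of_subgroupOf le_sup_left hC'le l hl
    have h2 : (l : G)⁻¹ * x ∈ Subgroup.normalizer (C : Set G) := by
      rw [mem_normalizer_iff_conj_smul, conj_mul_smul, ← h1, conj_inv_smul_conj_smul]
    rw [hC.2] at h2
    have h3 : x = (l : G) * ((l : G)⁻¹ * x) := by group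
    rw [h3]
    exact (C ⊔ N).mul_mem l.2 ((le_sup_left : C ≤ C ⊔ N) h2)

/-- The image of a Carter subgroup in a quotient is a Carter subgroup. -/
theorem isC_map_mk'
    (hsub : ∀ L : Subgroup G, L ≠ ⊤ → ∀ C D : Subgroup L, IsC C → IsC D →
      ∃ l : L, MulAut.conj l • C = D)
    {C : Subgroup G} (hC : IsC C) (N : Subgroup G) [N.Normal] :
    IsC (C.map (QuotientGroup.mk' N)) := by
  have := hC.1
  refine ⟨Group.nilpotent_of_surjective _
    (MonoidHom.subgroupMap_surjective (QuotientGroup.mk' N) C), ?_⟩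
  apply le_antisymm _ Subgroup.le_normalizer
  intro y hy
  obtain ⟨x, rfl⟩ := QuotientGroup.mk'_surjective N y
  have h1 : x ∈ (Subgroup.normalizer
      ((C.map (QuotientGroup.mk' N) : Subgroup (G ⧸ N)) : Set (G ⧸ N))).comap
        (QuotientGroup.mk' N) := hy
  rw [Subgroup.comap_normalizer_eq_of_surjective _ (QuotientGroup.mk'_surjective N),
    Subgroup.comap_map_eq, QuotientGroup.ker_mk'] at h1
  have h2 := normalizer_sup_le hsub hC N h1
  have h3 : (QuotientGroup.mk' N) x ∈ (C ⊔ N).map (QuotientGroup.mk' N) :=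
    Subgroup.mem_map_of_mem _ h2
  rwa [Subgroup.map_sup, QuotientGroup.map_mk'_self, sup_bot_eq] at h3

/-- The normaliser of a subgroup `Q` which is a Hall subgroup of its normaliser is
self-normalising. -/
theorem normalizer_normalizer_of_hall [Finite G] (Q : Subgroup G)
    (hQ : (Nat.card Q).Coprime (Q.relIndex (Subgroup.normalizer (Q : Set G)))) :
    Subgroup.normalizer ((Subgroup.normalizer (Q : Set G) : Subgroup G) : Set G)
      = Subgroup.normalizer (Q : Set G) := by
  apply le_antisymm _ Subgroup.le_normalizer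
  intro x hx
  have hx' := (mem_normalizer_iff_conj_smul x _).mp hx
  have hQ'le : MulAut.conj x • Q ≤ Subgroup.normalizer (Q : Set G) := by
    rw [← hx']
    exact Subgroup.pointwise_smul_le_pointwise_smul_iff.mpr Subgroup.le_normalizer
  have hcardN : Nat.card (Subgroup.normalizer (Q : Set G))
      = Nat.card Q * Q.relIndex (Subgroup.normalizer (Q : Set G)) := by
    have h1 := Subgroup.card_mul_index (Q.subgroupOf (Subgroup.normalizer (Q : Set G)))
    rw [card_subgroupOf_of_le Subgroup.le_normalizer] at h1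
    exact h1.symm
  have hle : Q.subgroupOf (Subgroup.normalizer (Q : Set G))
      ≤ (MulAut.conj x • Q).subgroupOf (Subgroup.normalizer (Q : Set G)) :=
    normal_le_of_card_dvd _ _ (Nat.card Q) _ hcardN hQ
      (by rw [card_subgroupOf_of_le hQ'le, card_conj_smul])
      (by rw [card_subgroupOf_of_le Subgroup.le_normalizer])
  have hle' : Q ≤ MulAut.conj x • Q := by
    intro q hq
    have h1 : (⟨q, Subgroup.le_normalizer hq⟩ : Subgroup.normalizer (Q : Set G))
        ∈ Q.subgroupOf (Subgroup.normalizer (Q : Set G)) := hq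
    exact Subgroup.mem_subgroupOf.mp (hle h1)
  have heq : Q = MulAut.conj x • Q :=
    Subgroup.eq_of_le_of_card_ge hle' (by rw [card_conj_smul])
  exact (mem_normalizer_iff_conj_smul x Q).mpr heq.symm

/-- A subgroup of a nilpotent subgroup `M` which is self-normalising in `M` is `M`. -/
theorem eq_of_isNilpotent_of_normalizer {H M : Subgroup G} (hHM : H ≤ M) [Group.IsNilpotent M]
    (h : M ⊓ Subgroup.normalizer (H : Set G) ≤ H) : H = M := by
  have hnc : NormalizerCondition M := Group.normalizerCondition_of_isNilpotent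
  rw [normalizerCondition_iff_only_full_group_self_normalizing] at hnc
  have h1 : H.subgroupOf M = ⊤ := by
    apply hnc
    apply le_antisymm _ Subgroup.le_normalizer
    intro y hyn
    rw [Subgroup.mem_subgroupOf]
    exact h ⟨y.2, (mem_normalizer_subgroupOf hHM y).mp hyn⟩
  rw [Subgroup.subgroupOf_eq_top] at h1
  exact le_antisymm hHM h1

/-- A finite nilpotent group has a normal Hall `p'`-subgroup. -/
theorem exists_normal_pcompl (H : Type u) [Group H] [Finite H] [Group.IsNilpotent H] (p : ℕ)
    [Fact p.Prime] :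
    ∃ Q : Subgroup H, Q.Normal ∧ (Nat.card Q).Coprime p ∧ ∃ k, Q.index = p ^ k := by
  obtain ⟨P⟩ : Nonempty (Sylow p H) := inferInstance
  have h03 : Group.IsNilpotent H ↔ ∀ (p : ℕ) (_hp : Fact p.Prime) (P : Sylow p H),
      (P : Subgroup H).Normal := (Group.isNilpotent_of_finite_tfae (G := H)).out 0 3
  have hPn : (P : Subgroup H).Normal := h03.mp ‹Group.IsNilpotent H› p ‹Fact p.Prime› P
  obtain ⟨Q, hQ⟩ := Subgroup.exists_right_complement'_of_coprime P.card_coprime_index
  have hQidx : Q.index = Nat.card P := hQ.index_eq_card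
  have hQcard : Nat.card Q = (P : Subgroup H).index := hQ.symm.index_eq_card.symm
  obtain ⟨k, hk⟩ := IsPGroup.iff_card.mp P.isPGroup'
  have hcop : (Nat.card Q).Coprime p := by
    rw [hQcard]
    exact Nat.Coprime.symm ((Nat.Prime.coprime_iff_not_dvd Fact.out).mpr P.not_dvd_index)
  refine ⟨Q, ?_, hcop, k, by rw [hQidx, hk]⟩
  rw [← Subgroup.normalizer_eq_top_iff]
  have hnc : NormalizerCondition H := Group.normalizerCondition_of_isNilpotent
  rw [normalizerCondition_iff_only_full_group_self_normalizing] at hnc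
  apply hnc
  apply normalizer_normalizer_of_hall
  have h1 : Q.relIndex (Subgroup.normalizer (Q : Set H)) ∣ p ^ k := by
    rw [← hk, ← hQidx]
    exact Dvd.intro _ (Subgroup.relIndex_mul_index Subgroup.le_normalizer)
  exact Nat.Coprime.coprime_dvd_right h1 (Nat.Coprime.pow_right k hcop)

section NilQuot

variable [Finite G] (A : Subgroup G) [hAn : A.Normal] (p : ℕ) [Fact p.Prime]

theorem sylow_normal_of_nilpotent_quotient (hA : IsPGroup p A) [Group.IsNilpotent (G ⧸ A)]
    (P : Sylow p G) : (P : Subgroup G).Normal := by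
  have hAP : A ≤ P := normal_pgroup_le_sylow p A hA P
  have h03 : Group.IsNilpotent (G ⧸ A) ↔ ∀ (p : ℕ) (_hp : Fact p.Prime) (P : Sylow p (G ⧸ A)),
      (P : Subgroup (G ⧸ A)).Normal := (Group.isNilpotent_of_finite_tfae (G := G ⧸ A)).out 0 3
  have h1 : ((P.mapSurjective (QuotientGroup.mk'_surjective A) : Sylow p (G ⧸ A)) :
      Subgroup (G ⧸ A)).Normal := h03.mp ‹Group.IsNilpotent (G ⧸ A)› p ‹Fact p.Prime› _
  rw [Sylow.coe_mapSurjective] at h1
  have h2 := h1.comap (QuotientGroup.mk' A)
  rwa [Subgroup.comap_map_eq, QuotientGroup.ker_mk', sup_eq_left.mpr hAP] at h2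

/-- If `G / A` is nilpotent for a minimal normal `p`-subgroup `A`, the normaliser of a Hall
`p'`-subgroup is nilpotent. -/
theorem normalizer_hall_nilpotent (hA : IsPGroup p A)
    (hmin : ∀ M : Subgroup G, M.Normal → M ≤ A → M = ⊥ ∨ M = A) (hAb : A ≠ ⊥)
    [Group.IsNilpotent (G ⧸ A)] (P : Sylow p G) (Q : Subgroup G)
    (hQ : Nat.card Q = (P : Subgroup G).index) :
    Group.IsNilpotent (Subgroup.normalizer (Q : Set G)) := by
  have hPn := sylow_normal_of_nilpotent_quotient A p hA P
  have hAP : ⁅A, (P : Subgroup G)⁆ = ⊥ := by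
    have hlt := commutator_lt_of_pgroup p (P : Subgroup G) A P.isPGroup' hA
      (by rw [Subgroup.normalizer_eq_top]; exact le_top) hAb
    have hn : (⁅A, (P : Subgroup G)⁆).Normal := Subgroup.commutator_normal A P
    rcases hmin _ hn hlt.le with h | h
    · exact h
    · exact absurd h hlt.ne
  have hPcop : (Nat.card (P : Subgroup G)).Coprime (Nat.card Q) := by
    rw [hQ]; exact P.card_coprime_index
  have hPQ : Q ⊔ (P : Subgroup G) = ⊤ := by
    rw [← Subgroup.card_eq_iff_eq_top,
      card_sup_of_disjoint_normal Q (P : Subgroup G)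
        (Subgroup.disjoint_of_coprime_natCard hPcop.symm).eq_bot,
      hQ, mul_comm]
    exact Subgroup.card_mul_index _
  have hAQ : A ⊓ Q = ⊥ := by
    apply Disjoint.eq_bot
    apply Subgroup.disjoint_of_coprime_natCard
    obtain ⟨a, ha⟩ := IsPGroup.iff_card.mp hA
    obtain ⟨k, hk⟩ := IsPGroup.iff_card.mp P.isPGroup'
    rw [ha]
    rw [hk] at hPcop
    have hp1 : (p : ℕ).Coprime (Nat.card Q) ∨ k = 0 := by
      rcases Nat.eq_zero_or_pos k with h0 | h0
      · exact Or.inr h0
      · exact Or.inl ((Nat.coprime_pow_left_iff h0 _ _).mp hPcop)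
    rcases hp1 with h | h
    · exact Nat.Coprime.pow_left a h
    · -- `P` trivial, hence `A` trivial
      exfalso
      apply hAb
      have hP1 : Nat.card (P : Subgroup G) = 1 := by rw [hk, h, pow_zero]
      have hAP' : A ≤ P := normal_pgroup_le_sylow p A hA P
      rw [Subgroup.card_eq_one.mp hP1] at hAP'
      exact le_bot_iff.mp hAP'
  apply Subgroup.isNilpotent_of_ker_le_center
    ((QuotientGroup.mk' A).comp (Subgroup.normalizer (Q : Set G)).subtype)
  rintro ⟨x, hxM⟩ hx
  rw [MonoidHom.mem_ker] at hx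
  have hxA : x ∈ A := by
    have h1 : (QuotientGroup.mk' A) x = 1 := hx
    exact (QuotientGroup.eq_one_iff x).mp h1
  rw [Subgroup.mem_center_iff]
  rintro ⟨m, hmM⟩
  apply Subtype.ext
  change m * x = x * m
  have hcent : Subgroup.centralizer {x} = ⊤ := by
    rw [eq_top_iff, ← hPQ]
    apply sup_le
    · intro q hq
      rw [Subgroup.mem_centralizer_singleton_iff]
      have h1 : x * q * x⁻¹ * q⁻¹ ∈ Q :=
        Q.mul_mem ((Subgroup.mem_normalizer_iff.mp hxM q).mp hq) (Q.inv_mem hq)
      have h2 : x * q * x⁻¹ * q⁻¹ ∈ A := by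
        have h3 := A.mul_mem hxA (hAn.conj_mem _ (A.inv_mem hxA) q)
        have h4 : x * (q * x⁻¹ * q⁻¹) = x * q * x⁻¹ * q⁻¹ := by group
        rwa [h4] at h3
      have h3 : x * q * x⁻¹ * q⁻¹ = 1 := by
        have h4 : x * q * x⁻¹ * q⁻¹ ∈ A ⊓ Q := ⟨h2, h1⟩
        rw [hAQ] at h4
        exact Subgroup.mem_bot.mp h4
      calc q * x = (x * q * x⁻¹ * q⁻¹)⁻¹ * (x * q) := by group
        _ = x * q := by rw [h3, inv_one, one_mul]
    · intro y hy
      rw [Subgroup.mem_centralizer_singleton_iff]
      have h1 := (Subgroup.commutator_eq_bot_iff_le_centralizer.mp hAP) hxA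
      rw [Subgroup.mem_centralizer_iff] at h1
      exact h1 y hy
  have hm : m ∈ Subgroup.centralizer {x} := by rw [hcent]; trivial
  rw [Subgroup.mem_centralizer_singleton_iff] at hm
  exact hm

theorem exists_isC_of_nilpotent_quotient (hA : IsPGroup p A)
    (hmin : ∀ M : Subgroup G, M.Normal → M ≤ A → M = ⊥ ∨ M = A) (hAb : A ≠ ⊥)
    [Group.IsNilpotent (G ⧸ A)] : ∃ C : Subgroup G, IsC C := by
  obtain ⟨P⟩ : Nonempty (Sylow p G) := inferInstance
  have hPn := sylow_normal_of_nilpotent_quotient A p hA P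
  obtain ⟨Q, hQ⟩ := Subgroup.exists_right_complement'_of_coprime P.card_coprime_index
  have hQcard : Nat.card Q = (P : Subgroup G).index := hQ.symm.index_eq_card.symm
  have hQidx : Q.index = Nat.card (P : Subgroup G) := hQ.index_eq_card
  refine ⟨Subgroup.normalizer (Q : Set G),
    normalizer_hall_nilpotent A p hA hmin hAb P Q hQcard, ?_⟩
  apply normalizer_normalizer_of_hall
  have h1 : Q.relIndex (Subgroup.normalizer (Q : Set G)) ∣ Nat.card (P : Subgroup G) := by
    rw [← hQidx]
    exact Dvd.intro _ (Subgroup.relIndex_mul_index Subgroup.le_normalizer)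
  rw [hQcard]
  exact Nat.Coprime.coprime_dvd_right h1 P.card_coprime_index.symm

theorem conj_of_sup_eq_top (hA : IsPGroup p A)
    (hmin : ∀ M : Subgroup G, M.Normal → M ≤ A → M = ⊥ ∨ M = A) (hAb : A ≠ ⊥)
    {C D : Subgroup G} (hC : IsC C) (hD : IsC D) (hCA : C ⊔ A = ⊤) (hDA : D ⊔ A = ⊤) :
    ∃ g : G, MulAut.conj g • C = D := by
  have hnil : Group.IsNilpotent (G ⧸ A) := by
    have := hC.1
    have h1 : C.map (QuotientGroup.mk' A) = ⊤ := by
      have h2 := congrArg (Subgroup.map (QuotientGroup.mk' A)) hCA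
      rwa [Subgroup.map_sup, QuotientGroup.map_mk'_self, sup_bot_eq,
        Subgroup.map_top_of_surjective _ (QuotientGroup.mk'_surjective A)] at h2
    apply Group.nilpotent_of_surjective ((QuotientGroup.mk' A).comp C.subtype)
    intro y
    have h2 : y ∈ C.map (QuotientGroup.mk' A) := by rw [h1]; trivial
    obtain ⟨c, hc, rfl⟩ := h2
    exact ⟨⟨c, hc⟩, rfl⟩
  obtain ⟨P⟩ : Nonempty (Sylow p G) := inferInstance
  have hPn := sylow_normal_of_nilpotent_quotient A p hA P
  obtain ⟨m, hm⟩ := IsPGroup.iff_card.mp P.isPGroup'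
  obtain ⟨a, ha⟩ := IsPGroup.iff_card.mp hA
  have hpP : ¬ p ∣ (P : Subgroup G).index := P.not_dvd_index
  have key : ∀ E : Subgroup G, IsC E → E ⊔ A = ⊤ → ∃ Q : Subgroup G,
      E ≤ Subgroup.normalizer (Q : Set G) ∧ Nat.card Q = (P : Subgroup G).index := by
    intro E hE hEA
    have := hE.1
    obtain ⟨Q₀, hQ₀n, hQ₀c, k, hQ₀i⟩ := exists_normal_pcompl E p
    refine ⟨Q₀.map E.subtype, ?_, ?_⟩
    · intro e he
      rw [Subgroup.mem_normalizer_iff]
      intro x
      constructor
      · rintro ⟨q, hq, rfl⟩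
        exact ⟨⟨e, he⟩ * q * (⟨e, he⟩ : E)⁻¹, hQ₀n.conj_mem q hq ⟨e, he⟩, rfl⟩
      · rintro ⟨q, hq, hqx⟩
        refine ⟨(⟨e, he⟩ : E)⁻¹ * q * (⟨e, he⟩ : E), ?_, ?_⟩
        · have h1 := hQ₀n.conj_mem q hq (⟨e, he⟩ : E)⁻¹
          rwa [inv_inv] at h1
        · have h2 : E.subtype ((⟨e, he⟩ : E)⁻¹ * q * (⟨e, he⟩ : E)) = e⁻¹ * (q : G) * e := rfl
          rw [h2]
          have h3 : (q : G) = e * x * e⁻¹ := hqx
          rw [h3]; group
    · rw [Subgroup.card_subtype]
      have h1 := Subgroup.card_mul_index Q₀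
      rw [hQ₀i] at h1
      have h2 : Nat.card G ∣ Nat.card E * Nat.card A := by
        have h3 := card_sup_dvd_of_normal E A
        rwa [hEA, Subgroup.card_top] at h3
      have h4 := Subgroup.card_mul_index (P : Subgroup G)
      rw [hm] at h4
      -- `|Q₀| * p ^ k = |E|`, `|G| ∣ |E| p ^ a`, `|G| = p ^ m * [G : P]`
      have hcopQ : ∀ j : ℕ, (Nat.card Q₀).Coprime (p ^ j) := fun j => Nat.Coprime.pow_right j hQ₀c
      have hcopP : ∀ j : ℕ, ((P : Subgroup G).index).Coprime (p ^ j) := fun j =>
        Nat.Coprime.pow_right j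
          (Nat.Coprime.symm ((Nat.Prime.coprime_iff_not_dvd Fact.out).mpr hpP))
      apply Nat.dvd_antisymm
      · have h5 : Nat.card Q₀ ∣ p ^ m * (P : Subgroup G).index := by
          rw [h4]
          have h6 : Nat.card Q₀ ∣ Nat.card E := Dvd.intro _ h1
          exact h6.trans (Subgroup.card_subgroup_dvd_card E)
        exact (hcopQ m).dvd_of_dvd_mul_left h5
      · have h5 : (P : Subgroup G).index ∣ Nat.card Q₀ * p ^ (k + a) := by
          have h6 : (P : Subgroup G).index ∣ Nat.card G := Dvd.intro_left _ h4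
          have h7 : Nat.card E * Nat.card A = Nat.card Q₀ * p ^ (k + a) := by
            rw [← h1, ha, pow_add]; ring
          rw [← h7]
          exact h6.trans h2
        exact (hcopP (k + a)).dvd_of_dvd_mul_right h5
  obtain ⟨QC, hQC2, hQC3⟩ := key C hC hCA
  obtain ⟨QD, hQD2, hQD3⟩ := key D hD hDA
  have hPsolv : Group.IsSolvable (P : Subgroup G) := isSolvable_of_isPGroup _ P.isPGroup'
  obtain ⟨g, hg⟩ := sz_conj (P : Subgroup G) P.card_coprime_index (Or.inl hPsolv) QC QD
    (isComplement'_of_card_eq_index _ _ P.card_coprime_index hQC3)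
    (isComplement'_of_card_eq_index _ _ P.card_coprime_index hQD3)
  refine ⟨g, ?_⟩
  have hM := normalizer_hall_nilpotent A p hA hmin hAb P QD hQD3
  have h1 : MulAut.conj g • C = Subgroup.normalizer (QD : Set G) := by
    apply eq_of_isNilpotent_of_normalizer
    · rw [← hg, normalizer_conj_smul]
      exact Subgroup.pointwise_smul_le_pointwise_smul_iff.mpr hQC2
    · rw [(isC_conj g hC).2]; exact inf_le_right
  have h2 : D = Subgroup.normalizer (QD : Set G) :=
    eq_of_isNilpotent_of_normalizer hQD2 (by rw [hD.2]; exact inf_le_right)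
  rw [h1, ← h2]

end NilQuot

/-- A Carter subgroup of the preimage `K` of a Carter subgroup of `G / A` is a Carter subgroup
of `G` (given conjugacy of Carter subgroups in smaller groups). -/
theorem isC_lift [Finite G] [Group.IsSolvable G]
    (hconj : ∀ (H : Type u) [Group H] [Finite H] [Group.IsSolvable H], Nat.card H < Nat.card G →
      ∀ C D : Subgroup H, IsC C → IsC D → ∃ g : H, MulAut.conj g • C = D)
    (A : Subgroup G) [A.Normal] (Kb : Subgroup (G ⧸ A)) (hKb : IsC Kb)
    (hKne : Kb.comap (QuotientGroup.mk' A) ≠ ⊤)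
    (C₀ : Subgroup (Kb.comap (QuotientGroup.mk' A))) (hC₀ : IsC C₀) :
    IsC (C₀.map (Kb.comap (QuotientGroup.mk' A)).subtype) := by
  have hcardK : Nat.card (Kb.comap (QuotientGroup.mk' A)) < Nat.card G := by
    have h1 := card_lt_card_of_lt (lt_top_iff_ne_top.mpr hKne)
    rwa [Subgroup.card_top] at h1
  have hsubK : ∀ L : Subgroup (Kb.comap (QuotientGroup.mk' A)), L ≠ ⊤ →
      ∀ C D : Subgroup L, IsC C → IsC D → ∃ l : L, MulAut.conj l • C = D := fun L _ =>
    hconj L (lt_of_le_of_lt (Subgroup.card_le_card_group L) hcardK)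
  have hAK : A ≤ Kb.comap (QuotientGroup.mk' A) := by
    intro x hx
    rw [Subgroup.mem_comap]
    have h1 : (QuotientGroup.mk' A) x = 1 := (QuotientGroup.eq_one_iff x).mpr hx
    rw [h1]; exact Kb.one_mem
  have hself := normalizer_sup_le hsubK hC₀ (A.subgroupOf (Kb.comap (QuotientGroup.mk' A)))
  have hf' : Function.Surjective ((QuotientGroup.mk' A).subgroupComap Kb) :=
    MonoidHom.subgroupComap_surjective_of_surjective _ _ (QuotientGroup.mk'_surjective A)
  have hker : ((QuotientGroup.mk' A).subgroupComap Kb).ker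
      = A.subgroupOf (Kb.comap (QuotientGroup.mk' A)) := by
    ext x
    rw [MonoidHom.mem_ker, Subgroup.mem_subgroupOf]
    constructor
    · intro h
      have h1 := congrArg Subtype.val h
      exact (QuotientGroup.eq_one_iff (x : G)).mp h1
    · intro h
      apply Subtype.ext
      exact (QuotientGroup.eq_one_iff (x : G)).mpr h
  have hL₀ : C₀ ⊔ A.subgroupOf (Kb.comap (QuotientGroup.mk' A)) = ⊤ := by
    have := hKb.1
    have hnc : NormalizerCondition Kb := Group.normalizerCondition_of_isNilpotent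
    rw [normalizerCondition_iff_only_full_group_self_normalizing] at hnc
    have h1 : (C₀ ⊔ A.subgroupOf (Kb.comap (QuotientGroup.mk' A))).map
        ((QuotientGroup.mk' A).subgroupComap Kb) = ⊤ := by
      apply hnc
      apply le_antisymm _ Subgroup.le_normalizer
      intro y hy
      obtain ⟨x, rfl⟩ := hf' y
      have h2 : x ∈ (Subgroup.normalizer
          (((C₀ ⊔ A.subgroupOf (Kb.comap (QuotientGroup.mk' A))).map
            ((QuotientGroup.mk' A).subgroupComap Kb) : Subgroup Kb) : Set Kb)).comap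
              ((QuotientGroup.mk' A).subgroupComap Kb) := hy
      rw [Subgroup.comap_normalizer_eq_of_surjective _ hf', Subgroup.comap_map_eq, hker,
        sup_assoc, sup_idem] at h2
      exact Subgroup.mem_map_of_mem _ (hself h2)
    have h3 := congrArg (Subgroup.comap ((QuotientGroup.mk' A).subgroupComap Kb)) h1
    rwa [Subgroup.comap_map_eq, hker, sup_assoc, sup_idem, Subgroup.comap_top] at h3
  have := hC₀.1
  refine ⟨isNilpotent_map_subtype _ C₀, le_antisymm ?_ Subgroup.le_normalizer⟩
  intro x hx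
  have hCA : C₀.map (Kb.comap (QuotientGroup.mk' A)).subtype ⊔ A
      = Kb.comap (QuotientGroup.mk' A) := by
    have h1 := congrArg (Subgroup.map (Kb.comap (QuotientGroup.mk' A)).subtype) hL₀
    rwa [Subgroup.map_sup, Subgroup.subgroupOf_map_subtype, ← MonoidHom.range_eq_map,
      Subgroup.range_subtype, inf_eq_left.mpr hAK] at h1
  have hxK' : x ∈ Subgroup.normalizer ((Kb.comap (QuotientGroup.mk' A) : Subgroup G) : Set G) := by
    rw [mem_normalizer_iff_conj_smul]
    have h1 : MulAut.conj x • (C₀.map (Kb.comap (QuotientGroup.mk' A)).subtype ⊔ A)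
        = C₀.map (Kb.comap (QuotientGroup.mk' A)).subtype ⊔ A := by
      rw [Subgroup.smul_sup, (mem_normalizer_iff_conj_smul x _).mp hx,
        Subgroup.Normal.conj_smul_eq_self]
    rwa [hCA] at h1
  have hxK : x ∈ Kb.comap (QuotientGroup.mk' A) := by
    have h1 : x ∈ (Subgroup.normalizer (Kb : Set (G ⧸ A))).comap (QuotientGroup.mk' A) := by
      rw [Subgroup.comap_normalizer_eq_of_surjective _ (QuotientGroup.mk'_surjective A)]
      exact hxK'
    rwa [hKb.2] at h1
  exact mem_of_mem_normalizer_map _ C₀ hC₀.2 x hxK hx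

theorem carter_aux (n : ℕ) : ∀ (G : Type u) [Group G] [Finite G] [Group.IsSolvable G],
    Nat.card G ≤ n → (∃ C : Subgroup G, IsC C) ∧
      ∀ C D : Subgroup G, IsC C → IsC D → ∃ g : G, MulAut.conj g • C = D := by
  induction n with
  | zero =>
    intro G _ _ _ hn
    exact absurd hn (by have := Nat.card_pos (α := G); omega)
  | succ n ih =>
    intro G _ _ _ hn
    by_cases hsub : Subsingleton G
    · have hall : ∀ C D : Subgroup G, C = D := fun C D => by
        ext x
        rw [Subsingleton.elim x 1]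
        exact ⟨fun _ => D.one_mem, fun _ => C.one_mem⟩
      refine ⟨⟨⊥, inferInstance, hall _ _⟩, fun C D _ _ => ⟨1, hall _ _⟩⟩
    · rw [not_subsingleton_iff_nontrivial] at hsub
      obtain ⟨A, hAn, hAb, hmin⟩ := exists_minimal_normal (G := G)
      obtain ⟨p, hp, hpA⟩ := minimal_normal_isPGroup A hAb hmin
      have : Fact p.Prime := ⟨hp⟩
      have hconj : ∀ (H : Type u) [Group H] [Finite H] [Group.IsSolvable H],
          Nat.card H < Nat.card G →
          ∀ C D : Subgroup H, IsC C → IsC D → ∃ g : H, MulAut.conj g • C = D :=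
        fun H _ _ _ hH => (ih H (by omega)).2
      have hsubconj : ∀ L : Subgroup G, L ≠ ⊤ → ∀ C D : Subgroup L, IsC C → IsC D →
          ∃ l : L, MulAut.conj l • C = D := by
        intro L hL
        have h1 := card_lt_card_of_lt (lt_top_iff_ne_top.mpr hL)
        rw [Subgroup.card_top] at h1
        exact hconj L h1
      have hcardq : Nat.card (G ⧸ A) < Nat.card G := by
        have h1 : Nat.card (G ⧸ A) * Nat.card A = Nat.card G :=
          (Subgroup.card_eq_card_quotient_mul_card_subgroup A).symm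
        have h2 : 1 < Nat.card A := by
          rw [Subgroup.one_lt_card_iff_ne_bot]; exact hAb
        have h3 : 0 < Nat.card (G ⧸ A) := Nat.card_pos
        nlinarith
      have hq := ih (G ⧸ A) (by omega)
      constructor
      · -- existence
        obtain ⟨Kb, hKb⟩ := hq.1
        by_cases hKtop : Kb.comap (QuotientGroup.mk' A) = ⊤
        · have hKb' : Kb = ⊤ := by
            rw [← Subgroup.map_comap_eq_self_of_surjective (QuotientGroup.mk'_surjective A) Kb,
              hKtop, Subgroup.map_top_of_surjective _ (QuotientGroup.mk'_surjective A)]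
          have hnil : Group.IsNilpotent (G ⧸ A) := by
            have h1 := hKb.1
            rw [hKb'] at h1
            exact Group.nilpotent_of_mulEquiv Subgroup.topEquiv
          exact exists_isC_of_nilpotent_quotient A p hpA hmin hAb
        · have hcardK : Nat.card (Kb.comap (QuotientGroup.mk' A)) < Nat.card G := by
            have h1 := card_lt_card_of_lt (lt_top_iff_ne_top.mpr hKtop)
            rwa [Subgroup.card_top] at h1
          obtain ⟨C₀, hC₀⟩ := (ih (Kb.comap (QuotientGroup.mk' A)) (by omega)).1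
          exact ⟨_, isC_lift hconj A Kb hKb hKtop C₀ hC₀⟩
      · -- conjugacy
        intro C D hC hD
        have hCb := isC_map_mk' hsubconj hC A
        have hDb := isC_map_mk' hsubconj hD A
        obtain ⟨gb, hgb⟩ := hq.2 _ _ hCb hDb
        obtain ⟨g, rfl⟩ := QuotientGroup.mk'_surjective A gb
        have hmap : (MulAut.conj g • C).map (QuotientGroup.mk' A) = D.map (QuotientGroup.mk' A) := by
          rw [← hgb, map_conj_smul]
        have hsup : MulAut.conj g • C ⊔ A = D ⊔ A := by
          have h1 := congrArg (Subgroup.comap (QuotientGroup.mk' A)) hmap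
          rwa [Subgroup.comap_map_eq, Subgroup.comap_map_eq, QuotientGroup.ker_mk'] at h1
        have hC' := isC_conj g hC
        by_cases htop : D ⊔ A = ⊤
        · obtain ⟨g', hg'⟩ := conj_of_sup_eq_top A p hpA hmin hAb hC' hD (hsup.trans htop) htop
          exact ⟨g' * g, by rw [conj_mul_smul, hg']⟩
        · have hC'le : MulAut.conj g • C ≤ D ⊔ A := by rw [← hsup]; exact le_sup_left
          obtain ⟨l, hl⟩ := hsubconj _ htop _ _ (isC_subgroupOf hC' hC'le)
            (isC_subgroupOf hD le_sup_left)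
          have h1 := conj_smul_eq_of_subgroupOf hC'le le_sup_left l hl
          exact ⟨(l : G) * g, by rw [conj_mul_smul, h1]⟩

end Carter

/-- Carter subgroups of a finite solvable group exist and are conjugate (= S0045). -/
theorem carter {G : Type*} [Group G] [Finite G] [Group.IsSolvable G] :
    (∃ C : Subgroup G, Group.IsNilpotent C ∧ Subgroup.normalizer (C : Set G) = C) ∧
    ∀ C D : Subgroup G, Group.IsNilpotent C → Subgroup.normalizer (C : Set G) = C →
      Group.IsNilpotent D → Subgroup.normalizer (D : Set G) = D →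
      ∃ g : G, MulAut.conj g • C = D := by
  obtain ⟨h1, h2⟩ := Carter.carter_aux (Nat.card G) G le_rfl
  exact ⟨h1, fun C D hC1 hC2 hD1 hD2 => h2 C D ⟨hC1, hC2⟩ ⟨hD1, hD2⟩⟩

end Cfsg.Agent.H1
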