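import Cfsg.Agent.H87.CenDefs
import Cfsg.Agent.H88.Puig
import Cfsg.Agent.H86.FusExt

set_option autoImplicit false
set_option maxHeartbeats 800000

/-!
S5201-GOODEXT (for helper87): in the configuration `CCfg`, every `E`-automorphism of an `E`-centric
subgroup `Q` extends to a map of `F` on `Q C_S(T)` acting trivially on `C_S(T)` modulo `T`.
-/

namespace Cfsg.Agent.H1.Cen

open Cfsg Cfsg.FusionSystem Cfsg.Agent.H86 Cfsg.Agent.H87 Cfsg.Agent.H88

universe u

variable {Ω : Type u} [Group Ω] {S T : Subgroup Ω}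

/-- Step 1: a map of `D` on `P C_S(T)` (`P ≤ T`) can be replaced by a map of `F` that agrees with it
on `P` and is trivial modulo `T` on `C_S(T)`. -/
theorem good_ext_step [Finite S] {p : ℕ} [Fact p.Prime] (hS : IsPGroup p S) {F : FusionSystem S}
    {E : FusionSystem T} {D : FusionSystem (T ⊔ centralizerIn S T)} (hC : CCfg p F E D)
    (P : Subgroup Ω) (hP : P ≤ T) (f : Ω → Ω) (hf : Mor D (P ⊔ centralizerIn S T) f) :
    ∃ a : Ω → Ω, Mor F (P ⊔ centralizerIn S T) a ∧ (∀ x ∈ P, a x = f x) ∧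
      ∀ c ∈ centralizerIn S T, c⁻¹ * a c ∈ T := by
  have hTS : T ≤ S := hC.sc.1
  have hCS : centralizerIn S T ≤ S := inf_le_left
  have hS0 : T ⊔ centralizerIn S T ≤ S := sup_le hTS hCS
  haveI : Finite ↥(T ⊔ centralizerIn S T) := finite_of_le hS0
  have hpS0 : IsPGroup p ↥(T ⊔ centralizerIn S T) := hS.to_le hS0
  have hscD : D.StronglyClosed T := stronglyClosed_iff.2 ⟨le_sup_left, fun R g hR hg x hx =>
    (stronglyClosed_iff.1 hC.sc).2 R g hR (hC.leDF R g hg) x hx⟩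
  obtain ⟨f', hf', hff'⟩ := exists_extension_mod hpS0 hC.satD hscD hf
  have hsup : P ⊔ centralizerIn S T ⊔ T = T ⊔ centralizerIn S T := by
    apply le_antisymm
    · exact sup_le (sup_le (hP.trans le_sup_left) le_sup_right) le_sup_left
    · exact sup_le le_sup_right (le_sup_right.trans le_sup_left)
  rw [hsup] at hf'
  have hf'T : imgS T f' = T := imgS_stronglyClosed hscD hf' le_sup_left
  have hf'E : Mor E T f' := hC.res T f' le_rfl (hf'.restrict le_sup_left)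
  obtain ⟨b, hb, hbT, hbC⟩ := hC.ext (mkAut hf'E hf'T) (mkAut_mem hf'E hf'T)
  have hbT' : ∀ x ∈ T, b x = f' x := fun x hx => by rw [hbT x hx, autFun_mkAut hf'E hf'T hx]
  have hbS0 : ∀ x ∈ T ⊔ centralizerIn S T, b x ∈ T ⊔ centralizerIn S T := by
    refine mor_sup_maps hb (fun x hx => ?_) (fun c hc => ?_)
    · rw [hbT' x hx]
      exact Subgroup.mem_sup_left (by
        rw [← hf'T]; exact (hf'.restrict le_sup_left).mem_imgS_of_mem hx)
    · have e : b c = c * (c⁻¹ * b c) := by group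
      rw [e]
      exact Subgroup.mul_mem _ (Subgroup.mem_sup_right hc) (Subgroup.mem_sup_left (hbC c hc))
  have hbimg : imgS (T ⊔ centralizerIn S T) b = T ⊔ centralizerIn S T := imgS_eq_of_maps hb hbS0
  have hf'F : Mor F (T ⊔ centralizerIn S T) f' := hC.leDF _ _ hf'
  have hf'S0 : ∀ x ∈ T ⊔ centralizerIn S T, f' x ∈ T ⊔ centralizerIn S T := fun x hx => hf'.mem hx
  have hbinv : Mor F (T ⊔ centralizerIn S T) (invOn (T ⊔ centralizerIn S T) b) := by
    have := hb.inv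
    rwa [hbimg] at this
  have hh : Mor F (T ⊔ centralizerIn S T) (invOn (T ⊔ centralizerIn S T) b ∘ f') :=
    hf'F.comp hbinv hf'S0
  obtain ⟨h, hhdef⟩ : ∃ h : Ω → Ω, h = invOn (T ⊔ centralizerIn S T) b ∘ f' := ⟨_, rfl⟩
  rw [← hhdef] at hh
  have hhT : ∀ x ∈ T, h x = x := fun x hx => by
    rw [hhdef]
    show invOn (T ⊔ centralizerIn S T) b (f' x) = x
    rw [← hbT' x hx, invOn_apply hb.injOn (Subgroup.mem_sup_left hx)]
  have hbh : ∀ x ∈ T ⊔ centralizerIn S T, b (h x) = f' x := fun x hx => by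
    rw [hhdef]
    show b (invOn (T ⊔ centralizerIn S T) b (f' x)) = f' x
    exact hb.apply_invOn (by rw [hbimg]; exact hf'S0 x hx)
  have hhC : ∀ c ∈ centralizerIn S T, h c ∈ centralizerIn S T := by
    intro c hc
    rw [mem_centralizerIn_iff]
    refine ⟨hh.mem (Subgroup.mem_sup_right hc), fun t ht => ?_⟩
    have h1 := hh.map_mul (Subgroup.mem_sup_left ht) (Subgroup.mem_sup_right hc)
    have h2 := hh.map_mul (Subgroup.mem_sup_right hc) (Subgroup.mem_sup_left ht)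
    rw [hhT t ht] at h1 h2
    rw [← h1, ← h2, (mem_centralizerIn_iff.1 hc).2 t ht]
  have hhS0 : ∀ x ∈ T ⊔ centralizerIn S T, h x ∈ T ⊔ centralizerIn S T :=
    mor_sup_maps hh (fun x hx => by rw [hhT x hx]; exact Subgroup.mem_sup_left hx)
      (fun c hc => Subgroup.mem_sup_right (hhC c hc))
  have hhimg : imgS (T ⊔ centralizerIn S T) h = T ⊔ centralizerIn S T := imgS_eq_of_maps hh hhS0
  have hhinv : Mor F (T ⊔ centralizerIn S T) (invOn (T ⊔ centralizerIn S T) h) := by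
    have := hh.inv
    rwa [hhimg] at this
  have hiT : ∀ x ∈ T, invOn (T ⊔ centralizerIn S T) h x = x := fun x hx => by
    conv_lhs => rw [← hhT x hx]
    exact invOn_apply hh.injOn (Subgroup.mem_sup_left hx)
  have hCimg : imgS (centralizerIn S T) h = centralizerIn S T := by
    haveI : Finite ↥(centralizerIn S T) := finite_of_le hCS
    exact imgS_eq_of_maps (hh.restrict le_sup_right) hhC
  have hiC : ∀ c ∈ centralizerIn S T, invOn (T ⊔ centralizerIn S T) h c ∈ centralizerIn S T ∧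
      h (invOn (T ⊔ centralizerIn S T) h c) = c := by
    intro c hc
    rw [← hCimg] at hc
    obtain ⟨c', hc', rfl⟩ := (hh.restrict le_sup_right).mem_imgS.1 hc
    rw [invOn_apply hh.injOn (Subgroup.mem_sup_right hc')]
    exact ⟨hc', rfl⟩
  have hle : P ⊔ centralizerIn S T ≤ T ⊔ centralizerIn S T := sup_le_sup_right hP _
  have hiPC : ∀ x ∈ P ⊔ centralizerIn S T,
      invOn (T ⊔ centralizerIn S T) h x ∈ P ⊔ centralizerIn S T := by
    refine mor_sup_maps (hhinv.restrict hle) (fun x hx => ?_) (fun c hc => ?_)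
    · rw [hiT x (hP hx)]; exact Subgroup.mem_sup_left hx
    · exact Subgroup.mem_sup_right (hiC c hc).1
  have hfF : Mor F (P ⊔ centralizerIn S T) f := hC.leDF _ _ hf
  refine ⟨f ∘ invOn (T ⊔ centralizerIn S T) h, (hhinv.restrict hle).comp hfF hiPC,
    fun x hx => ?_, fun c hc => ?_⟩
  · show f (invOn (T ⊔ centralizerIn S T) h x) = f x
    rw [hiT x (hP hx)]
  · show c⁻¹ * f (invOn (T ⊔ centralizerIn S T) h c) ∈ T
    obtain ⟨hc', hc'c⟩ := hiC c hc
    obtain ⟨c', hc'def⟩ : ∃ c' : Ω, c' = invOn (T ⊔ centralizerIn S T) h c := ⟨_, rfl⟩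
    rw [← hc'def] at hc' hc'c ⊢
    have h1 : b c = f' c' := by
      rw [← hc'c]; exact hbh c' (Subgroup.mem_sup_right hc')
    have h2 := hbC c hc
    have h3 := hff' c' (Subgroup.mem_sup_right hc')
    have e : c⁻¹ * f c' = (c⁻¹ * b c) * ((f c')⁻¹ * f' c')⁻¹ := by rw [h1]; group
    rw [e]
    exact T.mul_mem h2 (T.inv_mem h3)

theorem good_ext [Finite S] {p : ℕ} [Fact p.Prime] (hS : IsPGroup p S) {F : FusionSystem S}
    {E : FusionSystem T} {D : FusionSystem (T ⊔ centralizerIn S T)} (hC : CCfg p F E D)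
    (Q : Subgroup Ω) (hQ : E.IsCentric Q) (α : MulAut Q) (hα : α ∈ E.autGroup Q) :
    ∃ a : Ω → Ω, Mor F (Q ⊔ centralizerIn S T) a ∧ (∀ x ∈ Q, a x = autFun Q α x) ∧
      ∀ c ∈ centralizerIn S T, c⁻¹ * a c ∈ T := by
  have hTS : T ≤ S := hC.sc.1
  have hQT : Q ≤ T := hQ.1
  obtain ⟨Q', hconj, -, hrec⟩ := hC.satD Q (hQT.trans le_sup_left)
  obtain ⟨ψ, hψ, hψimg⟩ := isConj_iff.1 hconj
  have hψE : Mor E Q ψ := hC.res Q ψ hQT hψ
  have hQ'T : Q' ≤ T := hψimg ▸ hψE.imgS_le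
  have hcen : centralizerIn T Q' ≤ Q' := hQ.2 Q' (isConj_iff.2 ⟨ψ, hψE, hψimg⟩)
  have hCle : centralizerIn S T ≤ centralizerIn (T ⊔ centralizerIn S T) Q := by
    intro c hc
    rw [mem_centralizerIn_iff]
    exact ⟨Subgroup.mem_sup_right hc, fun x hx => (mem_centralizerIn_iff.1 hc).2 x (hQT hx)⟩
  -- the extension of ψ
  obtain ⟨ψ1, hψ1, hψ1Q⟩ := receptive_extend' hrec hψ hψimg
  have hle1 : Q ⊔ centralizerIn S T ≤ extSub (T ⊔ centralizerIn S T) Q ψ :=
    sup_le (le_extSub hψ) (hCle.trans (centralizerIn_le_extSub hψ))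
  obtain ⟨ψh, hψh, hψhQ, hψhC⟩ := good_ext_step hS hC Q hQT ψ1 (hψ1.restrict hle1)
  -- the extension of ψ ∘ α
  have hαE : Mor E Q (autFun Q α) := (mem_autGroup_iff hQT α).1 hα
  have hαD : Mor D Q (autFun Q α) := hC.leED _ _ hαE
  have hφ : Mor D Q (ψ ∘ autFun Q α) := hαD.comp hψ (fun x hx => autFun_mem α hx)
  have hφimg : imgS Q (ψ ∘ autFun Q α) = Q' := by
    rw [hαD.imgS_comp hψ (fun x hx => autFun_mem α hx), imgS_autFun hαD, hψimg]
  obtain ⟨φ1, hφ1, hφ1Q⟩ := receptive_extend' hrec hφ hφimg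
  have hle2 : Q ⊔ centralizerIn S T ≤ extSub (T ⊔ centralizerIn S T) Q (ψ ∘ autFun Q α) :=
    sup_le (le_extSub hφ) (hCle.trans (centralizerIn_le_extSub hφ))
  obtain ⟨φh, hφh, hφhQ, hφhC⟩ := good_ext_step hS hC Q hQT φ1 (hφ1.restrict hle2)
  have hψhQ' : ∀ x ∈ Q, ψh x = ψ x := fun x hx => (hψhQ x hx).trans (hψ1Q x hx)
  have hφhQ' : ∀ x ∈ Q, φh x = ψ (autFun Q α x) := fun x hx => (hφhQ x hx).trans (hφ1Q x hx)
  have hψhimg : imgS Q ψh = Q' := by
    rw [← hψimg]; exact (hψh.restrict le_sup_left).imgS_congr hψhQ'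
  have hφhimg : imgS Q φh = Q' := by
    rw [← hφimg]; exact (hφh.restrict le_sup_left).imgS_congr hφhQ'
  -- the defect on `C` lies in `Q'`
  have key : ∀ g : Ω → Ω, Mor F (Q ⊔ centralizerIn S T) g → imgS Q g = Q' →
      (∀ c ∈ centralizerIn S T, c⁻¹ * g c ∈ T) → ∀ c ∈ centralizerIn S T, c⁻¹ * g c ∈ Q' := by
    intro g hg hgQ hgC c hc
    apply hcen
    rw [mem_centralizerIn_iff]
    refine ⟨hgC c hc, fun y hy => ?_⟩
    rw [← hgQ] at hy
    obtain ⟨x, hx, rfl⟩ := (hg.restrict le_sup_left).mem_imgS.1 hy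
    have hgxT : g x ∈ T := hQ'T (by
      rw [← hgQ]; exact (hg.restrict le_sup_left).mem_imgS_of_mem hx)
    have h0 := (mem_centralizerIn_iff.1 hc).2 (g x) hgxT
    have h1 : g x * c⁻¹ = c⁻¹ * g x := by
      calc g x * c⁻¹ = c⁻¹ * (c * g x) * c⁻¹ := by group
        _ = c⁻¹ * (g x * c) * c⁻¹ := by rw [h0]
        _ = c⁻¹ * g x := by group
    have h2 : g x * g c = g c * g x := by
      rw [← hg.map_mul (Subgroup.mem_sup_left hx) (Subgroup.mem_sup_right hc),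
        ← hg.map_mul (Subgroup.mem_sup_right hc) (Subgroup.mem_sup_left hx),
        (mem_centralizerIn_iff.1 hc).2 x (hQT hx)]
    calc g x * (c⁻¹ * g c) = (g x * c⁻¹) * g c := by group
      _ = c⁻¹ * (g x * g c) := by rw [h1]; group
      _ = c⁻¹ * g c * g x := by rw [h2]; group
  have hψz := key ψh hψh hψhimg hψhC
  have hφz := key φh hφh hφhimg hφhC
  have hQ'img : Q' ≤ imgS (Q ⊔ centralizerIn S T) ψh := by
    rw [← hψhimg]; exact hψh.imgS_mono le_sup_left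
  have hCimg : centralizerIn S T ≤ imgS (Q ⊔ centralizerIn S T) ψh := by
    intro c hc
    have e : c = ψh c * (c⁻¹ * ψh c)⁻¹ := by group
    rw [e]
    exact Subgroup.mul_mem _ (hψh.mem_imgS_of_mem (Subgroup.mem_sup_right hc))
      (Subgroup.inv_mem _ (hQ'img (hψz c hc)))
  have hφmaps : ∀ x ∈ Q ⊔ centralizerIn S T, φh x ∈ imgS (Q ⊔ centralizerIn S T) ψh := by
    refine mor_sup_maps hφh (fun x hx => ?_) (fun c hc => ?_)
    · apply hQ'img
      rw [← hφhimg]; exact (hφh.restrict le_sup_left).mem_imgS_of_mem hx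
    · have e : φh c = c * (c⁻¹ * φh c) := by group
      rw [e]
      exact Subgroup.mul_mem _ (hCimg hc) (hQ'img (hφz c hc))
  have hI := hψh.inv
  have hIQ' : ∀ y ∈ Q', invOn (Q ⊔ centralizerIn S T) ψh y ∈ Q := by
    intro y hy
    rw [← hψhimg] at hy
    obtain ⟨x, hx, rfl⟩ := (hψh.restrict le_sup_left).mem_imgS.1 hy
    rw [invOn_apply hψh.injOn (Subgroup.mem_sup_left hx)]
    exact hx
  refine ⟨invOn (Q ⊔ centralizerIn S T) ψh ∘ φh, hφh.comp hI hφmaps, fun x hx => ?_,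
    fun c hc => ?_⟩
  · show invOn (Q ⊔ centralizerIn S T) ψh (φh x) = autFun Q α x
    rw [hφhQ' x hx, ← hψhQ' _ (autFun_mem α hx),
      invOn_apply hψh.injOn (Subgroup.mem_sup_left (autFun_mem α hx))]
  · show c⁻¹ * invOn (Q ⊔ centralizerIn S T) ψh (φh c) ∈ T
    have e1 : φh c = ψh c * ((c⁻¹ * ψh c)⁻¹ * (c⁻¹ * φh c)) := by group
    have hz : (c⁻¹ * ψh c)⁻¹ * (c⁻¹ * φh c) ∈ Q' := Q'.mul_mem (Q'.inv_mem (hψz c hc)) (hφz c hc)
    rw [e1, hI.map_mul (hψh.mem_imgS_of_mem (Subgroup.mem_sup_right hc)) (hQ'img hz),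
      invOn_apply hψh.injOn (Subgroup.mem_sup_right hc), inv_mul_cancel_left]
    exact hQT (hIQ' _ hz)

/-- The posted statement of S5201-GOODEXT, verbatim. -/
example [Finite S] {p : ℕ} [Fact p.Prime] (hS : IsPGroup p S) {F : FusionSystem S}
    {E : FusionSystem T} {D : FusionSystem (T ⊔ centralizerIn S T)} (hC : CCfg p F E D)
    (Q : Subgroup Ω) (hQ : E.IsCentric Q) (α : MulAut Q) (hα : α ∈ E.autGroup Q) :
    ∃ a : Ω → Ω, Mor F (Q ⊔ centralizerIn S T) a ∧ (∀ x ∈ Q, a x = autFun Q α x) ∧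
      ∀ c ∈ centralizerIn S T, c⁻¹ * a c ∈ T :=
  good_ext hS hC Q hQ α hα

end Cfsg.Agent.H1.Cen
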