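import Mathlib.Tactic
import Mathlib.GroupTheory.SpecificGroups.Cyclic
import Mathlib.GroupTheory.PGroup
import Mathlib.GroupTheory.Sylow
import Mathlib.GroupTheory.IndexNormal
import Mathlib.GroupTheory.Perm.Cycle.Type
import Mathlib.Algebra.BigOperators.GroupWithZero.Action

/-!
# Groups acting without fixed points on abelian groups (S0041)

Abstract setting: a finite group `A` acting by automorphisms on a nontrivial finite commutative
group `V` such that every nonidentity element of `A` fixes only `1`.  Then `A` is cyclic as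
soon as it is abelian or of order `p * q`.
-/

set_option autoImplicit false

namespace Cfsg.Agent.H1

namespace FPF

section Abstract

variable {A V : Type*} [Group A] [CommGroup V] [MulDistribMulAction A V]

/-- The "norm" `v * c • v * ... * c^(n-1) • v`. -/
def nrm (c : A) (n : ℕ) (v : V) : V := ∏ j ∈ Finset.range n, c ^ j • v

theorem smul_nrm (c : A) (n : ℕ) (hc : c ^ n = 1) (v : V) : c • nrm c n v = nrm c n v := by
  unfold nrm
  rw [Finset.smul_prod']
  have h1 : ∀ j, c • c ^ j • v = c ^ (j + 1) • v := fun j => by rw [smul_smul, ← pow_succ']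
  simp_rw [h1]
  cases n with
  | zero => simp
  | succ n =>
    rw [Finset.prod_range_succ, Finset.prod_range_succ' (fun j => c ^ j • v), hc, pow_zero]

theorem nrm_eq_one (hfpf : ∀ a : A, a ≠ 1 → ∀ v : V, a • v = v → v = 1)
    (c : A) (n : ℕ) (hc1 : c ≠ 1) (hc : c ^ n = 1) (v : V) : nrm c n v = 1 :=
  hfpf c hc1 _ (smul_nrm c n hc v)

/-- If `A` contains a copy of `Z_p × Z_p` then `V` has exponent `p`. -/
theorem pow_eq_one_of_pair (hfpf : ∀ a : A, a ≠ 1 → ∀ v : V, a • v = v → v = 1)
    (p : ℕ) (hp : p.Prime) (x y : A) (hxy : Commute x y) (hx1 : x ≠ 1) (hx : x ^ p = 1)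
    (hy : y ^ p = 1) (hyx : y ∉ Subgroup.zpowers x) (v : V) : v ^ p = 1 := by
  have : Fact p.Prime := ⟨hp⟩
  have hox : orderOf x = p := orderOf_eq_prime hx hx1
  have h1 : ∏ i ∈ Finset.range p, nrm (x ^ i * y) p v = 1 := by
    apply Finset.prod_eq_one
    intro i _
    apply nrm_eq_one hfpf
    · intro h
      apply hyx
      have : y = (x ^ i)⁻¹ := eq_inv_of_mul_eq_one_right h
      rw [this]
      exact Subgroup.inv_mem _ (Subgroup.pow_mem _ (Subgroup.mem_zpowers x) i)
    · rw [(hxy.pow_left i).mul_pow, ← pow_mul, mul_comm i p, pow_mul, hx, one_pow, hy, one_mul]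
  unfold nrm at h1
  rw [Finset.prod_comm] at h1
  have h2 : ∀ j ∈ Finset.range p, ∏ i ∈ Finset.range p, (x ^ i * y) ^ j • v
      = if j = 0 then v ^ p else 1 := by
    intro j hj
    split_ifs with h0
    · subst h0; simp
    · have h3 : ∀ i, (x ^ i * y) ^ j • v = (x ^ j) ^ i • (y ^ j • v) := by
        intro i
        rw [(hxy.pow_left i).mul_pow, ← pow_mul, ← pow_mul, mul_comm i j, smul_smul]
      simp_rw [h3]
      apply nrm_eq_one hfpf (x ^ j) p _ _ (y ^ j • v)
      · apply pow_ne_one_of_lt_orderOf h0
        rw [hox]; exact Finset.mem_range.mp hj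
      · rw [← pow_mul, mul_comm, pow_mul, hx, one_pow]
  rw [Finset.prod_congr rfl h2, Finset.prod_ite_eq' (Finset.range p) 0 (fun _ => v ^ p)] at h1
  rwa [if_pos (Finset.mem_range.mpr hp.pos)] at h1

/-- An element of order `p` acting on a nontrivial `p`-group has a nontrivial fixed point. -/
theorem exists_fixed_of_pow [Finite V] [Nontrivial V] (p : ℕ) (hp : p.Prime) (x : A)
    (hx1 : x ≠ 1) (hx : x ^ p = 1) (hV : ∀ v : V, v ^ p = 1) : ∃ v : V, v ≠ 1 ∧ x • v = v := by
  have : Fact p.Prime := ⟨hp⟩
  have hox : orderOf x = p := orderOf_eq_prime hx hx1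
  have hP : IsPGroup p (Subgroup.zpowers x) := by
    apply IsPGroup.of_card (n := 1)
    rw [Nat.card_zpowers, hox, pow_one]
  have hVp : IsPGroup p V := fun v => ⟨1, by rw [pow_one]; exact hV v⟩
  have hdvd : p ∣ Nat.card V := by
    rcases hVp.card_eq_or_dvd with h | h
    · exact absurd h (Finite.one_lt_card (α := V)).ne'
    · exact h
  have h1 : (1 : V) ∈ MulAction.fixedPoints (Subgroup.zpowers x) V := by
    intro g
    exact smul_one _
  obtain ⟨b, hb, hb1⟩ := hP.exists_fixed_point_of_prime_dvd_card_of_fixed_point V hdvd h1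
  exact ⟨b, fun h => hb1 h.symm, hb ⟨x, Subgroup.mem_zpowers x⟩⟩

end Abstract

/-- A finite noncyclic abelian group contains a copy of `Z_p × Z_p`. -/
theorem exists_noncyclic_pair {A : Type*} [Group A] [Finite A] (hcomm : ∀ a b : A, a * b = b * a)
    (h : ¬ IsCyclic A) :
    ∃ (p : ℕ) (x y : A), p.Prime ∧ x ≠ 1 ∧ x ^ p = 1 ∧ y ^ p = 1 ∧ y ∉ Subgroup.zpowers x := by
  classical
  by_contra hcon
  push Not at hcon
  apply h
  let _ : CommGroup A := { (inferInstance : Group A) with mul_comm := hcomm }
  have key : ∀ n, 0 < n → Nat.card (powMonoidHom n : A →* A).ker ≤ n := by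
    intro n
    induction n using Nat.strong_induction_on with
    | _ n ih =>
      intro hn
      rcases Nat.lt_or_ge 1 n with h1 | h1
      · have hp : n.minFac.Prime := Nat.minFac_prime (by omega)
        have : Fact n.minFac.Prime := ⟨hp⟩
        obtain ⟨m, hm⟩ := Nat.minFac_dvd n
        have hmpos : 0 < m := by
          rcases Nat.eq_zero_or_pos m with h0 | h0
          · rw [h0, mul_zero] at hm; omega
          · exact h0
        have hmlt : m < n := by
          have := hp.two_le
          nlinarith
        have hm' := ih m hmlt hmpos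
        have hp' : Nat.card (powMonoidHom n.minFac : A →* A).ker ≤ n.minFac := by
          by_contra hgt
          push Not at hgt
          have hne : (powMonoidHom n.minFac : A →* A).ker ≠ ⊥ := by
            rw [← Subgroup.one_lt_card_iff_ne_bot]
            have := hp.two_le
            omega
          rw [Subgroup.ne_bot_iff_exists_ne_one] at hne
          obtain ⟨⟨x, hxk⟩, hx1⟩ := hne
          have hx1' : x ≠ 1 := fun h => hx1 (Subtype.ext h)
          have hxp : x ^ n.minFac = 1 := hxk
          have hle : Subgroup.zpowers x ≤ (powMonoidHom n.minFac : A →* A).ker := by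
            rw [Subgroup.zpowers_le]; exact hxk
          have hlt : Subgroup.zpowers x < (powMonoidHom n.minFac : A →* A).ker := by
            refine lt_of_le_of_ne hle fun heq => ?_
            rw [← heq, Nat.card_zpowers, orderOf_eq_prime hxp hx1'] at hgt
            exact lt_irrefl _ hgt
          obtain ⟨y, hyk, hy⟩ := SetLike.exists_of_lt hlt
          exact hy (hcon n.minFac x y hp hx1' hxp hyk)
        -- the `p`-th power map from the `n`-torsion to the `m`-torsion
        set g : (powMonoidHom n : A →* A).ker →* A :=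
          (powMonoidHom n.minFac : A →* A).comp (Subgroup.subtype _) with hg
        have hc1 : Nat.card g.ker * Nat.card g.range = Nat.card (powMonoidHom n : A →* A).ker := by
          rw [← Subgroup.index_ker]; exact Subgroup.card_mul_index g.ker
        have hc2 : Nat.card g.range ≤ Nat.card (powMonoidHom m : A →* A).ker := by
          apply Subgroup.card_le_of_le
          rintro _ ⟨⟨a, ha⟩, rfl⟩
          have ha' : a ^ n = 1 := ha
          change (a ^ n.minFac) ^ m = 1
          rw [← pow_mul, ← hm]; exact ha'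
        have hc3 : Nat.card g.ker ≤ Nat.card (powMonoidHom n.minFac : A →* A).ker := by
          apply Nat.card_le_card_of_injective
            (fun a : g.ker => (⟨(a : (powMonoidHom n : A →* A).ker), a.2⟩ :
              (powMonoidHom n.minFac : A →* A).ker))
          intro a b hab
          have h7 := congrArg Subtype.val hab
          exact Subtype.ext (Subtype.ext h7)
        calc Nat.card (powMonoidHom n : A →* A).ker
            = Nat.card g.ker * Nat.card g.range := hc1.symm
          _ ≤ n.minFac * m := Nat.mul_le_mul (hc3.trans hp') (hc2.trans hm')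
          _ = n := hm.symm
      · have hn1 : n = 1 := by omega
        subst hn1
        have : (powMonoidHom 1 : A →* A).ker = ⊥ := by
          ext a
          simp [MonoidHom.mem_ker]
        rw [this, Subgroup.card_bot]
  have : Fintype A := Fintype.ofFinite A
  apply isCyclic_of_card_pow_eq_one_le
  intro n hn
  have h2 := key n hn
  have h3 : Nat.card (powMonoidHom n : A →* A).ker
      = (Finset.univ.filter (fun a : A => a ^ n = 1)).card := by
    rw [← Fintype.card_subtype, ← Nat.card_eq_fintype_card]
    rfl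
  rw [← h3]
  exact h2

section Abstract2

variable {A V : Type*} [Group A] [Finite A] [CommGroup V] [Finite V] [Nontrivial V]
  [MulDistribMulAction A V]

/-- An abelian group acting fixed-point-freely is cyclic. -/
theorem isCyclic_of_comm (hfpf : ∀ a : A, a ≠ 1 → ∀ v : V, a • v = v → v = 1)
    (hcomm : ∀ a b : A, a * b = b * a) : IsCyclic A := by
  by_contra hnc
  obtain ⟨p, x, y, hp, hx1, hx, hy, hyx⟩ := exists_noncyclic_pair hcomm hnc
  have hV := pow_eq_one_of_pair hfpf p hp x y (hcomm x y) hx1 hx hy hyx
  obtain ⟨v, hv1, hv⟩ := exists_fixed_of_pow (V := V) p hp x hx1 hx hV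
  exact hv1 (hfpf x hx1 v hv)

/-- A group of order `p * q` with `p < q` acting fixed-point-freely is cyclic. -/
theorem isCyclic_of_card_lt (hfpf : ∀ a : A, a ≠ 1 → ∀ v : V, a • v = v → v = 1)
    (p q : ℕ) (hp : p.Prime) (hq : q.Prime) (hpq : p < q) (hcard : Nat.card A = p * q) :
    IsCyclic A := by
  classical
  by_contra hnc
  have : Fact p.Prime := ⟨hp⟩
  have : Fact q.Prime := ⟨hq⟩
  obtain ⟨x, hox⟩ := exists_prime_orderOf_dvd_card' (G := A) q (by rw [hcard]; exact dvd_mul_left q p)
  obtain ⟨y, hoy⟩ := exists_prime_orderOf_dvd_card' (G := A) p (by rw [hcard]; exact dvd_mul_right p q)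
  have hx1 : x ≠ 1 := fun h => by rw [h, orderOf_one] at hox; exact hq.one_lt.ne hox
  have hy1 : y ≠ 1 := fun h => by rw [h, orderOf_one] at hoy; exact hp.one_lt.ne hoy
  have hxq : x ^ q = 1 := by rw [← hox]; exact pow_orderOf_eq_one x
  have hyp : y ^ p = 1 := by rw [← hoy]; exact pow_orderOf_eq_one y
  set Q : Subgroup A := Subgroup.zpowers x with hQ
  have hQcard : Nat.card Q = q := by rw [hQ, Nat.card_zpowers, hox]
  have hQidx : Q.index = p := by
    have h1 := Q.card_mul_index
    rw [hQcard, hcard, mul_comm p q] at h1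
    exact Nat.eq_of_mul_eq_mul_left hq.pos h1
  have hmin : (Nat.card A).minFac = p := by
    rw [hcard]
    have h1 : (p * q).minFac ≤ p := Nat.minFac_le_of_dvd hp.two_le (dvd_mul_right p q)
    have h2 : (p * q).minFac.Prime := Nat.minFac_prime (by
      have := hp.two_le; have := hq.two_le; nlinarith)
    rcases (Nat.Prime.dvd_mul h2).mp (Nat.minFac_dvd (p * q)) with h3 | h3
    · exact (Nat.prime_dvd_prime_iff_eq h2 hp).mp h3
    · have := (Nat.prime_dvd_prime_iff_eq h2 hq).mp h3
      omega
  have hQn : Q.Normal := Subgroup.normal_of_index_eq_minFac_card (by rw [hQidx, hmin])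
  -- nonidentity elements of `Q` do not commute with elements of order `p`
  have hnc' : ∀ z ∈ Q, z ≠ 1 → ∀ w : A, w ≠ 1 → w ^ p = 1 → ¬ Commute z w := by
    intro z hz hz1 w hw1 hwp hzw
    have hzq : z ^ q = 1 := by
      have h1 : (⟨z, hz⟩ : Q) ^ Nat.card Q = 1 := pow_card_eq_one'
      rw [hQcard] at h1
      exact congrArg Subtype.val h1
    have hoz : orderOf z = q := orderOf_eq_prime hzq hz1
    have how : orderOf w = p := orderOf_eq_prime hwp hw1
    have h1 := hzw.orderOf_mul_eq_mul_orderOf_of_coprime
      (by rw [hoz, how]; exact (Nat.coprime_primes hq hp).mpr hpq.ne')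
    rw [hoz, how, mul_comm q p, ← hcard] at h1
    exact hnc (isCyclic_of_orderOf_eq_card _ h1)
  have : Fintype Q := Fintype.ofFinite Q
  have hQfix : ∀ u : V, ∏ z : Q, (z : A) • u = 1 := by
    intro u
    apply hfpf x hx1
    rw [Finset.smul_prod']
    simp_rw [smul_smul]
    exact Finset.prod_bijective (fun z : Q => (⟨x, Subgroup.mem_zpowers x⟩ : Q) * z)
      (Group.mulLeft_bijective _) (by simp) (fun _ _ => rfl)
  have hV : ∀ v : V, v ^ q = 1 := by
    intro v
    have h1 : ∏ z : Q, nrm ((z : A) * y * (z : A)⁻¹) p v = 1 := by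
      apply Finset.prod_eq_one
      intro z _
      apply nrm_eq_one hfpf
      · intro h
        apply hy1
        have h2 : y = (z : A)⁻¹ * ((z : A) * y * (z : A)⁻¹) * (z : A) := by group
        rw [h2, h, mul_one, inv_mul_cancel]
      · rw [conj_pow, hyp, mul_one, mul_inv_cancel]
    unfold nrm at h1
    rw [Finset.prod_comm] at h1
    have h2 : ∀ j ∈ Finset.range p, ∏ z : Q, ((z : A) * y * (z : A)⁻¹) ^ j • v
        = if j = 0 then v ^ q else 1 := by
      intro j hj
      split_ifs with h0
      · subst h0
        simp only [pow_zero, one_smul, Finset.prod_const, Finset.card_univ]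
        rw [← Nat.card_eq_fintype_card, hQcard]
      · have hw1 : y ^ j ≠ 1 := by
          apply pow_ne_one_of_lt_orderOf h0
          rw [hoy]; exact Finset.mem_range.mp hj
        have hwp : (y ^ j) ^ p = 1 := by rw [← pow_mul, mul_comm, pow_mul, hyp, one_pow]
        set w := y ^ j with hw
        have hmem : ∀ z : Q, (z : A) * w * (z : A)⁻¹ * w⁻¹ ∈ Q := by
          intro z
          have h3 : w * (z : A)⁻¹ * w⁻¹ ∈ Q := hQn.conj_mem _ (Q.inv_mem z.2) w
          have h4 := Q.mul_mem z.2 h3
          have h5 : (z : A) * (w * (z : A)⁻¹ * w⁻¹) = (z : A) * w * (z : A)⁻¹ * w⁻¹ := by group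
          rwa [h5] at h4
        have hinj : Function.Injective (fun z : Q => (⟨_, hmem z⟩ : Q)) := by
          intro z z' hzz
          have h3 : (z : A) * w * (z : A)⁻¹ * w⁻¹ = (z' : A) * w * (z' : A)⁻¹ * w⁻¹ :=
            congrArg Subtype.val hzz
          have h4 : Commute ((z' : A)⁻¹ * (z : A)) w := by
            have h5 : (z : A) * w * (z : A)⁻¹ = (z' : A) * w * (z' : A)⁻¹ := mul_right_cancel h3
            change (z' : A)⁻¹ * (z : A) * w = w * ((z' : A)⁻¹ * (z : A))
            calc (z' : A)⁻¹ * (z : A) * w = (z' : A)⁻¹ * ((z : A) * w * (z : A)⁻¹) * (z : A) := by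
                  group
              _ = (z' : A)⁻¹ * ((z' : A) * w * (z' : A)⁻¹) * (z : A) := by rw [h5]
              _ = w * ((z' : A)⁻¹ * (z : A)) := by group
          by_contra hne
          have h6 : (z' : A)⁻¹ * (z : A) ≠ 1 := by
            intro h
            apply hne
            apply Subtype.ext
            have := eq_of_inv_mul_eq_one h
            exact this.symm
          exact hnc' _ (Q.mul_mem (Q.inv_mem z'.2) z.2) h6 w hw1 hwp h4
        have hbij : Function.Bijective (fun z : Q => (⟨_, hmem z⟩ : Q)) :=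
          Finite.injective_iff_bijective.mp hinj
        have h3 : ∀ z : Q, ((z : A) * y * (z : A)⁻¹) ^ j • v
            = (((⟨_, hmem z⟩ : Q) : Q) : A) • (w • v) := by
          intro z
          rw [conj_pow, ← hw, smul_smul]
          congr 1
          group
        rw [Finset.prod_congr rfl (fun z _ => h3 z)]
        rw [Finset.prod_bijective (fun z : Q => (⟨_, hmem z⟩ : Q)) hbij (t := Finset.univ)
          (g := fun z : Q => (z : A) • (w • v)) (by simp) (fun _ _ => rfl)]
        exact hQfix (w • v)
    rw [Finset.prod_congr rfl h2, Finset.prod_ite_eq' (Finset.range p) 0 (fun _ => v ^ q)] at h1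
    rwa [if_pos (Finset.mem_range.mpr hp.pos)] at h1
  obtain ⟨v, hv1, hv⟩ := exists_fixed_of_pow (V := V) q hq x hx1 hxq hV
  exact hv1 (hfpf x hx1 v hv)

/-- A group of order `p * q` acting fixed-point-freely is cyclic. -/
theorem isCyclic_of_card (hfpf : ∀ a : A, a ≠ 1 → ∀ v : V, a • v = v → v = 1)
    (p q : ℕ) (hp : p.Prime) (hq : q.Prime) (hcard : Nat.card A = p * q) : IsCyclic A := by
  rcases Nat.lt_trichotomy p q with h | h | h
  · exact isCyclic_of_card_lt hfpf p q hp hq h hcard
  · subst h
    have : Fact p.Prime := ⟨hp⟩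
    exact isCyclic_of_comm hfpf (fun a b =>
      (IsPGroup.isMulCommutative_of_card_eq_prime_sq (p := p) (by rw [hcard, sq])).is_comm.comm a b)
  · exact isCyclic_of_card_lt hfpf q p hq hp h (by rw [hcard, mul_comm])

end Abstract2

section Concrete

variable {G : Type*} [Group G]

/-- The conjugation action of a subgroup `A ≤ N_G(V)` on `V`. -/
abbrev conjAction (A V : Subgroup G) (hAV : A ≤ Subgroup.normalizer (V : Set G)) :
    MulDistribMulAction A V where
  smul a v := ⟨(a : G) * v * (a : G)⁻¹, (Subgroup.mem_normalizer_iff.mp (hAV a.2) v).mp v.2⟩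
  one_smul v := Subtype.ext (by change (1 : G) * v * (1 : G)⁻¹ = v; group)
  mul_smul a b v := Subtype.ext (by
    change ((a : G) * (b : G)) * v * ((a : G) * (b : G))⁻¹
      = (a : G) * ((b : G) * v * (b : G)⁻¹) * (a : G)⁻¹
    group)
  smul_mul a v w := Subtype.ext (by
    change (a : G) * ((v : G) * (w : G)) * (a : G)⁻¹
      = ((a : G) * v * (a : G)⁻¹) * ((a : G) * w * (a : G)⁻¹)
    group)
  smul_one a := Subtype.ext (by change (a : G) * 1 * (a : G)⁻¹ = 1; group)

end Concrete

end FPF

/-- If `A` normalises a nontrivial abelian subgroup `V` and every nonidentity element of `A` has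
trivial centraliser in `V`, then `A` is cyclic provided it is abelian or of order `p * q`
(= S0041). -/
theorem fpf_isCyclic {G : Type*} [Group G] [Finite G] (A V : Subgroup G) [IsMulCommutative V]
    (hV : V ≠ ⊥) (hAV : A ≤ Subgroup.normalizer (V : Set G))
    (hfpf : ∀ a ∈ A, a ≠ 1 → V ⊓ Subgroup.centralizer {a} = ⊥)
    (hA : IsMulCommutative A ∨ ∃ p q : ℕ, p.Prime ∧ q.Prime ∧ Nat.card A = p * q) :
    IsCyclic A := by
  let _ : CommGroup V := { (inferInstance : Group V) with mul_comm := fun a b => mul_comm' a b }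
  let _ : MulDistribMulAction A V := FPF.conjAction A V hAV
  have : Nontrivial V := (Subgroup.nontrivial_iff_ne_bot V).mpr hV
  have hfpf' : ∀ a : A, a ≠ 1 → ∀ v : V, a • v = v → v = 1 := by
    intro a ha v hv
    have h1 : (a : G) * v * (a : G)⁻¹ = v := congrArg Subtype.val hv
    have h3 : (v : G) ∈ Subgroup.centralizer {(a : G)} := by
      rw [Subgroup.mem_centralizer_singleton_iff]
      symm
      calc (a : G) * v = ((a : G) * v * (a : G)⁻¹) * a := by group
        _ = v * a := by rw [h1]
    have h2 : (v : G) ∈ V ⊓ Subgroup.centralizer {(a : G)} := ⟨v.2, h3⟩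
    rw [hfpf a a.2 (fun h => ha (Subtype.ext h))] at h2
    exact Subtype.ext (Subgroup.mem_bot.mp h2)
  rcases hA with hA | ⟨p, q, hp, hq, hcard⟩
  · exact FPF.isCyclic_of_comm hfpf' (fun a b => mul_comm' a b)
  · exact FPF.isCyclic_of_card hfpf' p q hp hq hcard

end Cfsg.Agent.H1
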