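import Mathlib
import Cfsg.Agent.H1.Basic
import Cfsg.Agent.H1.Coprime
import Cfsg.Agent.H1.MinNormal
import Cfsg.Agent.H1.Hall

set_option autoImplicit false
open Pointwise

namespace Cfsg.Agent.H1
namespace HallCount

universe u
variable {G : Type u} [Group G]

/-- If all subgroups of order `m` are conjugate to `H`, their number is `|G : N_G(H)|`. -/
theorem card_eq_index_normalizer [Finite G] (H : Subgroup G) (m : ℕ) (hH : Nat.card H = m)
    (hconj : ∀ K : Subgroup G, Nat.card K = m → ∃ g : G, MulAut.conj g • H = K) :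
    Nat.card {K : Subgroup G // Nat.card K = m} = (Subgroup.normalizer (H : Set G)).index := by
  rw [Subgroup.index_eq_card]
  symm
  let φ : G ⧸ Subgroup.normalizer (H : Set G) → {K : Subgroup G // Nat.card K = m} :=
    fun q => Quotient.liftOn' q
      (fun g => (⟨MulAut.conj g • H, by rw [card_conj_smul]; exact hH⟩ :
        {K : Subgroup G // Nat.card K = m}))
      (fun a b hab => by
        apply Subtype.ext
        show MulAut.conj a • H = MulAut.conj b • H
        rw [QuotientGroup.leftRel_apply] at hab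
        have h1 := (mem_normalizer_iff_conj_smul _ _).mp hab
        have h2 : b = a * (a⁻¹ * b) := by group
        rw [h2, conj_mul_smul, h1])
  apply Nat.card_congr
  refine Equiv.ofBijective φ ⟨?_, ?_⟩
  · intro q₁ q₂ h
    induction q₁ using QuotientGroup.induction_on with
    | H a =>
    induction q₂ using QuotientGroup.induction_on with
    | H b =>
    have h1 : MulAut.conj a • H = MulAut.conj b • H := congrArg Subtype.val h
    apply QuotientGroup.eq.mpr
    rw [mem_normalizer_iff_conj_smul, conj_mul_smul, ← h1, conj_inv_smul_conj_smul]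
  · rintro ⟨K, hK⟩
    obtain ⟨g, hg⟩ := hconj K hK
    exact ⟨QuotientGroup.mk g, Subtype.ext hg⟩

theorem sup_eq_top_of_prime_index' {M K : Subgroup G} (hMi : M.index.Prime) (hK : ¬ K ≤ M) :
    M ⊔ K = ⊤ := by
  have h1 : (M ⊔ K).index ∣ M.index := Subgroup.index_dvd_of_le le_sup_left
  rcases (Nat.dvd_prime hMi).mp h1 with h2 | h2
  · exact Subgroup.index_eq_one.mp h2
  · exfalso
    have h3 := Subgroup.relIndex_mul_index (le_sup_left : M ≤ M ⊔ K)
    rw [h2] at h3
    have h4 : M.relIndex (M ⊔ K) = 1 := by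
      have := hMi.pos
      nlinarith
    exact hK (le_sup_right.trans (Subgroup.relIndex_eq_one.mp h4))

theorem relIndex_mul_card' {A B : Subgroup G} (h : A ≤ B) :
    A.relIndex B * Nat.card A = Nat.card B := by
  have h1 := Subgroup.card_mul_index (A.subgroupOf B)
  rw [card_subgroupOf_of_le h] at h1
  rw [mul_comm]; exact h1

/-- Coprime action of a solvable group `H` on a normal `q`-subgroup `N`: the index of the fixed
points factors into `q`-powers each congruent to `1` modulo a prime divisor of `|H|`. -/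
theorem fixed_index_factor [Finite G] (N : Subgroup G) [hNn : N.Normal] (q : ℕ) (hq : q.Prime)
    (hN : IsPGroup q N) : ∀ (c : ℕ) (H : Subgroup G), Nat.card H = c → Group.IsSolvable H →
    (Nat.card H).Coprime q →
    ∃ l : List ℕ, l.prod = (N ⊓ Subgroup.centralizer (H : Set G)).relIndex N ∧
      ∀ x ∈ l, (∃ e : ℕ, x = q ^ e) ∧ x ∣ Nat.card N ∧
        ∃ r : ℕ, r.Prime ∧ r ∣ Nat.card H ∧ x ≡ 1 [MOD r] := by
  haveI : Fact q.Prime := ⟨hq⟩
  obtain ⟨a, ha⟩ := (IsPGroup.iff_card).mp hN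
  intro c
  induction c using Nat.strong_induction_on with
  | _ c ih =>
  intro H hc hsolv hcop
  by_cases hbot : H = ⊥
  · refine ⟨[], ?_, by simp⟩
    have h1 : Subgroup.centralizer ((H : Subgroup G) : Set G) = ⊤ := by
      rw [eq_top_iff]
      intro g _
      rw [Subgroup.mem_centralizer_iff]
      intro h hh
      have : h = 1 := by
        have h2 : h ∈ H := hh
        rw [hbot, Subgroup.mem_bot] at h2; exact h2
      rw [this, one_mul, mul_one]
    rw [h1, inf_top_eq, Subgroup.relIndex_self, List.prod_nil]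
  haveI : Nontrivial H := (Subgroup.nontrivial_iff_ne_bot H).mpr hbot
  haveI := hsolv
  obtain ⟨M, hMn, hMp⟩ := exists_normal_prime_index H
  haveI := hMn
  have hrH : M.index ∣ Nat.card H := Subgroup.index_dvd_card M
  have hrq : M.index ≠ q := by
    intro h
    rw [h] at hrH hMp
    exact hMp.one_lt.ne' (hcop.symm.eq_one_of_dvd hrH)
  -- the subgroup `H₁`
  have hH₁le : M.map H.subtype ≤ H := by
    rintro _ ⟨y, -, rfl⟩; exact y.2
  have hH₁card : Nat.card (M.map H.subtype) = Nat.card M := Subgroup.card_subtype _ _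
  have hMlt : Nat.card M < Nat.card H := by
    have h1 := Subgroup.card_mul_index M
    have h2 := hMp.one_lt
    have h3 : 0 < Nat.card M := Nat.card_pos
    nlinarith
  have hH₁solv : Group.IsSolvable (M.map H.subtype) := isSolvable_of_le hH₁le
  have hH₁cop : (Nat.card (M.map H.subtype)).Coprime q :=
    Nat.Coprime.coprime_dvd_left (Subgroup.card_dvd_of_le hH₁le) hcop
  obtain ⟨l₁, hl₁, hl₁'⟩ := ih (Nat.card (M.map H.subtype)) (by rw [hH₁card, ← hc]; exact hMlt)
    (M.map H.subtype) rfl hH₁solv hH₁cop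
  -- an element outside `M`
  obtain ⟨x', hx'⟩ : ∃ x' : H, x' ∉ M := by
    by_contra hcon
    push Not at hcon
    have : M = ⊤ := eq_top_iff.mpr (fun y _ => hcon y)
    rw [this, Subgroup.index_top] at hMp
    exact Nat.not_prime_one hMp
  have hxpow : (x' : G) ^ M.index ∈ M.map H.subtype := by
    have h1 : (QuotientGroup.mk x' : H ⧸ M) ^ M.index = 1 := by
      rw [Subgroup.index_eq_card]; exact pow_card_eq_one'
    rw [← QuotientGroup.mk_pow, QuotientGroup.eq_one_iff] at h1
    exact ⟨x' ^ M.index, h1, by simp⟩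
  have hgen : ∀ h ∈ H, ∃ m ∈ M.map H.subtype, ∃ j : ℤ, h = m * (x' : G) ^ j := by
    intro h hh
    have h1 : M ⊔ Subgroup.zpowers x' = ⊤ :=
      sup_eq_top_of_prime_index' hMp (fun hle => hx' (hle (Subgroup.mem_zpowers x')))
    have h2 : (⟨h, hh⟩ : H) ∈ ((M ⊔ Subgroup.zpowers x' : Subgroup H) : Set H) := by
      rw [h1]; trivial
    rw [Subgroup.normal_mul] at h2
    obtain ⟨m, hm, y, hy, e⟩ := h2
    obtain ⟨j, rfl⟩ := Subgroup.mem_zpowers_iff.mp hy
    refine ⟨m, ⟨m, hm, rfl⟩, j, ?_⟩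
    have := congrArg Subtype.val e
    simpa using this.symm
  have hH₁norm : ∀ h₁ ∈ M.map H.subtype, (x' : G)⁻¹ * h₁ * (x' : G) ∈ M.map H.subtype := by
    rintro _ ⟨y, hy, rfl⟩
    have := hMn.conj_mem y hy x'⁻¹
    exact ⟨x'⁻¹ * y * x'⁻¹⁻¹, this, by simp⟩
  -- `V` and `W`
  have hxV : ∀ v ∈ N ⊓ Subgroup.centralizer ((M.map H.subtype : Subgroup G) : Set G),
      (x' : G) * v * (x' : G)⁻¹ ∈ N ⊓ Subgroup.centralizer ((M.map H.subtype : Subgroup G) : Set G) := by
    intro v hv
    have hv1 : v ∈ N := hv.1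
    have hv2 : v ∈ Subgroup.centralizer ((M.map H.subtype : Subgroup G) : Set G) := hv.2
    refine Subgroup.mem_inf.mpr ⟨hNn.conj_mem v hv1 _, ?_⟩
    rw [Subgroup.mem_centralizer_iff]
    intro h₁ hh₁
    have h1 := (Subgroup.mem_centralizer_iff.mp hv2) _ (hH₁norm h₁ hh₁)
    calc h₁ * ((x' : G) * v * (x' : G)⁻¹)
        = (x' : G) * (((x' : G)⁻¹ * h₁ * (x' : G)) * v) * (x' : G)⁻¹ := by group
      _ = (x' : G) * (v * ((x' : G)⁻¹ * h₁ * (x' : G))) * (x' : G)⁻¹ := by rw [h1]
      _ = (x' : G) * v * (x' : G)⁻¹ * h₁ := by group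
  have hWV : N ⊓ Subgroup.centralizer (H : Set G) ≤
      N ⊓ Subgroup.centralizer ((M.map H.subtype : Subgroup G) : Set G) :=
    inf_le_inf_left N (Subgroup.centralizer_le hH₁le)
  have hVN : N ⊓ Subgroup.centralizer ((M.map H.subtype : Subgroup G) : Set G) ≤ N := inf_le_left
  -- fixed points
  have hfix : ∀ v ∈ N ⊓ Subgroup.centralizer ((M.map H.subtype : Subgroup G) : Set G),
      ((x' : G) * v * (x' : G)⁻¹ = v ↔ v ∈ N ⊓ Subgroup.centralizer (H : Set G)) := by
    intro v hv0
    have hv1 : v ∈ N := hv0.1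
    have hv2 : v ∈ Subgroup.centralizer ((M.map H.subtype : Subgroup G) : Set G) := hv0.2
    constructor
    · intro hv
      refine Subgroup.mem_inf.mpr ⟨hv1, ?_⟩
      rw [Subgroup.mem_centralizer_iff]
      intro h hh
      obtain ⟨m, hm, j, rfl⟩ := hgen h hh
      have h1 := (Subgroup.mem_centralizer_iff.mp hv2) m hm
      have h2 : Commute (x' : G) v := by
        show (x' : G) * v = v * (x' : G)
        calc (x' : G) * v = ((x' : G) * v * (x' : G)⁻¹) * (x' : G) := by group
          _ = v * (x' : G) := by rw [hv]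
      have h3 : Commute ((x' : G) ^ j) v := h2.zpow_left j
      rw [mul_assoc, h3.eq, ← mul_assoc, h1, mul_assoc]
    · intro hv3
      have hv : v ∈ Subgroup.centralizer (H : Set G) := hv3.2
      have h1 := (Subgroup.mem_centralizer_iff.mp hv) (x' : G) x'.2
      rw [h1, mul_inv_cancel_right]
  have hmod : Nat.card (N ⊓ Subgroup.centralizer ((M.map H.subtype : Subgroup G) : Set G) : Subgroup G)
      ≡ Nat.card (N ⊓ Subgroup.centralizer (H : Set G) : Subgroup G) [MOD M.index] := by
    classical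
    let σ : Function.End (N ⊓ Subgroup.centralizer ((M.map H.subtype : Subgroup G) : Set G) : Subgroup G) :=
      fun v => ⟨(x' : G) * v * (x' : G)⁻¹, hxV v v.2⟩
    have hσk : ∀ (k : ℕ) (v : (N ⊓ Subgroup.centralizer ((M.map H.subtype : Subgroup G) : Set G) : Subgroup G)),
        (((σ ^ k) v : (N ⊓ Subgroup.centralizer ((M.map H.subtype : Subgroup G) : Set G) : Subgroup G)) : G)
          = (x' : G) ^ k * v * ((x' : G) ^ k)⁻¹ := by
      intro k
      induction k with
      | zero => intro v; rw [pow_zero, pow_zero, one_mul, inv_one, mul_one]; rfl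
      | succ k ih =>
        intro v
        rw [pow_succ']
        show (x' : G) * (((σ ^ k) v : _) : G) * (x' : G)⁻¹ = _
        rw [ih v, pow_succ']; group
    have hσ : σ ^ M.index ^ 1 = 1 := by
      funext v
      apply Subtype.ext
      rw [pow_one, hσk]
      have h1 := (Subgroup.mem_centralizer_iff.mp v.2.2) _ hxpow
      show (x' : G) ^ M.index * v * ((x' : G) ^ M.index)⁻¹ = v
      rw [h1, mul_inv_cancel_right]
    haveI : Fact M.index.Prime := ⟨hMp⟩
    letI : Fintype (N ⊓ Subgroup.centralizer ((M.map H.subtype : Subgroup G) : Set G) : Subgroup G) :=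
      Fintype.ofFinite _
    have h1 := Equiv.Perm.card_fixedPoints_modEq (f := σ) (p := M.index) (n := 1) hσ
    rw [← Nat.card_eq_fintype_card, ← Nat.card_eq_fintype_card] at h1
    have h2 : Nat.card (Function.fixedPoints σ) =
        Nat.card (N ⊓ Subgroup.centralizer (H : Set G) : Subgroup G) := by
      apply Nat.card_congr
      refine ⟨fun v => ⟨(v.1 : G), (hfix v.1 v.1.2).mp (congrArg Subtype.val v.2)⟩,
        fun w => ⟨⟨(w : G), hWV w.2⟩, Subtype.ext ((hfix w (hWV w.2)).mpr w.2)⟩, ?_, ?_⟩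
      · intro v; rfl
      · intro w; rfl
    rw [h2] at h1
    exact h1
  -- the new factor
  have hcardV := relIndex_mul_card' hWV
  have hWdvd : Nat.card (N ⊓ Subgroup.centralizer (H : Set G) : Subgroup G) ∣ q ^ a := by
    rw [← ha]; exact Subgroup.card_dvd_of_le inf_le_left
  have hcopW : Nat.gcd M.index (Nat.card (N ⊓ Subgroup.centralizer (H : Set G) : Subgroup G)) = 1 := by
    have h1 : Nat.Coprime M.index (q ^ a) :=
      Nat.Coprime.pow_right a ((Nat.coprime_primes hMp hq).mpr hrq)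
    exact Nat.Coprime.coprime_dvd_right hWdvd h1
  have hidx : (N ⊓ Subgroup.centralizer (H : Set G)).relIndex
      (N ⊓ Subgroup.centralizer ((M.map H.subtype : Subgroup G) : Set G)) ≡ 1 [MOD M.index] := by
    apply Nat.ModEq.cancel_right_of_coprime hcopW
    rw [hcardV, one_mul]
    exact hmod
  have hidxdvd : (N ⊓ Subgroup.centralizer (H : Set G)).relIndex
      (N ⊓ Subgroup.centralizer ((M.map H.subtype : Subgroup G) : Set G)) ∣ Nat.card N :=
    (Subgroup.relIndex_dvd_card _ _).trans (Subgroup.card_dvd_of_le hVN)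
  refine ⟨(N ⊓ Subgroup.centralizer (H : Set G)).relIndex
      (N ⊓ Subgroup.centralizer ((M.map H.subtype : Subgroup G) : Set G)) :: l₁, ?_, ?_⟩
  · rw [List.prod_cons, hl₁]
    exact Subgroup.relIndex_mul_relIndex _ _ _ hWV hVN
  · intro y hy
    rcases List.mem_cons.mp hy with rfl | hy
    · refine ⟨?_, hidxdvd, M.index, hMp, hrH, hidx⟩
      rw [ha] at hidxdvd
      obtain ⟨e, -, he⟩ := (Nat.dvd_prime_pow hq).mp hidxdvd
      exact ⟨e, he⟩
    · obtain ⟨h1, h2, r, hr1, hr2, hr3⟩ := hl₁' y hy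
      exact ⟨h1, h2, r, hr1, hr2.trans (Subgroup.card_dvd_of_le hH₁le), hr3⟩

/-- The property required of the factors. -/
def Good (G : Type u) [Group G] (m x : ℕ) : Prop :=
  (∃ q e : ℕ, q.Prime ∧ x = q ^ e) ∧
  (∃ K L : Subgroup G, K.Normal ∧ L.Normal ∧ K < L ∧
    (∀ M : Subgroup G, M.Normal → K ≤ M → M ≤ L → M = K ∨ M = L) ∧ x ∣ K.relIndex L) ∧
  (∃ q : ℕ, q.Prime ∧ q ∣ m ∧ x ≡ 1 [MOD q])

theorem good_of_quotient (N : Subgroup G) [N.Normal] {m' m x : ℕ} (hm : m' ∣ m)
    (h : Good (G ⧸ N) m' x) : Good G m x := by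
  obtain ⟨h1, ⟨Kb, Lb, hKn, hLn, hlt, hchief, hdvd⟩, ⟨r, hr, hrm, hmod⟩⟩ := h
  have hsurj := QuotientGroup.mk'_surjective N
  refine ⟨h1, ⟨Kb.comap (QuotientGroup.mk' N), Lb.comap (QuotientGroup.mk' N), hKn.comap _,
    hLn.comap _, ?_, ?_, ?_⟩, ⟨r, hr, hrm.trans hm, hmod⟩⟩
  · exact (Subgroup.comap_lt_comap_of_surjective hsurj).mpr hlt
  · intro M hM hKM hML
    have hNM : N ≤ M := by
      refine le_trans ?_ hKM
      intro y hy
      show QuotientGroup.mk' N y ∈ Kb
      have h0 : QuotientGroup.mk' N y = 1 := (QuotientGroup.eq_one_iff y).mpr hy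
      rw [h0]; exact Kb.one_mem
    have hMeq : (M.map (QuotientGroup.mk' N)).comap (QuotientGroup.mk' N) = M := by
      rw [Subgroup.comap_map_eq, QuotientGroup.ker_mk', sup_eq_left.mpr hNM]
    have hMbn : (M.map (QuotientGroup.mk' N)).Normal := hM.map _ hsurj
    have h2 : Kb ≤ M.map (QuotientGroup.mk' N) := by
      rw [← Subgroup.map_comap_eq_self_of_surjective hsurj Kb]; exact Subgroup.map_mono hKM
    have h3 : M.map (QuotientGroup.mk' N) ≤ Lb := by
      rw [← Subgroup.map_comap_eq_self_of_surjective hsurj Lb]; exact Subgroup.map_mono hML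
    rcases hchief _ hMbn h2 h3 with h | h
    · left; rw [← hMeq, h]
    · right; rw [← hMeq, h]
  · rw [Subgroup.relIndex_comap, Subgroup.map_comap_eq_self_of_surjective hsurj]
    exact hdvd

theorem normalizer_sup_eq [Finite G] (H N : Subgroup G) [hNn : N.Normal]
    (hcop : (Nat.card H).Coprime (Nat.card N)) (hsolv : Group.IsSolvable H ∨ Group.IsSolvable N) :
    Subgroup.normalizer ((H ⊔ N : Subgroup G) : Set G) = Subgroup.normalizer (H : Set G) ⊔ N := by
  have hNtop : Subgroup.normalizer (N : Set G) = ⊤ := Subgroup.normalizer_eq_top N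
  apply le_antisymm
  · intro g hg
    have h1 : MulAut.conj g • H ≤ H ⊔ N := by
      have h2 : MulAut.conj g • (H ⊔ N) = H ⊔ N := (mem_normalizer_iff_conj_smul g _).mp hg
      rw [← h2]
      exact Subgroup.pointwise_smul_le_pointwise_smul_iff.mpr le_sup_left
    obtain ⟨d, hd, hd'⟩ := sz_conj_internal H N (MulAut.conj g • H) (by rw [hNtop]; exact le_top)
      hcop hsolv h1 (card_conj_smul g H)
    have h3 : d⁻¹ * g ∈ Subgroup.normalizer (H : Set G) := by
      rw [mem_normalizer_iff_conj_smul, conj_mul_smul, ← hd', conj_inv_smul_conj_smul]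
    have e : g = (d⁻¹ * g) * ((d⁻¹ * g)⁻¹ * d * (d⁻¹ * g)) := by group
    rw [e]
    refine Subgroup.mul_mem _ (Subgroup.mem_sup_left h3) (Subgroup.mem_sup_right ?_)
    have := hNn.conj_mem d hd (d⁻¹ * g)⁻¹
    simpa [mul_assoc] using this
  · refine sup_le ?_ (le_sup_right.trans Subgroup.le_normalizer)
    exact le_normalizer_sup _ H N le_rfl (by rw [hNtop]; exact le_top)

theorem relIndex_sup_normal [Finite G] (R N : Subgroup G) [N.Normal] :
    R.relIndex (R ⊔ N) = (R ⊓ N).relIndex N := by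
  have h1 : N.relIndex (R ⊔ N) = N.relIndex R := Subgroup.relIndex_sup_right R N
  have h2 := relIndex_mul_card' (le_sup_right : N ≤ R ⊔ N)
  have h3 := relIndex_mul_card' (le_sup_left : R ≤ R ⊔ N)
  have h4 := relIndex_mul_card' (inf_le_left : R ⊓ N ≤ R)
  have h5 := relIndex_mul_card' (inf_le_right : R ⊓ N ≤ N)
  have h6 : (R ⊓ N).relIndex R = N.relIndex R := by rw [inf_comm]; exact Subgroup.inf_relIndex_right N R
  rw [h1] at h2
  rw [h6] at h4
  have hpos1 : 0 < N.relIndex R := by
    by_contra h0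
    have h00 : N.relIndex R = 0 := by omega
    rw [h00, zero_mul] at h4
    exact (Nat.card_pos (α := R)).ne' h4.symm
  have hpos2 : 0 < Nat.card (R ⊓ N : Subgroup G) := Nat.card_pos
  have h7 : R.relIndex (R ⊔ N) * (N.relIndex R * Nat.card (R ⊓ N : Subgroup G))
      = (R ⊓ N).relIndex N * (N.relIndex R * Nat.card (R ⊓ N : Subgroup G)) := by
    calc R.relIndex (R ⊔ N) * (N.relIndex R * Nat.card (R ⊓ N : Subgroup G))
        = R.relIndex (R ⊔ N) * Nat.card R := by rw [h4]
      _ = Nat.card (R ⊔ N : Subgroup G) := h3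
      _ = N.relIndex R * Nat.card N := h2.symm
      _ = N.relIndex R * ((R ⊓ N).relIndex N * Nat.card (R ⊓ N : Subgroup G)) := by rw [h5]
      _ = (R ⊓ N).relIndex N * (N.relIndex R * Nat.card (R ⊓ N : Subgroup G)) := by ring
  exact Nat.eq_of_mul_eq_mul_right (Nat.mul_pos hpos1 hpos2) h7

theorem normalizer_inf_eq (H N : Subgroup G) [hNn : N.Normal] (hdisj : H ⊓ N = ⊥) :
    Subgroup.normalizer (H : Set G) ⊓ N = N ⊓ Subgroup.centralizer (H : Set G) := by
  apply le_antisymm
  · intro g hg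
    have hg1 : g ∈ Subgroup.normalizer (H : Set G) := hg.1
    have hg2 : g ∈ N := hg.2
    refine Subgroup.mem_inf.mpr ⟨hg2, ?_⟩
    rw [Subgroup.mem_centralizer_iff]
    intro h hh
    have h1 : g * h * g⁻¹ * h⁻¹ ∈ H :=
      H.mul_mem ((Subgroup.mem_normalizer_iff.mp hg1 h).mp hh) (H.inv_mem hh)
    have h2 : g * h * g⁻¹ * h⁻¹ ∈ N := by
      have := hNn.conj_mem g⁻¹ (N.inv_mem hg2) h
      have e : g * h * g⁻¹ * h⁻¹ = g * (h * g⁻¹ * h⁻¹) := by group
      rw [e]; exact N.mul_mem hg2 this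
    have h3 : g * h * g⁻¹ * h⁻¹ = 1 := by
      have : g * h * g⁻¹ * h⁻¹ ∈ H ⊓ N := Subgroup.mem_inf.mpr ⟨h1, h2⟩
      rwa [hdisj, Subgroup.mem_bot] at this
    calc h * g = (g * h * g⁻¹ * h⁻¹)⁻¹ * (g * h) := by group
      _ = g * h := by rw [h3, inv_one, one_mul]
  · intro g hg
    have hg1 : g ∈ N := hg.1
    have hg2 : g ∈ Subgroup.centralizer (H : Set G) := hg.2
    exact Subgroup.mem_inf.mpr ⟨Subgroup.centralizer_le_normalizer _ hg2, hg1⟩

theorem hall_count_aux (c : ℕ) : ∀ (G : Type u) [Group G] [Finite G] [Group.IsSolvable G],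
    Nat.card G = c → ∀ m n : ℕ, c = m * n → m.Coprime n →
    ∃ l : List ℕ, l.prod = Nat.card {H : Subgroup G // Nat.card H = m} ∧ ∀ x ∈ l, Good G m x := by
  induction c using Nat.strong_induction_on with
  | _ c ih =>
  intro G _ _ _ hG m n hc hmn
  rcases subsingleton_or_nontrivial G with hsub | hnt
  · have h1 : Nat.card G = 1 := Nat.card_of_subsingleton (1 : G)
    have hm : m = 1 := by
      rw [hG, hc] at h1
      exact Nat.eq_one_of_mul_eq_one_right h1
    refine ⟨[], ?_, by simp⟩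
    rw [List.prod_nil]
    symm
    rw [Nat.card_eq_one_iff_unique]
    exact ⟨⟨fun a b => Subtype.ext (Subsingleton.elim _ _)⟩, ⟨⟨⊥, by rw [Subgroup.card_bot, hm]⟩⟩⟩
  obtain ⟨N, hNn, hNb, hmin⟩ := exists_minimal_normal (G := G)
  haveI := hNn
  obtain ⟨q, hq, hNq⟩ := minimal_normal_isPGroup N hNb hmin
  haveI : Fact q.Prime := ⟨hq⟩
  obtain ⟨a, ha⟩ := (IsPGroup.iff_card).mp hNq
  have ha0 : a ≠ 0 := by
    rintro rfl
    rw [pow_zero] at ha
    exact hNb (Subgroup.card_eq_one.mp ha)
  have hNdvd : q ^ a ∣ m * n := by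
    rw [← hc, ← hG, ← ha]; exact Subgroup.card_subgroup_dvd_card N
  have hπs := QuotientGroup.mk'_surjective N
  have hquot : Nat.card (G ⧸ N) * q ^ a = m * n := by
    rw [← ha, ← hc, ← hG, ← Subgroup.index_eq_card, mul_comm]; exact Subgroup.card_mul_index N
  have hlt : Nat.card (G ⧸ N) < c := by
    have h2 : 2 ≤ q ^ a := by
      calc 2 ≤ q := hq.two_le
        _ = q ^ 1 := (pow_one q).symm
        _ ≤ q ^ a := Nat.pow_le_pow_right hq.pos (Nat.one_le_iff_ne_zero.mpr ha0)
    have h3 : 0 < Nat.card (G ⧸ N) := Nat.card_pos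
    rw [hc, ← hquot]
    nlinarith
  have hGmn : Nat.card G = m * n := by rw [hG, hc]
  by_cases hqm : q ∣ m
  · -- Case A: `q ∣ m`
    have hqn : Nat.Coprime (q ^ a) n :=
      Nat.Coprime.pow_left a (Nat.Coprime.coprime_dvd_left hqm hmn)
    have hqam : q ^ a ∣ m := hqn.dvd_of_dvd_mul_right hNdvd
    obtain ⟨m', hm'⟩ := hqam
    have hcard' : Nat.card (G ⧸ N) = m' * n := by
      have h1 : Nat.card (G ⧸ N) * q ^ a = (m' * n) * q ^ a := by rw [hquot, hm']; ring
      exact Nat.eq_of_mul_eq_mul_right (pow_pos hq.pos a) h1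
    have hm'm : m' ∣ m := Dvd.intro_left _ hm'.symm
    have hmn' : m'.Coprime n := Nat.Coprime.coprime_dvd_left hm'm hmn
    obtain ⟨l, hl, hl'⟩ := ih _ hlt (G ⧸ N) rfl m' n hcard' hmn'
    refine ⟨l, ?_, fun x hx => good_of_quotient N hm'm (hl' x hx)⟩
    rw [hl]
    obtain ⟨H, hH, hNH⟩ := hall_le m n hGmn hmn N (by rw [ha]; exact hqn)
    have hHb : Nat.card (H.map (QuotientGroup.mk' N)) = m' := by
      have h1 := card_map_mk'_of_le N H hNH
      rw [ha, hH, hm', mul_comm] at h1
      exact Nat.eq_of_mul_eq_mul_left (pow_pos hq.pos a) h1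
    rw [card_eq_index_normalizer H m hH (fun K hK => hall_conj m n hGmn hmn H K hH hK),
      card_eq_index_normalizer (H.map (QuotientGroup.mk' N)) m' hHb
        (fun K hK => hall_conj m' n hcard' hmn' _ K hHb hK),
      ← Subgroup.index_comap_of_surjective _ hπs, Subgroup.comap_normalizer_eq_of_surjective _ hπs,
      Subgroup.comap_map_eq, QuotientGroup.ker_mk', sup_eq_left.mpr hNH]
  · -- Case B: `q ∤ m`
    have hqam : Nat.Coprime (q ^ a) m :=
      Nat.Coprime.pow_left a ((Nat.Prime.coprime_iff_not_dvd hq).mpr hqm)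
    have hqan : q ^ a ∣ n := hqam.dvd_of_dvd_mul_left hNdvd
    obtain ⟨n', hn'⟩ := hqan
    have hcard' : Nat.card (G ⧸ N) = m * n' := by
      have h1 : Nat.card (G ⧸ N) * q ^ a = (m * n') * q ^ a := by rw [hquot, hn']; ring
      exact Nat.eq_of_mul_eq_mul_right (pow_pos hq.pos a) h1
    have hmn' : m.Coprime n' := Nat.Coprime.coprime_dvd_right (Dvd.intro_left _ hn'.symm) hmn
    obtain ⟨l, hl, hl'⟩ := ih _ hlt (G ⧸ N) rfl m n' hcard' hmn'
    obtain ⟨H, hH⟩ := hall_exists m n hGmn hmn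
    have hHN : (Nat.card H).Coprime (Nat.card N) := by rw [hH, ha]; exact hqam.symm
    have hdisj : H ⊓ N = ⊥ := (Subgroup.disjoint_of_coprime_natCard hHN).eq_bot
    have hHb : Nat.card (H.map (QuotientGroup.mk' N)) = m := by
      rw [card_map_mk'_of_disjoint N H (by rw [inf_comm]; exact hdisj), hH]
    have hHsolv : Group.IsSolvable H := inferInstance
    have hHq : (Nat.card H).Coprime q := by
      rw [hH]; exact ((Nat.Prime.coprime_iff_not_dvd hq).mpr hqm).symm
    obtain ⟨lf, hlf, hlf'⟩ := fixed_index_factor N q hq hNq (Nat.card H) H rfl hHsolv hHq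
    refine ⟨lf ++ l, ?_, ?_⟩
    · rw [List.prod_append, hlf, hl,
        card_eq_index_normalizer H m hH (fun K hK => hall_conj m n hGmn hmn H K hH hK),
        card_eq_index_normalizer (H.map (QuotientGroup.mk' N)) m hHb
          (fun K hK => hall_conj m n' hcard' hmn' _ K hHb hK),
        ← Subgroup.index_comap_of_surjective _ hπs, Subgroup.comap_normalizer_eq_of_surjective _ hπs,
        Subgroup.comap_map_eq, QuotientGroup.ker_mk', normalizer_sup_eq H N hHN (Or.inl hHsolv),
        ← Subgroup.relIndex_mul_index (le_sup_left : Subgroup.normalizer (H : Set G) ≤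
          Subgroup.normalizer (H : Set G) ⊔ N),
        relIndex_sup_normal, normalizer_inf_eq H N hdisj]
    · intro x hx
      rcases List.mem_append.mp hx with hx | hx
      · obtain ⟨⟨e, he⟩, hxN, r, hr, hrH, hmod⟩ := hlf' x hx
        refine ⟨⟨q, e, hq, he⟩, ⟨⊥, N, Subgroup.normal_bot, hNn, bot_lt_iff_ne_bot.mpr hNb,
          ?_, ?_⟩, ⟨r, hr, by rwa [hH] at hrH, hmod⟩⟩
        · intro M hM _ hMN; exact hmin M hM hMN
        · rw [Subgroup.relIndex_bot_left]; exact hxN
      · exact good_of_quotient N dvd_rfl (hl' x hx)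

/-- P. Hall: the number of Hall subgroups of a solvable group. -/
theorem hall_count {G : Type u} [Group G] [Finite G] [Group.IsSolvable G] (m n : ℕ)
    (hG : Nat.card G = m * n) (hmn : Nat.Coprime m n) :
    ∃ (k : ℕ) (f : Fin k → ℕ), Nat.card {H : Subgroup G // Nat.card H = m} = ∏ i, f i ∧
      ∀ i, Good G m (f i) := by
  obtain ⟨l, hl, hl'⟩ := hall_count_aux (Nat.card G) G rfl m n hG hmn
  refine ⟨l.length, fun i => l.get i, ?_, fun i => hl' _ (List.get_mem l i)⟩
  rw [← hl]
  exact ((List.prod_ofFn (f := fun i => l.get i)).symm.trans (by rw [List.ofFn_get])).symm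

end HallCount
end Cfsg.Agent.H1
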