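import Cfsg.Agent.H1.Fitting

/-!
# `C_G(F(G)) ≤ F(G)` for solvable groups, Hall–Higman Lemma 1.2.3, `p`-length one
(S0017, S0018)
-/

set_option autoImplicit false
open Pointwise

namespace Cfsg.Agent.H1

variable {G : Type*} [Group G]

/-- In a finite solvable group the Fitting subgroup contains its centraliser. -/
theorem centralizer_fitting_le [Finite G] [Group.IsSolvable G] :
    Subgroup.centralizer (Cfsg.fittingSubgroup G : Set G) ≤ Cfsg.fittingSubgroup G := by
  classical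
  by_contra hcon
  have hCn : (Subgroup.centralizer (Cfsg.fittingSubgroup G : Set G)).Normal :=
    Subgroup.normal_centralizer
  have hne : ∃ n, ∃ M : Subgroup G, M.Normal ∧
      M ≤ Subgroup.centralizer (Cfsg.fittingSubgroup G : Set G) ∧
      ¬ M ≤ Cfsg.fittingSubgroup G ∧ Nat.card M = n := ⟨_, _, hCn, le_rfl, hcon, rfl⟩
  obtain ⟨M, hMn, hMC, hMF, hMc⟩ := Nat.find_spec hne
  have hMbot : M ≠ ⊥ := fun h => hMF (h ▸ bot_le)
  have hlt : ⁅M, M⁆ < M := commutator_lt_of_isSolvable M hMbot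
  have hDn : ⁅M, M⁆.Normal := Subgroup.commutator_normal M M
  have hDF : ⁅M, M⁆ ≤ Cfsg.fittingSubgroup G := by
    by_contra h
    exact Nat.find_min hne (by rw [← hMc]; exact card_lt_card_of_lt hlt)
      ⟨⁅M, M⁆, hDn, hlt.le.trans hMC, h, rfl⟩
  have hlcs : M.lowerCentralSeries 2 = ⊥ := by
    rw [Subgroup.lowerCentralSeries_succ, Subgroup.lowerCentralSeries_succ,
      Subgroup.lowerCentralSeries_zero, eq_bot_iff]
    calc ⁅⁅M, M⁆, M⁆ ≤ ⁅Cfsg.fittingSubgroup G,
          Subgroup.centralizer (Cfsg.fittingSubgroup G : Set G)⁆ :=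
          Subgroup.commutator_mono hDF hMC
      _ = ⊥ := Subgroup.commutator_eq_bot_iff_le_centralizer.mpr
          (Subgroup.le_centralizer_iff.mp le_rfl)
  have hnil : Group.IsNilpotent M := Subgroup.isNilpotent_of_lowerCentralSeries_eq_bot hlcs
  exact hMF (le_fitting M hnil)

instance pPrimeCore_normal (p : ℕ) : (Cfsg.pPrimeCore p G).Normal :=
  Subgroup.sSup_normal _ (fun _ hH => hH.1)

theorem le_pPrimeCore (p : ℕ) (N : Subgroup G) [hN : N.Normal] (h : (Nat.card N).Coprime p) :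
    N ≤ Cfsg.pPrimeCore p G := le_sSup ⟨hN, h⟩

theorem pPrimeCore_card_coprime [Finite G] (p : ℕ) :
    (Nat.card (Cfsg.pPrimeCore p G)).Coprime p := by
  have hne : Nonempty {N : Subgroup G // N.Normal ∧ (Nat.card N).Coprime p} :=
    ⟨⟨⊥, inferInstance, by simp⟩⟩
  obtain ⟨⟨N₀, hN₀n, hN₀c⟩, hmax⟩ := Finite.exists_max
    (fun N : {N : Subgroup G // N.Normal ∧ (Nat.card N).Coprime p} => Nat.card (N : Subgroup G))
  have hle : Cfsg.pPrimeCore p G ≤ N₀ := by
    apply sSup_le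
    rintro N ⟨hNn, hNc⟩
    have hc : (Nat.card (N ⊔ N₀ : Subgroup G)).Coprime p :=
      Nat.Coprime.coprime_dvd_left (card_sup_dvd_of_normal N N₀) (Nat.Coprime.mul_left hNc hN₀c)
    have h1 := hmax ⟨N ⊔ N₀, Subgroup.sup_normal N N₀, hc⟩
    have h2 : N₀ = N ⊔ N₀ := Subgroup.eq_of_le_of_card_ge le_sup_right h1
    rw [h2]; exact le_sup_left
  exact Nat.Coprime.coprime_dvd_left (Subgroup.card_dvd_of_le hle) hN₀c

/-- If `O_{p'}(G) = 1` then `F(G) = O_p(G)`. -/
theorem fitting_eq_pCore_of_pPrimeCore_eq_bot [Finite G] (p : ℕ) [hp : Fact p.Prime]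
    (h : Cfsg.pPrimeCore p G = ⊥) : Cfsg.fittingSubgroup G = Cfsg.pCore p G := by
  rw [fitting_eq_iSup_pCore]
  apply le_antisymm
  · apply iSup_le
    intro r
    by_cases hr : (r : ℕ) = p
    · rw [hr]
    · have hfr : Fact (r : ℕ).Prime := ⟨r.2⟩
      have hcop : (Nat.card (Cfsg.pCore (r : ℕ) G)).Coprime p := by
        obtain ⟨k, hk⟩ := IsPGroup.iff_card.mp (pCore_isPGroup (G := G) (r : ℕ))
        rw [hk]
        exact Nat.Coprime.pow_left k ((Nat.coprime_primes r.2 hp.out).mpr hr)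
      have h1 := le_pPrimeCore p (Cfsg.pCore (r : ℕ) G) hcop
      rw [h] at h1
      exact h1.trans bot_le
  · exact le_iSup (fun r : Nat.Primes => Cfsg.pCore (r : ℕ) G) ⟨p, hp.out⟩

/-- Hall–Higman Lemma 1.2.3 (= S0017). -/
theorem centralizer_pCore_le [Finite G] [Group.IsSolvable G] (p : ℕ) [Fact p.Prime]
    (h : Cfsg.pPrimeCore p G = ⊥) :
    Subgroup.centralizer (Cfsg.pCore p G : Set G) ≤ Cfsg.pCore p G := by
  rw [← fitting_eq_pCore_of_pPrimeCore_eq_bot p h]
  exact centralizer_fitting_le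

theorem pPrimeCore_quotient_eq_bot [Finite G] (p : ℕ) :
    Cfsg.pPrimeCore p (G ⧸ Cfsg.pPrimeCore p G) = ⊥ := by
  rw [eq_bot_iff]
  apply sSup_le
  rintro Nb ⟨hNbn, hNbc⟩
  have hn : (Nb.comap (QuotientGroup.mk' (Cfsg.pPrimeCore p G))).Normal := hNbn.comap _
  have hc : (Nat.card (Nb.comap (QuotientGroup.mk' (Cfsg.pPrimeCore p G)))).Coprime p := by
    rw [card_comap_mk']
    exact Nat.Coprime.mul_left hNbc (pPrimeCore_card_coprime p)
  have hle := le_pPrimeCore p _ hc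
  intro x hx
  obtain ⟨g, rfl⟩ := QuotientGroup.mk'_surjective (Cfsg.pPrimeCore p G) x
  have hg : g ∈ Cfsg.pPrimeCore p G := hle (Subgroup.mem_comap.mpr hx)
  rw [Subgroup.mem_bot]
  exact (QuotientGroup.eq_one_iff g).mpr hg

/-- A finite solvable group with abelian Sylow `p`-subgroups has `p`-length one (= S0018). -/
theorem sylow_sup_pPrimeCore_normal [Finite G] [Group.IsSolvable G] (p : ℕ) [Fact p.Prime]
    (P : Sylow p G) (hP : IsMulCommutative P) :
    ((P : Subgroup G) ⊔ Cfsg.pPrimeCore p G).Normal := by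
  have hφ := QuotientGroup.mk'_surjective (Cfsg.pPrimeCore p G)
  have hcent := centralizer_pCore_le (G := G ⧸ Cfsg.pPrimeCore p G) p
    (pPrimeCore_quotient_eq_bot p)
  have h1 : Cfsg.pCore p (G ⧸ Cfsg.pPrimeCore p G) ≤
      (P : Subgroup G).map (QuotientGroup.mk' (Cfsg.pPrimeCore p G)) :=
    pCore_le_sylow p (P.mapSurjective hφ)
  have h2 : (P : Subgroup G).map (QuotientGroup.mk' (Cfsg.pPrimeCore p G)) ≤
      Subgroup.centralizer (Cfsg.pCore p (G ⧸ Cfsg.pPrimeCore p G) : Set _) := by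
    intro x hx
    rw [Subgroup.mem_centralizer_iff]
    intro y hy
    obtain ⟨a, ha, rfl⟩ := hx
    obtain ⟨b, hb, rfl⟩ := h1 hy
    have hab : b * a = a * b := setLike_mul_comm hb ha
    rw [← map_mul, ← map_mul, hab]
  have h3 : (P : Subgroup G).map (QuotientGroup.mk' (Cfsg.pPrimeCore p G)) =
      Cfsg.pCore p (G ⧸ Cfsg.pPrimeCore p G) := le_antisymm (h2.trans hcent) h1
  have h4 : ((P : Subgroup G).map (QuotientGroup.mk' (Cfsg.pPrimeCore p G))).Normal := by
    rw [h3]; infer_instance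
  have h5 : (P : Subgroup G) ⊔ Cfsg.pPrimeCore p G =
      ((P : Subgroup G).map (QuotientGroup.mk' (Cfsg.pPrimeCore p G))).comap
        (QuotientGroup.mk' (Cfsg.pPrimeCore p G)) := by
    rw [Subgroup.comap_map_eq, QuotientGroup.ker_mk']
  rw [h5]
  exact h4.comap _

end Cfsg.Agent.H1
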