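import Mathlib
import Cfsg.Agent.H59.UniqueInvolution

/-!
# Odd-order automorphisms of 2-groups with a unique involution (helper1)

Type-level lemmas: an automorphism of odd order of a finite `2`-group with a unique
involution is trivial unless the group is quaternion of order `8`, and in that case we
record the facts needed later.
-/

set_option autoImplicit false

namespace Cfsg.Agent.H1.OneInv

variable {C : Type*} [Group C]

theorem aut_pow_mul (g : MulAut C) {x u : C} (hu : g u = u) (hx : g x = x * u) (k : ℕ) :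
    (g ^ k) x = x * u ^ k := by
  induction k with
  | zero => simp
  | succ k ih =>
    rw [pow_succ', MulAut.mul_apply, ih, map_mul, hx, map_pow, hu, pow_succ', mul_assoc]

/-- (O) -/
theorem fix_of_mul_fixed (g : MulAut C) {n : ℕ} (hn : g ^ n = 1) (hodd : Odd n) {x u : C}
    (hu : g u = u) (hx : g x = x * u) {k : ℕ} (hu2 : u ^ (2 ^ k) = 1) : g x = x := by
  have h1 := aut_pow_mul g hu hx n
  rw [hn, MulAut.one_apply] at h1
  have h2 : u ^ n = 1 := by simpa using h1.symm
  have h3 : orderOf u ∣ n := orderOf_dvd_of_pow_eq_one h2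
  have h4 : orderOf u ∣ 2 ^ k := orderOf_dvd_of_pow_eq_one hu2
  have hc : Nat.Coprime n (2 ^ k) := Nat.Coprime.pow_right k hodd.coprime_two_right
  have h5 : orderOf u = 1 := Nat.eq_one_of_dvd_coprimes hc h3 h4
  rw [orderOf_eq_one_iff] at h5
  rw [hx, h5, mul_one]

theorem aut_pow_fix (g : MulAut C) {x : C} (hx : g x = x) (k : ℕ) : (g ^ k) x = x := by
  induction k with
  | zero => simp
  | succ k ih => rw [pow_succ', MulAut.mul_apply, ih, hx]

/-- if `g ^ 2` fixes `x` and `g` has odd order then `g` fixes `x`. -/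
theorem fix_of_sq_fix (g : MulAut C) {n : ℕ} (hn : g ^ n = 1) (hodd : Odd n) {x : C}
    (hx : g (g x) = x) : g x = x := by
  obtain ⟨m, rfl⟩ := hodd
  have h1 : (g ^ 2) x = x := by rw [pow_two, MulAut.mul_apply, hx]
  have h2 := aut_pow_fix (g ^ 2) h1 (m + 1)
  rw [← pow_mul, show 2 * (m + 1) = (2 * m + 1) + 1 by ring, pow_succ, hn, one_mul] at h2
  exact h2

theorem fix_zpowers (g : MulAut C) {d : C} (hd : g d = d) : ∀ y ∈ Subgroup.zpowers d, g y = y := by
  intro y hy
  obtain ⟨i, rfl⟩ := Subgroup.mem_zpowers_iff.mp hy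
  rw [map_zpow, hd]

/-- (O') -/
theorem fix_all_of_fix_sub (hC : IsPGroup 2 C) (g : MulAut C) {n : ℕ} (hn : g ^ n = 1)
    (hodd : Odd n) (D : Subgroup C) (hD : ∀ x y, x ∉ D → y ∉ D → x⁻¹ * y ∈ D)
    (hfix : ∀ d ∈ D, g d = d) (x : C) : g x = x := by
  by_cases hx : x ∈ D
  · exact hfix x hx
  · have hgx : g x ∉ D := fun h => hx (by
      have h1 := hfix _ h
      have h2 : g x = x := g.injective h1
      rw [← h2]; exact h)
    have hu := hD x (g x) hx hgx
    obtain ⟨k, hk⟩ := hC (x⁻¹ * g x)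
    exact fix_of_mul_fixed g hn hodd (hfix _ hu) (by group) hk

/-- (Cyc) -/
theorem fix_of_map_mem_zpowers [Finite C] (hC : IsPGroup 2 C) (g : MulAut C) {n : ℕ}
    (hn : g ^ n = 1) (hodd : Odd n) :
    ∀ (m : ℕ) (d : C), orderOf d = m → g d ∈ Subgroup.zpowers d → g d = d := by
  intro m
  induction m using Nat.strong_induction_on with
  | _ m ih =>
    intro d hdm hgd
    by_cases hd1 : d = 1
    · subst hd1; simp
    obtain ⟨i, hi⟩ : ∃ i : ℕ, d ^ i = g d := by
      have := (mem_powers_iff_mem_zpowers (x := d) (y := g d)).2 hgd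
      exact (Submonoid.mem_powers_iff _ _).mp this
    obtain ⟨k, hk⟩ := (IsPGroup.iff_orderOf.mp hC) d
    have hk1 : k ≠ 0 := by
      rintro rfl
      rw [pow_zero, orderOf_eq_one_iff] at hk
      exact hd1 hk
    have ho2 : orderOf (d ^ 2) < m := by
      rw [orderOf_pow' d (by norm_num : (2:ℕ) ≠ 0), ← hdm, hk]
      obtain ⟨j, rfl⟩ := Nat.exists_eq_succ_of_ne_zero hk1
      have : Nat.gcd (2 ^ (j+1)) 2 = 2 := by
        rw [pow_succ]; simp
      rw [this, pow_succ, Nat.mul_div_cancel _ (by norm_num : 0 < 2)]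
      have := Nat.pow_pos (n := j) (by norm_num : 0 < 2)
      omega
    have hg2 : g (d ^ 2) = d ^ 2 := by
      apply ih _ ho2 (d ^ 2) rfl
      rw [map_pow, ← hi, ← pow_mul, mul_comm, pow_mul]
      exact Subgroup.pow_mem _ (Subgroup.mem_zpowers _) _
    rcases Nat.even_or_odd' i with ⟨j, rfl | rfl⟩
    · have h1 : g (g d) = g d := by
        rw [← hi, pow_mul, map_pow, hg2]
      exact g.injective h1
    · obtain ⟨k', hk'⟩ := hC ((d ^ 2) ^ j)
      refine fix_of_mul_fixed g hn hodd (u := (d ^ 2) ^ j) ?_ ?_ hk'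
      · rw [map_pow, hg2]
      · rw [← hi, pow_succ', pow_mul]

/-- Type-level facts for a finite `2`-group with unique involution `z` admitting a
nontrivial automorphism of odd order: the group is quaternion of order `8`. -/
theorem q8_facts [Finite C] (hC : IsPGroup 2 C) (z : C) (hz : orderOf z = 2)
    (huniq : ∀ x : C, orderOf x = 2 → x = z)
    (g : MulAut C) {n : ℕ} (hn : g ^ n = 1) (hodd : Odd n) (hg : ∃ x, g x ≠ x) :
    Nat.card C = 8 ∧ (∀ x, g x = x → x = 1 ∨ x = z) ∧ (∀ x, x ≠ 1 → x ≠ z → x * x = z) ∧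
    (∀ S : Subgroup C, (∀ x ∈ S, g x ∈ S) → (∃ x ∈ S, x ≠ 1 ∧ x ≠ z) → S = ⊤) ∧
    (∀ u v : C, u * v = v * u ∨ u * v = v * u * z) ∧ (∃ u v : C, u * v ≠ v * u) ∧
    (∀ x, x ≠ 1 → x ≠ z → ∀ y, y = 1 ∨ y = z ∨ y = x ∨ y = x * z ∨ y = g x ∨ y = g x * z ∨
      y = g (g x) ∨ y = g (g x) * z) ∧
    (∀ x, (∀ y, x * y = y * x) → x = 1 ∨ x = z) := by
  classical
  have hz1 : z ≠ 1 := by rintro rfl; simp at hz
  have hzz : z * z = 1 := by rw [← pow_two, ← hz]; exact pow_orderOf_eq_one z
  have hinv : ∀ x : C, x * x = 1 → x = 1 ∨ x = z := by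
    intro x hx
    by_cases hx1 : x = 1
    · exact Or.inl hx1
    · right; exact huniq x (orderOf_eq_prime (by rw [pow_two]; exact hx) hx1)
  have hzc : ∀ v : C, v * z = z * v := Cfsg.Agent.H59.involution_central hz1 hzz hinv
  have hgz : g z = z := by
    apply huniq
    rw [← hz]; exact orderOf_injective g.toMonoidHom g.injective z
  have hncyc : ¬ IsCyclic C := by
    intro hcyc
    obtain ⟨d, hd⟩ := hcyc.exists_generator
    obtain ⟨x, hx⟩ := hg
    have h1 : g d = d := fix_of_map_mem_zpowers hC g hn hodd _ d rfl (hd _)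
    exact hx (fix_zpowers g h1 x (hd x))
  have hsub := Cfsg.Agent.H59.unique_subgroup_of_existsUnique ⟨z, hz, huniq⟩
  obtain ⟨a, g₀, k, hk1, hk, hg₀, eg1, eg2, hcos, hout, hinv'⟩ :=
    Cfsg.Agent.H59.quaternion_structure_of_unique_two hC hsub hncyc
  have hzk : a ^ (2 ^ (k - 1)) = z := by
    apply huniq
    apply orderOf_eq_prime
    · rw [← pow_mul, ← pow_succ, Nat.sub_add_cancel hk1, ← hk]; exact pow_orderOf_eq_one a
    · intro h2
      have h3 := orderOf_dvd_of_pow_eq_one h2
      rw [hk] at h3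
      have h4 := Nat.le_of_dvd (by positivity) h3
      have h5 : 2 ^ (k - 1) < 2 ^ k := Nat.pow_lt_pow_right (by norm_num) (by omega)
      omega
  rw [hzk] at eg2 hout
  have hD : ∀ x y, x ∉ Subgroup.zpowers a → y ∉ Subgroup.zpowers a →
      x⁻¹ * y ∈ Subgroup.zpowers a := by
    intro x y hx hy
    have h1 := (hcos x).resolve_left hx
    have h2 := (hcos y).resolve_left hy
    have := Subgroup.mul_mem _ (Subgroup.inv_mem _ h1) h2
    have e : (g₀⁻¹ * x)⁻¹ * (g₀⁻¹ * y) = x⁻¹ * y := by group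
    rw [e] at this; exact this
  have hga : g a ∉ Subgroup.zpowers a := by
    intro h
    have h1 : g a = a := fix_of_map_mem_zpowers hC g hn hodd _ a rfl h
    obtain ⟨x, hx⟩ := hg
    exact hx (fix_all_of_fix_sub hC g hn hodd _ hD (fix_zpowers g h1) x)
  have haa : a * a = z := by
    have h1 := (hout _ hga).2
    rw [← map_mul, ← hgz] at h1
    exact g.injective h1
  have hsq : ∀ x, x ≠ 1 → x ≠ z → x * x = z := by
    intro x hx1 hxz
    have h4 : (x * x) * (x * x) = 1 := by
      by_cases hx : x ∈ Subgroup.zpowers a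
      · obtain ⟨i, rfl⟩ := Subgroup.mem_zpowers_iff.mp hx
        have e4 : a ^ (4:ℤ) = 1 := by
          have : a ^ (4:ℤ) = a * a * (a * a) := by
            rw [show (4:ℤ) = 2 + 2 from rfl, zpow_add, zpow_two]
          rw [this, haa, hzz]
        have : a ^ i * a ^ i * (a ^ i * a ^ i) = a ^ (i * 4) := by group
        rw [this, zpow_mul', e4, one_zpow]
      · rw [(hout x hx).2, hzz]
    rcases hinv _ h4 with h | h
    · rcases hinv _ h with h' | h'
      · exact absurd h' hx1
      · exact absurd h' hxz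
    · exact h
  have hord4 : ∀ x, x ≠ 1 → x ≠ z → orderOf x = 4 := by
    intro x hx1 hxz
    have hxx := hsq x hx1 hxz
    have h1 : ¬ x ^ 2 ^ 1 = 1 := by rw [pow_one, pow_two, hxx]; exact hz1
    have h2 : x ^ 2 ^ (1 + 1) = 1 := by
      show x ^ 4 = 1
      calc x ^ 4 = (x * x) * (x * x) := by rw [show (4:ℕ) = 2 + 2 from rfl, pow_add, pow_two]
        _ = 1 := by rw [hxx, hzz]
    exact orderOf_eq_prime_pow h1 h2
  have ha1 : a ≠ 1 := by rintro rfl; rw [mul_one] at haa; exact hz1 haa.symm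
  have haz : a ≠ z := by
    intro h
    rw [h, hzz] at haa; exact hz1 haa.symm
  have hidx : (Subgroup.zpowers a).index = 2 := by
    rw [Subgroup.index_eq_two_iff]
    refine ⟨g₀, fun b => ?_⟩
    by_cases hb : b ∈ Subgroup.zpowers a
    · refine Or.inr ⟨hb, fun h => hg₀ ?_⟩
      have := Subgroup.mul_mem _ (Subgroup.inv_mem _ hb) h
      simpa using this
    · refine Or.inl ⟨?_, hb⟩
      have hb' : b⁻¹ ∉ Subgroup.zpowers a := fun h => hb (by simpa using Subgroup.inv_mem _ h)
      have := Subgroup.inv_mem _ ((hcos b⁻¹).resolve_left hb')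
      simpa using this
  have hcard : Nat.card C = 8 := by
    rw [← Subgroup.card_mul_index (Subgroup.zpowers a), hidx, Nat.card_zpowers, hord4 a ha1 haz]
  have hidx4 : ∀ x, x ≠ 1 → x ≠ z → (Subgroup.zpowers x).index = 2 := by
    intro x hx1 hxz
    have h1 := Subgroup.card_mul_index (Subgroup.zpowers x)
    rw [Nat.card_zpowers, hord4 x hx1 hxz, hcard] at h1
    omega
  have hzp : ∀ x, x ≠ 1 → x ≠ z → ∀ y ∈ Subgroup.zpowers x,
      y = 1 ∨ y = x ∨ y = z ∨ y = x * z := by
    intro x hx1 hxz y hy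
    have hxx := hsq x hx1 hxz
    rw [mem_zpowers_iff_mem_range_orderOf, hord4 x hx1 hxz] at hy
    simp only [Finset.mem_image, Finset.mem_range] at hy
    obtain ⟨i, hi, rfl⟩ := hy
    interval_cases i
    · left; simp
    · right; left; simp
    · right; right; left; rw [pow_two, hxx]
    · right; right; right; rw [pow_succ, pow_two, hxx, hzc]
  have hfix : ∀ x, g x = x → x = 1 ∨ x = z := by
    intro x hx
    by_contra hcon
    push Not at hcon
    obtain ⟨hx1, hxz⟩ := hcon
    have hi := hidx4 x hx1 hxz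
    have hD' : ∀ u v, u ∉ Subgroup.zpowers x → v ∉ Subgroup.zpowers x →
        u⁻¹ * v ∈ Subgroup.zpowers x := by
      intro u v hu hv
      rw [Subgroup.mul_mem_iff_of_index_two hi]
      constructor
      · intro h; exact absurd (by simpa using Subgroup.inv_mem _ h) hu
      · intro h; exact absurd h hv
    obtain ⟨y, hy⟩ := hg
    exact hy (fix_all_of_fix_sub hC g hn hodd _ hD' (fix_zpowers g hx) y)
  have hgx : ∀ x, x ≠ 1 → x ≠ z → g x ∉ Subgroup.zpowers x := by
    intro x hx1 hxz h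
    have h1 : g x = x := fix_of_map_mem_zpowers hC g hn hodd _ x rfl h
    rcases hfix x h1 with h2 | h2
    · exact hx1 h2
    · exact hxz h2
  have hgenS : ∀ S : Subgroup C, (∀ x ∈ S, g x ∈ S) → (∃ x ∈ S, x ≠ 1 ∧ x ≠ z) → S = ⊤ := by
    intro S hS ⟨x, hxS, hx1, hxz⟩
    have hle : Subgroup.zpowers x ≤ S := by rw [Subgroup.zpowers_le]; exact hxS
    have h1 : Nat.card (Subgroup.zpowers x) ∣ Nat.card S := Subgroup.card_dvd_of_le hle
    have h2 : Nat.card S ∣ Nat.card C := Subgroup.card_subgroup_dvd_card S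
    rw [Nat.card_zpowers, hord4 x hx1 hxz] at h1
    rw [hcard] at h2
    have h3 : Nat.card S ≠ 4 := by
      intro h
      have := Subgroup.eq_of_le_of_card_ge hle (by rw [Nat.card_zpowers, hord4 x hx1 hxz, h])
      exact hgx x hx1 hxz (this ▸ hS x hxS)
    have h4 : Nat.card S = 8 := by
      obtain ⟨c, hc⟩ := h1
      have hc' : c ∣ 2 := by
        rw [hc] at h2
        exact Nat.dvd_of_mul_dvd_mul_left (by norm_num : 0 < 4) (by simpa using h2)
      have hc2 : c ≤ 2 := Nat.le_of_dvd (by norm_num) hc'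
      have hc0 : c ≠ 0 := by rintro rfl; simp at hc'
      interval_cases c <;> omega
    exact Subgroup.eq_top_of_card_eq S (by rw [h4, hcard])
  have hnoncomm : ∃ u v : C, u * v ≠ v * u := by
    refine ⟨g₀, a, fun h => ?_⟩
    have h1 : a = a⁻¹ := by
      rw [← eg1, h]; group
    have h2 : a * a = 1 := by
      nth_rewrite 2 [h1]; exact mul_inv_cancel a
    rw [haa] at h2; exact hz1 h2
  have hcen : ∀ x, (∀ y, x * y = y * x) → x = 1 ∨ x = z := by
    intro x hx
    by_contra hcon
    push Not at hcon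
    have hxc : x ∈ Subgroup.center C := Subgroup.mem_center_iff.mpr (fun y => (hx y).symm)
    have htop := hgenS (Subgroup.center C) (fun u hu => by
      rw [Subgroup.mem_center_iff] at hu ⊢
      intro y
      have := hu (g.symm y)
      have h2 := congrArg g this
      rw [map_mul, map_mul, MulEquiv.apply_symm_apply] at h2
      exact h2) ⟨x, hxc, hcon.1, hcon.2⟩
    obtain ⟨u, v, huv⟩ := hnoncomm
    have hu : u ∈ Subgroup.center C := htop ▸ Subgroup.mem_top u
    exact huv ((Subgroup.mem_center_iff.mp hu v).symm)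
  refine ⟨hcard, hfix, hsq, hgenS, ?_, hnoncomm, ?_, hcen⟩
  · intro u v
    by_cases hu1 : u = 1
    · left; rw [hu1]; simp
    by_cases huz : u = z
    · left; rw [huz]; exact (hzc v).symm
    have hnorm : (Subgroup.zpowers u).Normal := Subgroup.normal_of_index_eq_two (hidx4 u hu1 huz)
    have hconj : v * u * v⁻¹ ∈ Subgroup.zpowers u := hnorm.conj_mem u (Subgroup.mem_zpowers u) v
    rcases hzp u hu1 huz _ hconj with h | h | h | h
    · exfalso; apply hu1
      exact conj_eq_one_iff.mp h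
    · left
      calc u * v = (v * u * v⁻¹) * v := by rw [h]
        _ = v * u := by group
    · exfalso; apply huz
      have : u = v⁻¹ * (v * u * v⁻¹) * v := by group
      rw [this, h, mul_assoc, ← hzc v, inv_mul_cancel_left]
    · right
      have h1 : v * u = u * z * v := by
        calc v * u = (v * u * v⁻¹) * v := by group
          _ = u * z * v := by rw [h]
      rw [h1, mul_assoc u z v, ← hzc v, mul_assoc, mul_assoc, hzz, mul_one]
  · intro x hx1 hxz y
    have hy1 : g x ≠ 1 := fun h => hx1 (by simpa using h)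
    have hyz : g x ≠ z := fun h => hxz (g.injective (by rw [hgz]; exact h))
    have hy₁x : g x ∉ Subgroup.zpowers x := hgx x hx1 hxz
    have hw1 : g (g x) ≠ 1 := fun h => hy1 (by simpa using h)
    have hwz : g (g x) ≠ z := fun h => hyz (g.injective (by rw [hgz]; exact h))
    have hwx : g (g x) ∉ Subgroup.zpowers x := by
      intro h
      rcases hzp x hx1 hxz _ h with h | h | h | h
      · exact hw1 h
      · have := fix_of_sq_fix g hn hodd h
        rcases hfix x this with h' | h'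
        · exact hx1 h'
        · exact hxz h'
      · exact hwz h
      · have hn2 : (g ^ 2) ^ n = 1 := by rw [← pow_mul, mul_comm, pow_mul, hn, one_pow]
        have h2 : (g ^ 2) x = x := fix_of_mul_fixed (g ^ 2) hn2 hodd (u := z)
          (by rw [pow_two, MulAut.mul_apply, hgz, hgz])
          (by rw [pow_two, MulAut.mul_apply]; exact h) (k := 1)
          (by rw [pow_one, pow_two]; exact hzz)
        have h3 : g (g x) = x := by rw [pow_two, MulAut.mul_apply] at h2; exact h2
        have := fix_of_sq_fix g hn hodd h3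
        rcases hfix x this with h' | h'
        · exact hx1 h'
        · exact hxz h'
    have hwy : g (g x) ∉ Subgroup.zpowers (g x) := hgx (g x) hy1 hyz
    have hi := hidx4 x hx1 hxz
    have key : ∀ t, t ∈ Subgroup.zpowers x ∨ (g x)⁻¹ * t ∈ Subgroup.zpowers x := by
      intro t
      by_cases ht : t ∈ Subgroup.zpowers x
      · exact Or.inl ht
      · right
        rw [Subgroup.mul_mem_iff_of_index_two hi]
        exact ⟨fun h => absurd (by simpa using Subgroup.inv_mem _ h) hy₁x, fun h => absurd h ht⟩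
    have hw' : g (g x) = g x * x ∨ g (g x) = g x * x * z := by
      rcases hzp x hx1 hxz _ ((key (g (g x))).resolve_left hwx) with h | h | h | h
      · exfalso; apply hwy; rw [inv_mul_eq_one] at h; rw [← h]; exact Subgroup.mem_zpowers _
      · left; exact eq_mul_of_inv_mul_eq h
      · exfalso; apply hwy
        have : g (g x) = g x * z := eq_mul_of_inv_mul_eq h
        rw [this, ← hsq (g x) hy1 hyz]
        exact Subgroup.mul_mem _ (Subgroup.mem_zpowers _)
          (Subgroup.mul_mem _ (Subgroup.mem_zpowers _) (Subgroup.mem_zpowers _))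
      · right; rw [mul_assoc]; exact eq_mul_of_inv_mul_eq h
    rcases key y with h | h
    · rcases hzp x hx1 hxz _ h with h | h | h | h
      · exact Or.inl h
      · exact Or.inr (Or.inr (Or.inl h))
      · exact Or.inr (Or.inl h)
      · exact Or.inr (Or.inr (Or.inr (Or.inl h)))
    · rcases hzp x hx1 hxz _ h with h | h | h | h
      · right; right; right; right; left; rw [inv_mul_eq_one] at h; exact h.symm
      · have hy : y = g x * x := eq_mul_of_inv_mul_eq h
        rcases hw' with h' | h'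
        · right; right; right; right; right; right; left; rw [hy, h']
        · right; right; right; right; right; right; right
          rw [hy, h', mul_assoc, mul_assoc, hzz, mul_one]
      · right; right; right; right; right; left; exact eq_mul_of_inv_mul_eq h
      · have hy : y = g x * x * z := by rw [mul_assoc]; exact eq_mul_of_inv_mul_eq h
        rcases hw' with h' | h'
        · right; right; right; right; right; right; right; rw [hy, h']
        · right; right; right; right; right; right; left; rw [hy, h']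

section Bridge

variable {W : Type*} [Group W]

theorem aut_pow_mem (Q : Subgroup W) (h : MulAut W) (h1 : ∀ x ∈ Q, h x ∈ Q) (k : ℕ) :
    ∀ x ∈ Q, (h ^ k) x ∈ Q := by
  induction k with
  | zero => intro x hx; simpa using hx
  | succ k ih => intro x hx; rw [pow_succ', MulAut.mul_apply]; exact h1 _ (ih x hx)

theorem aut_inv_eq_pow (h : MulAut W) {n : ℕ} (hn : h ^ n = 1) (hodd : Odd n) :
    ∃ m : ℕ, h⁻¹ = h ^ m := by
  obtain ⟨m, rfl⟩ := hodd
  refine ⟨2 * m, ?_⟩
  rw [pow_succ] at hn
  exact (eq_inv_of_mul_eq_one_left hn).symm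

theorem aut_inv_mem (Q : Subgroup W) (h : MulAut W) {n : ℕ} (hn : h ^ n = 1) (hodd : Odd n)
    (h1 : ∀ x ∈ Q, h x ∈ Q) : ∀ x ∈ Q, h⁻¹ x ∈ Q := by
  obtain ⟨m, hm⟩ := aut_inv_eq_pow h hn hodd
  rw [hm]; exact aut_pow_mem Q h h1 _

/-- Restriction of an automorphism to an invariant subgroup. -/
def resAut (Q : Subgroup W) (h : MulAut W) (h1 : ∀ x ∈ Q, h x ∈ Q) (h2 : ∀ x ∈ Q, h⁻¹ x ∈ Q) :
    MulAut Q where
  toFun x := ⟨h x, h1 x x.2⟩
  invFun x := ⟨h⁻¹ x, h2 x x.2⟩
  left_inv x := Subtype.ext (by simp)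
  right_inv x := Subtype.ext (by simp)
  map_mul' x y := Subtype.ext (by simp)

theorem resAut_apply (Q : Subgroup W) (h : MulAut W) (h1 : ∀ x ∈ Q, h x ∈ Q)
    (h2 : ∀ x ∈ Q, h⁻¹ x ∈ Q) (x : Q) : ((resAut Q h h1 h2 x : Q) : W) = h x := rfl

theorem resAut_pow (Q : Subgroup W) (h : MulAut W) (h1 : ∀ x ∈ Q, h x ∈ Q)
    (h2 : ∀ x ∈ Q, h⁻¹ x ∈ Q) (k : ℕ) (x : Q) :
    ((((resAut Q h h1 h2) ^ k) x : Q) : W) = (h ^ k) x := by
  induction k generalizing x with
  | zero => simp
  | succ k ih =>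
    rw [pow_succ', pow_succ', MulAut.mul_apply, MulAut.mul_apply, resAut_apply, ih]

/-- `Q` is a quaternion group of order `8` on which `h` acts nontrivially (with all the
consequences we need), `z` being its involution. -/
structure BigQ (Q : Subgroup W) (z : W) (h : MulAut W) : Prop where
  card : Nat.card Q = 8
  fix : ∀ x ∈ Q, h x = x → x = 1 ∨ x = z
  sq : ∀ x ∈ Q, x ≠ 1 → x ≠ z → x * x = z
  gen : ∀ S : Subgroup W, (∀ x ∈ S, x ∈ Q → h x ∈ S) → (∃ x ∈ S, x ∈ Q ∧ x ≠ 1 ∧ x ≠ z) → Q ≤ S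
  comm : ∀ u ∈ Q, ∀ v ∈ Q, u * v = v * u ∨ u * v = v * u * z
  noncomm : ∃ u ∈ Q, ∃ v ∈ Q, u * v ≠ v * u
  list : ∀ x ∈ Q, x ≠ 1 → x ≠ z → ∀ y ∈ Q, y = 1 ∨ y = z ∨ y = x ∨ y = x * z ∨ y = h x ∨
    y = h x * z ∨ y = h (h x) ∨ y = h (h x) * z
  center : ∀ x ∈ Q, (∀ y ∈ Q, x * y = y * x) → x = 1 ∨ x = z

theorem bigQ_of_not_fix [Finite W] (hW : IsPGroup 2 W) (Q : Subgroup W) (z : W) (hzQ : z ∈ Q)
    (hz : orderOf z = 2) (huniq : ∀ x ∈ Q, orderOf x = 2 → x = z) (h : MulAut W) {n : ℕ}
    (hn : h ^ n = 1) (hodd : Odd n) (hinv : ∀ x ∈ Q, h x ∈ Q) (hnf : ∃ x ∈ Q, h x ≠ x) :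
    BigQ Q z h := by
  have hinv' := aut_inv_mem Q h hn hodd hinv
  have hrn : (resAut Q h hinv hinv') ^ n = 1 := by
    ext x
    rw [resAut_pow, hn]; rfl
  have hQ2 : IsPGroup 2 Q := hW.to_subgroup Q
  have hzo : orderOf (⟨z, hzQ⟩ : Q) = 2 := by rw [Subgroup.orderOf_mk]; exact hz
  have hu : ∀ x : Q, orderOf x = 2 → x = ⟨z, hzQ⟩ := by
    intro x hx
    apply Subtype.ext
    apply huniq x x.2
    rw [Subgroup.orderOf_coe]
    exact hx
  have hg : ∃ x : Q, (resAut Q h hinv hinv') x ≠ x := by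
    obtain ⟨x, hxQ, hx⟩ := hnf
    exact ⟨⟨x, hxQ⟩, fun h' => hx (congrArg Subtype.val h')⟩
  obtain ⟨f1, f2, f3, f4, f5, f6, f7, f8⟩ :=
    q8_facts hQ2 ⟨z, hzQ⟩ hzo hu (resAut Q h hinv hinv') hrn hodd hg
  refine ⟨f1, ?_, ?_, ?_, ?_, ?_, ?_, ?_⟩
  · intro x hx hfx
    rcases f2 ⟨x, hx⟩ (Subtype.ext hfx) with h' | h'
    · left; exact congrArg Subtype.val h'
    · right; exact congrArg Subtype.val h'
  · intro x hx hx1 hxz
    have := f3 ⟨x, hx⟩ (fun h' => hx1 (congrArg Subtype.val h'))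
      (fun h' => hxz (congrArg Subtype.val h'))
    exact congrArg Subtype.val this
  · intro S hS ⟨x, hxS, hxQ, hx1, hxz⟩
    have := f4 (S.subgroupOf Q)
      (fun y hy => Subgroup.mem_subgroupOf.mpr (hS _ (Subgroup.mem_subgroupOf.mp hy) y.2))
      ⟨⟨x, hxQ⟩, Subgroup.mem_subgroupOf.mpr hxS, fun h' => hx1 (congrArg Subtype.val h'),
        fun h' => hxz (congrArg Subtype.val h')⟩
    exact Subgroup.subgroupOf_eq_top.mp this
  · intro u hu v hv
    rcases f5 ⟨u, hu⟩ ⟨v, hv⟩ with h' | h'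
    · left; exact congrArg Subtype.val h'
    · right; exact congrArg Subtype.val h'
  · obtain ⟨u, v, huv⟩ := f6
    exact ⟨u, u.2, v, v.2, fun h' => huv (Subtype.ext h')⟩
  · intro x hx hx1 hxz y hy
    have := f7 ⟨x, hx⟩ (fun h' => hx1 (congrArg Subtype.val h'))
      (fun h' => hxz (congrArg Subtype.val h')) ⟨y, hy⟩
    rcases this with h' | h' | h' | h' | h' | h' | h' | h'
    · exact Or.inl (congrArg Subtype.val h')
    · exact Or.inr (Or.inl (congrArg Subtype.val h'))
    · exact Or.inr (Or.inr (Or.inl (congrArg Subtype.val h')))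
    · exact Or.inr (Or.inr (Or.inr (Or.inl (congrArg Subtype.val h'))))
    · exact Or.inr (Or.inr (Or.inr (Or.inr (Or.inl (congrArg Subtype.val h')))))
    · exact Or.inr (Or.inr (Or.inr (Or.inr (Or.inr (Or.inl (congrArg Subtype.val h'))))))
    · exact Or.inr (Or.inr (Or.inr (Or.inr (Or.inr (Or.inr (Or.inl (congrArg Subtype.val h')))))))
    · exact Or.inr (Or.inr (Or.inr (Or.inr (Or.inr (Or.inr (Or.inr (congrArg Subtype.val h')))))))
  · intro x hx hc
    rcases f8 ⟨x, hx⟩ (fun y => Subtype.ext (hc y y.2)) with h' | h'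
    · left; exact congrArg Subtype.val h'
    · right; exact congrArg Subtype.val h'

end Bridge

end Cfsg.Agent.H1.OneInv
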