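import Mathlib
import Cfsg.Agent.S0058

/-!
# Generation by fixed points for noncyclic abelian odd-order automorphism groups of 2-groups
(helper1; external form of S0058 via the semidirect product)
-/

set_option autoImplicit false

namespace Cfsg.Agent.H1.OneInv

variable {W : Type*} [Group W]

theorem gen_of_fix [Finite W] (hW : IsPGroup 2 W) {p : ℕ} [Fact p.Prime] (hp : p ≠ 2)
    (E : Subgroup (MulAut W)) (hE : IsPGroup p E) (hab : IsMulCommutative E)
    (hnc : ¬ IsCyclic E)
    (X Y : Subgroup W) (hX : ∀ e ∈ E, ∀ x ∈ X, e x ∈ X)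
    (h : ∀ e ∈ E, e ≠ 1 → ∀ x ∈ X, e x = x → x ∈ Y) : X ≤ Y := by
  let φ : E →* MulAut W := E.subtype
  let iG : W →* W ⋊[φ] E := SemidirectProduct.inl
  let iA : E →* W ⋊[φ] E := SemidirectProduct.inr
  have hiG : Function.Injective iG := SemidirectProduct.inl_injective
  have hiA : Function.Injective iA := SemidirectProduct.inr_injective
  haveI : Finite (W ⋊[φ] E) := Finite.of_equiv _ SemidirectProduct.equivProd.symm
  have hcomm : ∀ a b : E, a * b = b * a := isMulCommutative_iff.mp hab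
  haveI : IsMulCommutative iA.range := by
    rw [isMulCommutative_iff]
    rintro ⟨_, ⟨e1, rfl⟩⟩ ⟨_, ⟨e2, rfl⟩⟩
    apply Subtype.ext
    show iA e1 * iA e2 = iA e2 * iA e1
    rw [← map_mul, ← map_mul, hcomm]
  have hAnc : ¬ IsCyclic iA.range := by
    intro hc
    exact hnc (isCyclic_of_surjective (MonoidHom.ofInjective hiA).symm.toMonoidHom
      (MonoidHom.ofInjective hiA).symm.surjective)
  have hconj : ∀ (e : E) (x : W), iA e * iG x * (iA e)⁻¹ = iG ((e : MulAut W) x) := by
    intro e x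
    have := SemidirectProduct.inl_aut (φ := φ) e x
    rw [map_inv] at this
    exact this.symm
  have hAK : iA.range ≤ Subgroup.normalizer ((X.map iG : Subgroup (W ⋊[φ] E)) : Set _) := by
    rintro _ ⟨e, rfl⟩
    rw [Subgroup.mem_normalizer_iff]
    intro k
    constructor
    · rintro ⟨x, hx, rfl⟩
      rw [hconj]
      exact ⟨_, hX e e.2 x hx, rfl⟩
    · rintro ⟨x, hx, hxe⟩
      have : k = iA e⁻¹ * iG x * (iA e⁻¹)⁻¹ := by rw [hxe, map_inv]; group
      rw [this, hconj]
      exact ⟨_, hX _ (e⁻¹).2 x hx, rfl⟩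
  have hcop : (Nat.card iA.range).Coprime (Nat.card (X.map iG : Subgroup (W ⋊[φ] E))) := by
    have hcA : Nat.card iA.range = Nat.card E := Nat.card_congr (Equiv.ofInjective iA hiA).symm
    have hcK : Nat.card (X.map iG : Subgroup (W ⋊[φ] E)) = Nat.card X :=
      Subgroup.card_map_of_injective hiG
    obtain ⟨a, ha⟩ := IsPGroup.iff_card.mp hE
    obtain ⟨b, hb⟩ := IsPGroup.iff_card.mp (hW.to_subgroup X)
    rw [hcA, hcK, ha, hb]
    apply Nat.Coprime.pow
    exact (Nat.coprime_primes Fact.out Nat.prime_two).mpr hp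
  have hgen := Cfsg.Agent.S0058.result iA.range (X.map iG) hAnc hAK hcop
  have hle : (X.map iG : Subgroup (W ⋊[φ] E)) ≤ Y.map iG := by
    rw [← hgen]
    apply iSup₂_le
    rintro a ⟨haA, ha1⟩
    rintro k ⟨hkK, hkc⟩
    obtain ⟨e, rfl⟩ := haA
    obtain ⟨x, hx, rfl⟩ := hkK
    have he1 : (e : MulAut W) ≠ 1 := fun h1 => ha1 (by
      have : e = 1 := Subtype.ext h1
      rw [this, map_one])
    refine ⟨x, h e e.2 he1 x hx ?_, rfl⟩
    have hkc' : iG x ∈ Subgroup.centralizer {iA e} := hkc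
    rw [Subgroup.mem_centralizer_iff] at hkc'
    have h2 := hkc' (iA e) rfl
    have h3 : iG ((e : MulAut W) x) = iG x := by
      rw [← hconj, h2]; group
    exact hiG h3
  intro x hx
  obtain ⟨y, hy, hxy⟩ := hle ⟨x, hx, rfl⟩
  rw [← hiG hxy]; exact hy

end Cfsg.Agent.H1.OneInv
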