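import Mathlib
import Cfsg.Agent.H1.OddAut
import Cfsg.Agent.H1.OneInvGen
import Cfsg.Agent.H1.Coprime
import Cfsg.Agent.H1.Basic
import Cfsg.Agent.H52.Frattini
import Cfsg.Agent.H3.PGroup

/-!
# 2-groups with a noncyclic abelian odd-order automorphism group whose nonidentity elements
fix at most one involution (helper1; towards S2934)
-/

set_option autoImplicit false

namespace Cfsg.Agent.H1.OneInv

open scoped commutatorElement

variable {W : Type*} [Group W]

/-- The fixed-point subgroup of an automorphism. -/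
def fixS (e : MulAut W) : Subgroup W where
  carrier := {x | e x = x}
  mul_mem' := by
    intro a b ha hb
    simp only [Set.mem_ofPred_eq] at *
    rw [map_mul, ha, hb]
  one_mem' := map_one e
  inv_mem' := by
    intro a ha
    simp only [Set.mem_ofPred_eq] at *
    rw [map_inv, ha]

theorem mem_fixS {e : MulAut W} {x : W} : x ∈ fixS e ↔ e x = x := Iff.rfl

/-- The standing hypotheses in a convenient form. -/
structure Hyp (E : Subgroup (MulAut W)) : Prop where
  two : IsPGroup 2 W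
  comm : ∀ a ∈ E, ∀ b ∈ E, a * b = b * a
  odd : ∀ e ∈ E, ∃ n, Odd n ∧ e ^ n = 1
  gen : ∀ X Y : Subgroup W, (∀ e ∈ E, ∀ x ∈ X, e x ∈ X) →
    (∀ e ∈ E, e ≠ 1 → ∀ x ∈ X, e x = x → x ∈ Y) → X ≤ Y
  uniq : ∀ e ∈ E, e ≠ 1 → ∀ x y : W, orderOf x = 2 → orderOf y = 2 → e x = x → e y = y → x = y
  ne : ∃ e ∈ E, e ≠ 1

theorem hyp_of [Finite W] (hW : IsPGroup 2 W) {p : ℕ} [Fact p.Prime] (hp : p ≠ 2)
    (E : Subgroup (MulAut W)) (hE : IsPGroup p E) (hab : IsMulCommutative E)
    (hnc : ¬ IsCyclic E)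
    (hfix : ∀ e ∈ E, e ≠ 1 → ∀ x y : W, orderOf x = 2 → orderOf y = 2 → e x = x → e y = y →
      x = y) : Hyp E := by
  refine ⟨hW, ?_, ?_, ?_, hfix, ?_⟩
  · intro a ha b hb
    have := isMulCommutative_iff.mp hab ⟨a, ha⟩ ⟨b, hb⟩
    exact congrArg Subtype.val this
  · intro e he
    obtain ⟨k, hk⟩ := hE ⟨e, he⟩
    refine ⟨p ^ k, ?_, ?_⟩
    · exact Odd.pow ((Fact.out : p.Prime).odd_of_ne_two hp)
    · simpa using congrArg Subtype.val hk
  · intro X Y hX h
    exact gen_of_fix hW hp E hE hab hnc X Y hX h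
  · by_contra hcon
    push Not at hcon
    apply hnc
    haveI : Subsingleton E := ⟨fun a b => Subtype.ext (by rw [hcon a a.2, hcon b b.2])⟩
    infer_instance

theorem Hyp.fix_inv {E : Subgroup (MulAut W)} (H : Hyp E) {e g : MulAut W} (he : e ∈ E)
    (hg : g ∈ E) {x : W} (hx : e x = x) : e (g x) = g x := by
  have := H.comm e he g hg
  have h2 : (e * g) x = (g * e) x := by rw [this]
  rw [MulAut.mul_apply, MulAut.mul_apply, hx] at h2
  exact h2

theorem Hyp.exists_z [Finite W] {E : Subgroup (MulAut W)} (H : Hyp E) :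
    ∃ z : W, orderOf z = 2 ∧ (∀ g ∈ E, g z = z) ∧
    ∃ e₀ ∈ E, e₀ ≠ 1 ∧ ∃ g₀ ∈ E, ∃ x, e₀ x = x ∧ g₀ x ≠ x := by
  have h0 : ∃ e₀ ∈ E, e₀ ≠ 1 ∧ ∃ g₀ ∈ E, ∃ x, e₀ x = x ∧ g₀ x ≠ x := by
    by_contra hcon
    push Not at hcon
    obtain ⟨e, he, he1⟩ := H.ne
    have : (⊤ : Subgroup W) ≤ fixS e := H.gen ⊤ (fixS e) (fun _ _ _ _ => Subgroup.mem_top _)
      (fun e' he' hne x _ hx => hcon e' he' hne e he x hx)
    apply he1
    ext x
    exact this (Subgroup.mem_top x)
  obtain ⟨e₀, he₀, hne₀, g₀, hg₀, x, hx, hgx⟩ := h0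
  have hx1 : x ≠ 1 := by rintro rfl; exact hgx (map_one g₀)
  have hQ2 : IsPGroup 2 (fixS e₀) := H.two.to_subgroup _
  haveI : Nontrivial (fixS e₀) := ⟨⟨⟨x, hx⟩, 1, fun h => hx1 (congrArg Subtype.val h)⟩⟩
  obtain ⟨k, hk⟩ := IsPGroup.iff_card.mp hQ2
  have hk0 : k ≠ 0 := by
    rintro rfl
    rw [pow_zero] at hk
    have := Finite.one_lt_card (α := fixS e₀)
    omega
  have h2 : 2 ∣ Nat.card (fixS e₀) := by rw [hk]; exact dvd_pow_self 2 hk0
  haveI : Fact (Nat.Prime 2) := ⟨Nat.prime_two⟩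
  obtain ⟨zz, hzz⟩ := exists_prime_orderOf_dvd_card' 2 h2
  refine ⟨zz.1, by rw [Subgroup.orderOf_coe]; exact hzz, ?_, e₀, he₀, hne₀, g₀, hg₀, x, hx, hgx⟩
  intro g hg
  have h3 : e₀ (g zz.1) = g zz.1 := H.fix_inv he₀ hg zz.2
  have h4 : orderOf (g zz.1) = 2 := by
    rw [← hzz, ← Subgroup.orderOf_coe]; exact orderOf_injective g.toMonoidHom g.injective _
  exact H.uniq e₀ he₀ hne₀ _ _ h4 (by rw [Subgroup.orderOf_coe]; exact hzz) h3 zz.2

theorem BigQ.exists_ne {Q : Subgroup W} {z : W} {h : MulAut W} (hB : BigQ Q z h)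
    (hzc : ∀ v : W, v * z = z * v) : ∃ t ∈ Q, t ≠ 1 ∧ t ≠ z := by
  obtain ⟨u, hu, v, hv, huv⟩ := hB.noncomm
  refine ⟨u, hu, ?_, ?_⟩
  · rintro rfl; exact huv (by simp)
  · rintro rfl; exact huv (hzc v).symm

theorem BigQ.exists_moved {Q : Subgroup W} {z : W} {h : MulAut W} (hB : BigQ Q z h)
    (hzc : ∀ v : W, v * z = z * v) : ∃ t ∈ Q, h t ≠ t := by
  obtain ⟨t, ht, h1, h2⟩ := hB.exists_ne hzc
  exact ⟨t, ht, fun hf => (hB.fix t ht hf).elim h1 h2⟩

theorem cz_inv_mul {z x x' y : W} (hzc : ∀ v : W, v * z = z * v) (hxy : x * y = y * x * z)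
    (hx'y : x' * y = y * x' * z) : (x⁻¹ * x') * y = y * (x⁻¹ * x') := by
  have ha : y * x⁻¹ = x⁻¹ * y * z := by
    calc y * x⁻¹ = x⁻¹ * (x * y) * x⁻¹ := by group
      _ = x⁻¹ * (y * x * z) * x⁻¹ := by rw [hxy]
      _ = x⁻¹ * y * (x * z) * x⁻¹ := by group
      _ = x⁻¹ * y * (z * x) * x⁻¹ := by rw [hzc x]
      _ = x⁻¹ * y * z := by group
  calc x⁻¹ * x' * y = x⁻¹ * (x' * y) := by group
    _ = x⁻¹ * (y * x' * z) := by rw [hx'y]
    _ = x⁻¹ * y * (x' * z) := by group
    _ = x⁻¹ * y * (z * x') := by rw [hzc x']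
    _ = (x⁻¹ * y * z) * x' := by group
    _ = (y * x⁻¹) * x' := by rw [← ha]
    _ = y * (x⁻¹ * x') := by group

theorem mem_zpowers_z {z : W} (hz : orderOf z = 2) {x : W} :
    x ∈ Subgroup.zpowers z ↔ x = 1 ∨ x = z := by
  constructor
  · intro hx
    classical
    have hfin : IsOfFinOrder z := orderOf_pos_iff.mp (by rw [hz]; norm_num)
    rw [hfin.mem_zpowers_iff_mem_range_orderOf, hz] at hx
    simp only [Finset.mem_image, Finset.mem_range] at hx
    obtain ⟨i, hi, rfl⟩ := hx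
    interval_cases i
    · left; simp
    · right; simp
  · rintro (rfl | rfl)
    · exact Subgroup.one_mem _
    · exact Subgroup.mem_zpowers _

theorem z_mul_self {z : W} (hz : orderOf z = 2) : z * z = 1 := by
  rw [← pow_two, ← hz]; exact pow_orderOf_eq_one z

theorem z_ne_one {z : W} (hz : orderOf z = 2) : z ≠ 1 := by
  rintro rfl; simp at hz

theorem cz_iff {z : W} (hz : orderOf z = 2) [(Subgroup.zpowers z).Normal] (x v : W) :
    ((v : W ⧸ Subgroup.zpowers z) * (x : W ⧸ Subgroup.zpowers z) = (x : W ⧸ Subgroup.zpowers z) * (v : W ⧸ Subgroup.zpowers z)) ↔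
      (x * v = v * x ∨ x * v = v * x * z) := by
  rw [← QuotientGroup.mk_mul, ← QuotientGroup.mk_mul, QuotientGroup.eq, mem_zpowers_z hz]
  constructor
  · rintro (h3 | h3)
    · left; exact (inv_mul_eq_one.mp h3).symm
    · right; exact eq_mul_of_inv_mul_eq h3
  · rintro (h3 | h3)
    · left; rw [h3]; simp
    · right; rw [h3]; group

section Global

variable [Finite W] {E : Subgroup (MulAut W)} (H : Hyp E) {z : W} (hz : orderOf z = 2)
  (hzE : ∀ g ∈ E, g z = z)

include H hz hzE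

theorem uniq_z {e : MulAut W} (he : e ∈ E) (hne : e ≠ 1) {x : W} (hx : e x = x)
    (hx2 : orderOf x = 2) : x = z :=
  H.uniq e he hne x z hx2 hz hx (hzE e he)

theorem z_central (v : W) : v * z = z * v := by
  have hle : (⊤ : Subgroup W) ≤ Subgroup.centralizer {z} := by
    apply H.gen ⊤ _ (fun _ _ _ _ => Subgroup.mem_top _)
    intro l hl hl1 x _ hx
    rw [Subgroup.mem_centralizer_iff]
    intro y hy
    rw [Set.mem_singleton_iff] at hy
    rw [hy]
    have hc : l (x * z * x⁻¹) = x * z * x⁻¹ := by rw [map_mul, map_mul, map_inv, hx, hzE l hl]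
    have ho : orderOf (x * z * x⁻¹) = 2 := by
      rw [← hz]
      exact orderOf_injective (MulAut.conj x).toMonoidHom (MulAut.conj x).injective z
    have := uniq_z H hz hzE hl hl1 hc ho
    calc z * x = (x * z * x⁻¹) * x := by rw [this]
      _ = x * z := by group
  have := hle (Subgroup.mem_top v)
  rw [Subgroup.mem_centralizer_iff] at this
  exact (this z rfl).symm

theorem normal_zpowers_z : (Subgroup.zpowers z).Normal := by
  constructor
  intro n hn g
  obtain ⟨i, rfl⟩ := Subgroup.mem_zpowers_iff.mp hn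
  have : g * z ^ i * g⁻¹ = z ^ i := by
    have hc : Commute g z := z_central H hz hzE g
    have := (hc.zpow_right i).eq
    rw [this]; group
  rw [this]; exact hn

theorem big_of_moved {e h : MulAut W} (he : e ∈ E) (hne : e ≠ 1) (hh : h ∈ E)
    (hmv : ∃ x, e x = x ∧ h x ≠ x) : BigQ (fixS e) z h := by
  obtain ⟨n, hodd, hn⟩ := H.odd h hh
  exact bigQ_of_not_fix H.two (fixS e) z (hzE e he) hz
    (fun x hx hx2 => uniq_z H hz hzE he hne hx hx2) h hn hodd
    (fun x hx => H.fix_inv he hh hx) hmv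

theorem exists_czS (S : Set W) : ∃ K : Subgroup W,
    ∀ x, x ∈ K ↔ ∀ v ∈ S, x * v = v * x ∨ x * v = v * x * z := by
  haveI := normal_zpowers_z H hz hzE
  refine ⟨(Subgroup.centralizer ((QuotientGroup.mk' (Subgroup.zpowers z)) '' S)).comap
    (QuotientGroup.mk' (Subgroup.zpowers z)), fun x => ?_⟩
  rw [Subgroup.mem_comap, Subgroup.mem_centralizer_iff]
  constructor
  · intro hx v hv
    exact (cz_iff hz x v).mp (hx _ ⟨v, hv, rfl⟩)
  · intro hx q hq
    obtain ⟨v, hv, rfl⟩ := hq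
    exact (cz_iff hz x v).mpr (hx v hv)

theorem exists_cz_central (Hs : Subgroup W) (hHs : ¬ Hs ≤ Subgroup.zpowers z) :
    ∃ x ∈ Hs, x ≠ 1 ∧ x ≠ z ∧ ∀ v ∈ Hs, x * v = v * x ∨ x * v = v * x * z := by
  haveI := normal_zpowers_z H hz hzE
  have hM2 : IsPGroup 2 (Hs.map (QuotientGroup.mk' (Subgroup.zpowers z))) :=
    (H.two.to_quotient (Subgroup.zpowers z)).to_subgroup _
  obtain ⟨x₀, hx₀, hx₀N⟩ := SetLike.not_le_iff_exists.mp hHs
  haveI : Nontrivial (Hs.map (QuotientGroup.mk' (Subgroup.zpowers z))) :=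
    ⟨⟨⟨QuotientGroup.mk' (Subgroup.zpowers z) x₀, Subgroup.mem_map_of_mem _ hx₀⟩, 1, fun h =>
      hx₀N (by
        have := congrArg Subtype.val h
        exact (QuotientGroup.eq_one_iff x₀).mp this)⟩⟩
  haveI := hM2.center_nontrivial
  obtain ⟨c, hc⟩ := exists_ne (1 : Subgroup.center (Hs.map (QuotientGroup.mk' (Subgroup.zpowers z))))
  obtain ⟨x, hx, hxc⟩ := (c : Hs.map (QuotientGroup.mk' (Subgroup.zpowers z))).2
  have hxN : x ∉ Subgroup.zpowers z := by
    intro h
    apply hc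
    apply Subtype.ext; apply Subtype.ext
    rw [← hxc]
    exact (QuotientGroup.eq_one_iff x).mpr h
  refine ⟨x, hx, fun h => hxN (by rw [h]; exact Subgroup.one_mem _),
    fun h => hxN (by rw [h]; exact Subgroup.mem_zpowers _), ?_⟩
  intro v hv
  have hcen := Subgroup.mem_center_iff.mp c.2
    ⟨QuotientGroup.mk' (Subgroup.zpowers z) v, Subgroup.mem_map_of_mem _ hv⟩
  have h1 := congrArg Subtype.val hcen
  apply (cz_iff hz x v).mp
  have hxc' : (x : W ⧸ Subgroup.zpowers z) = ((c : Hs.map (QuotientGroup.mk' (Subgroup.zpowers z))) : W ⧸ Subgroup.zpowers z) := hxc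
  rw [hxc']
  exact h1

theorem comm_of_big {l e'' : MulAut W} (hl : l ∈ E) (he'' : e'' ∈ E)
    (hB : BigQ (fixS l) z e'') {y : W} (hy : e'' y = y)
    (hc : ∀ u ∈ fixS l, u * y = y * u ∨ u * y = y * u * z) :
    ∀ u ∈ fixS l, u * y = y * u := by
  have hzc := z_central H hz hzE
  have hzz := z_mul_self hz
  by_contra hcon
  push Not at hcon
  obtain ⟨x, hx, hxy⟩ := hcon
  have hxy' : x * y = y * x * z := (hc x hx).resolve_left hxy
  have hx' : e'' x ∈ fixS l := H.fix_inv hl he'' hx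
  have hx'y : e'' x * y ≠ y * e'' x := by
    intro h
    apply hxy
    apply e''.injective
    rw [map_mul, map_mul, hy]; exact h
  have hx'y' := (hc _ hx').resolve_left hx'y
  have ht : (x⁻¹ * e'' x) * y = y * (x⁻¹ * e'' x) := cz_inv_mul hzc hxy' hx'y'
  have hS : ∀ u ∈ (fixS l ⊓ Subgroup.centralizer {y}), u ∈ fixS l →
      e'' u ∈ (fixS l ⊓ Subgroup.centralizer {y}) := by
    intro u hu _
    refine Subgroup.mem_inf.mpr ⟨H.fix_inv hl he'' (Subgroup.mem_inf.mp hu).1, ?_⟩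
    rw [Subgroup.mem_centralizer_iff]
    intro w hw
    rw [Set.mem_singleton_iff] at hw
    rw [hw]
    have := Subgroup.mem_centralizer_iff.mp (Subgroup.mem_inf.mp hu).2 y rfl
    have h2 := congrArg e'' this
    rw [map_mul, map_mul, hy] at h2
    exact h2
  obtain ⟨n, hodd, hn⟩ := H.odd e'' he''
  have hfx : e'' x ≠ x := by
    intro this
    rcases hB.fix x hx this with h' | h'
    · apply hxy; rw [h']; simp
    · apply hxy; rw [h']; exact (hzc y).symm
  have ht1 : x⁻¹ * e'' x ≠ 1 := by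
    intro h
    apply hfx
    rw [inv_mul_eq_one] at h; exact h.symm
  have htz : x⁻¹ * e'' x ≠ z := by
    intro h
    have h1 : e'' x = x * z := eq_mul_of_inv_mul_eq h
    exact hfx (fix_of_mul_fixed e'' hn hodd (hzE e'' he'') h1 (k := 1)
      (by rw [pow_one, pow_two]; exact hzz))
  have htm : x⁻¹ * e'' x ∈ fixS l := Subgroup.mul_mem _ (Subgroup.inv_mem _ hx) hx'
  have hle := hB.gen (fixS l ⊓ Subgroup.centralizer {y}) hS
    ⟨x⁻¹ * e'' x, Subgroup.mem_inf.mpr ⟨htm, Subgroup.mem_centralizer_iff.mpr (fun w hw => by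
      rw [Set.mem_singleton_iff] at hw; rw [hw]; exact ht.symm)⟩, htm, ht1, htz⟩
  have := (Subgroup.mem_inf.mp (hle hx)).2
  exact hxy (Subgroup.mem_centralizer_iff.mp this y rfl).symm

variable (hFE : ∀ x, (∀ g ∈ E, g x = x) → x = 1 ∨ x = z)

include hFE

theorem small_or_big {e : MulAut W} (he : e ∈ E) (hne : e ≠ 1) :
    (∀ x, e x = x → x = 1 ∨ x = z) ∨ ∃ h ∈ E, BigQ (fixS e) z h := by
  by_cases hmv : ∃ h ∈ E, ∃ x, e x = x ∧ h x ≠ x
  · obtain ⟨h, hh, hx⟩ := hmv
    exact Or.inr ⟨h, hh, big_of_moved H hz hzE he hne hh hx⟩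
  · left
    push Not at hmv
    intro x hx
    exact hFE x (fun g hg => hmv g hg x hx)

theorem exists_big_central (Hs : Subgroup W) (hinv : ∀ g ∈ E, ∀ x ∈ Hs, g x ∈ Hs)
    (hHs : ¬ Hs ≤ Subgroup.zpowers z) :
    ∃ l ∈ E, l ≠ 1 ∧ (∃ h ∈ E, BigQ (fixS l) z h) ∧ fixS l ≤ Hs ∧
      ∀ u ∈ fixS l, ∀ v ∈ Hs, u * v = v * u ∨ u * v = v * u * z := by
  obtain ⟨K, hK⟩ := exists_czS H hz hzE (Hs : Set W)
  have hZinv : ∀ g ∈ E, ∀ x ∈ Hs ⊓ K, g x ∈ Hs ⊓ K := by
    intro g hg x hx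
    refine Subgroup.mem_inf.mpr ⟨hinv g hg x (Subgroup.mem_inf.mp hx).1, (hK _).mpr ?_⟩
    intro v hv
    have hv' : g⁻¹ v ∈ Hs := hinv g⁻¹ (E.inv_mem hg) v hv
    have hvv : g (g⁻¹ v) = v := MulAut.apply_inv_self _ g v
    rcases (hK x).mp (Subgroup.mem_inf.mp hx).2 _ hv' with h1 | h1
    · left; rw [← hvv, ← map_mul, ← map_mul, h1]
    · right; rw [← hvv, ← map_mul, ← map_mul, h1, map_mul g _ z, hzE g hg]
  obtain ⟨x₀, hx₀, hx₀1, hx₀z, hx₀c⟩ := exists_cz_central H hz hzE Hs hHs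
  have hx₀Z : x₀ ∈ Hs ⊓ K := Subgroup.mem_inf.mpr ⟨hx₀, (hK _).mpr hx₀c⟩
  have hex : ∃ l ∈ E, l ≠ 1 ∧ ∃ x ∈ Hs ⊓ K, l x = x ∧ x ∉ Subgroup.zpowers z := by
    by_contra hcon
    push Not at hcon
    have := H.gen (Hs ⊓ K) (Subgroup.zpowers z) hZinv
      (fun l hl hl1 x hx hlx => hcon l hl hl1 x hx hlx)
    exact ((mem_zpowers_z hz).mp (this hx₀Z)).elim hx₀1 hx₀z
  obtain ⟨l, hl, hl1, x₁, hx₁, hlx₁, hx₁N⟩ := hex
  have hx₁1 : x₁ ≠ 1 := fun h => hx₁N (by rw [h]; exact Subgroup.one_mem _)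
  have hx₁z : x₁ ≠ z := fun h => hx₁N (by rw [h]; exact Subgroup.mem_zpowers _)
  obtain ⟨h, hh, hB⟩ := (small_or_big H hz hzE hFE hl hl1).resolve_left
    (fun hs => (hs x₁ hlx₁).elim hx₁1 hx₁z)
  have hle : fixS l ≤ Hs ⊓ K := hB.gen (Hs ⊓ K) (fun x hx _ => hZinv h hh x hx)
    ⟨x₁, hx₁, hlx₁, hx₁1, hx₁z⟩
  exact ⟨l, hl, hl1, ⟨h, hh, hB⟩, hle.trans inf_le_left,
    fun u hu v hv => (hK u).mp (Subgroup.mem_inf.mp (hle hu)).2 v hv⟩

theorem claimF : ∀ (n : ℕ) (Hs : Subgroup W), Nat.card Hs = n →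
    (∀ g ∈ E, ∀ x ∈ Hs, g x ∈ Hs) →
    ∀ e ∈ E, ∀ e' ∈ E, e ≠ 1 → e' ≠ 1 → (∃ t, e t = t ∧ e' t ≠ t) →
    ∀ x ∈ Hs, ∀ y ∈ Hs, e x = x → e' y = y → x * y = y * x := by
  intro n
  induction n using Nat.strong_induction_on with
  | _ n ih =>
  intro Hs hcard hinv e he e' he' hne hne' hact x hx y hy hex hey
  have hzc := z_central H hz hzE
  by_cases hHN : Hs ≤ Subgroup.zpowers z
  · rcases (mem_zpowers_z hz).mp (hHN hx) with h | h
    · rw [h]; simp
    · rw [h]; exact (hzc y).symm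
  obtain ⟨l, hl, hl1, ⟨h₀, hh₀, hB₀⟩, hlH, hlc⟩ :=
    exists_big_central H hz hzE hFE Hs hinv hHN
  have hBe : BigQ (fixS e) z e' := big_of_moved H hz hzE he hne he' hact
  have F1 : ∀ e'' ∈ E, (∃ t, l t = t ∧ e'' t ≠ t) → ∀ w ∈ Hs, e'' w = w →
      ∀ u ∈ fixS l, u * w = w * u := by
    intro e'' he'' hmv w hw hew
    exact comm_of_big H hz hzE hl he'' (big_of_moved H hz hzE hl hl1 he'' hmv) hew
      (fun u hu => hlc u hu w hw)
  by_cases h1 : ∀ t, l t = t → e t = t
  · have hle : fixS l ≤ fixS e := fun t ht => h1 t ht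
    have heq : fixS l = fixS e :=
      Subgroup.eq_of_le_of_card_ge hle (by rw [hB₀.card, hBe.card])
    have hmv : ∃ t, l t = t ∧ e' t ≠ t := by
      obtain ⟨t, ht, ht'⟩ := hact
      have ht2 : t ∈ fixS l := by rw [heq]; exact ht
      exact ⟨t, ht2, ht'⟩
    have hx2 : x ∈ fixS l := by rw [heq]; exact hex
    exact F1 e' he' hmv y hy hey x hx2
  · push Not at h1
    by_cases h2 : ∀ t, l t = t → e' t = t
    · have hle : fixS l ≤ fixS e' := fun t ht => h2 t ht
      obtain ⟨t₁, ht₁, ht₁1, ht₁z⟩ := hB₀.exists_ne hzc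
      obtain ⟨h', hh', hB'⟩ := (small_or_big H hz hzE hFE he' hne').resolve_left
        (fun hs => (hs t₁ (hle ht₁)).elim ht₁1 ht₁z)
      have heq : fixS l = fixS e' :=
        Subgroup.eq_of_le_of_card_ge hle (by rw [hB₀.card, hB'.card])
      have hy2 : y ∈ fixS l := by rw [heq]; exact hey
      exact (F1 e he h1 x hx hex y hy2).symm
    · push Not at h2
      have hx1 := F1 e he h1 x hx hex
      have hy1 := F1 e' he' h2 y hy hey
      have hxH₁ : x ∈ Hs ⊓ Subgroup.centralizer (fixS l : Set W) :=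
        Subgroup.mem_inf.mpr ⟨hx, Subgroup.mem_centralizer_iff.mpr (fun u hu => hx1 u hu)⟩
      have hyH₁ : y ∈ Hs ⊓ Subgroup.centralizer (fixS l : Set W) :=
        Subgroup.mem_inf.mpr ⟨hy, Subgroup.mem_centralizer_iff.mpr (fun u hu => hy1 u hu)⟩
      have hH₁inv : ∀ g ∈ E, ∀ w ∈ Hs ⊓ Subgroup.centralizer (fixS l : Set W),
          g w ∈ Hs ⊓ Subgroup.centralizer (fixS l : Set W) := by
        intro g hg w hw
        refine Subgroup.mem_inf.mpr ⟨hinv g hg w (Subgroup.mem_inf.mp hw).1,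
          Subgroup.mem_centralizer_iff.mpr ?_⟩
        intro u hu
        have hu' : g⁻¹ u ∈ fixS l := H.fix_inv hl (E.inv_mem hg) hu
        have := Subgroup.mem_centralizer_iff.mp (Subgroup.mem_inf.mp hw).2 _ hu'
        have h3 := congrArg g this
        rw [map_mul, map_mul, MulAut.apply_inv_self] at h3
        exact h3
      have hlt : Nat.card (Hs ⊓ Subgroup.centralizer (fixS l : Set W) : Subgroup W) < n := by
        rw [← hcard]
        by_contra hge
        push Not at hge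
        have heq : Hs ⊓ Subgroup.centralizer (fixS l : Set W) = Hs :=
          Subgroup.eq_of_le_of_card_ge inf_le_left hge
        obtain ⟨u, hu, v, hv, huv⟩ := hB₀.noncomm
        have huH : u ∈ Hs ⊓ Subgroup.centralizer (fixS l : Set W) := by
          rw [heq]; exact hlH hu
        exact huv (Subgroup.mem_centralizer_iff.mp (Subgroup.mem_inf.mp huH).2 v hv).symm
      exact ih _ hlt _ rfl hH₁inv e he e' he' hne hne' hact x hxH₁ y hyH₁ hex hey

theorem exists_two_big (he₀ : ∃ e₀ ∈ E, e₀ ≠ 1 ∧ ∃ g₀ ∈ E, ∃ x, e₀ x = x ∧ g₀ x ≠ x) :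
    ∃ e ∈ E, ∃ e' ∈ E, e ≠ 1 ∧ e' ≠ 1 ∧ BigQ (fixS e) z e' ∧ BigQ (fixS e') z e := by
  obtain ⟨e, he, hne, g₀, hg₀, hmv₀⟩ := he₀
  have hB₀ := big_of_moved H hz hzE he hne hg₀ hmv₀
  have hex : ∃ e' ∈ E, e' ≠ 1 ∧ ∃ t, e' t = t ∧ e t ≠ t := by
    by_contra hcon
    push Not at hcon
    have : (⊤ : Subgroup W) ≤ fixS e := H.gen ⊤ (fixS e) (fun _ _ _ _ => Subgroup.mem_top _)
      (fun e' he' hne' x _ hx => hcon e' he' hne' x hx)
    apply hne
    ext x
    exact this (Subgroup.mem_top x)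
  obtain ⟨e', he', hne', hmv'⟩ := hex
  have hB' := big_of_moved H hz hzE he' hne' he hmv'
  refine ⟨e, he, e', he', hne, hne', ?_, hB'⟩
  apply big_of_moved H hz hzE he hne he'
  by_contra hcon
  push Not at hcon
  have hle : fixS e ≤ fixS e' := fun t ht => hcon t ht
  have heq : fixS e = fixS e' := Subgroup.eq_of_le_of_card_ge hle (by rw [hB₀.card, hB'.card])
  obtain ⟨t, ht, ht'⟩ := hmv'
  have : t ∈ fixS e := by rw [heq]; exact ht
  exact ht' this

omit [Finite W] H hz hzE hFE in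
theorem aut_inv_fix (f : MulAut W) {x : W} (hx : f x = x) : f⁻¹ x = x := by
  calc f⁻¹ x = f⁻¹ (f x) := by rw [hx]
    _ = x := MulAut.inv_apply_self _ f x

theorem exists_pow_agree {l f g : MulAut W} (hl : l ∈ E) (hl1 : l ≠ 1) (hf : f ∈ E) (hg : g ∈ E)
    (hBl : BigQ (fixS l) z f) : ∃ j, j < 3 ∧ ∀ y, l y = y → g y = (f ^ j) y := by
  have hzc := z_central H hz hzE
  have hzz := z_mul_self hz
  obtain ⟨x, hx, hx1, hxz⟩ := hBl.exists_ne hzc
  have hgx : g x ∈ fixS l := H.fix_inv hl hg hx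
  have key : ∀ j : ℕ, (g x = (f ^ j) x ∨ g x = (f ^ j) x * z) →
      ∀ y, l y = y → g y = (f ^ j) y := by
    intro j hj y hy
    have hk : (f ^ j)⁻¹ * g ∈ E := E.mul_mem (E.inv_mem (E.pow_mem hf j)) hg
    have hkx : ((f ^ j)⁻¹ * g) x = x := by
      rcases hj with hj | hj
      · rw [MulAut.mul_apply, hj, MulAut.inv_apply_self]
      · obtain ⟨n, hodd, hn⟩ := H.odd _ hk
        refine fix_of_mul_fixed _ hn hodd (hzE _ hk) ?_ (k := 1)
          (by rw [pow_one, pow_two]; exact hzz)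
        rw [MulAut.mul_apply, hj, map_mul, MulAut.inv_apply_self,
          hzE _ (E.inv_mem (E.pow_mem hf j))]
    have hky : ((f ^ j)⁻¹ * g) y = y := by
      by_contra hne
      have hBk := big_of_moved H hz hzE hl hl1 hk ⟨y, hy, hne⟩
      exact (hBk.fix x hx hkx).elim hx1 hxz
    rw [MulAut.mul_apply] at hky
    have := congrArg (f ^ j) hky
    rw [MulAut.apply_inv_self] at this
    exact this
  have hlist := hBl.list x hx hx1 hxz (g x) hgx
  rcases hlist with h | h | h | h | h | h | h | h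
  · exfalso; exact hx1 (by simpa using h)
  · exfalso; apply hxz; apply g.injective; rw [h, hzE g hg]
  · exact ⟨0, by norm_num, key 0 (Or.inl (by simpa using h))⟩
  · exact ⟨0, by norm_num, key 0 (Or.inr (by simpa using h))⟩
  · exact ⟨1, by norm_num, key 1 (Or.inl (by simpa using h))⟩
  · exact ⟨1, by norm_num, key 1 (Or.inr (by simpa using h))⟩
  · exact ⟨2, by norm_num, key 2 (Or.inl (by rw [h, pow_two, MulAut.mul_apply]))⟩
  · exact ⟨2, by norm_num, key 2 (Or.inr (by rw [h, pow_two, MulAut.mul_apply]))⟩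

theorem comm_of_inter {l l' : MulAut W} (hl : l ∈ E) (hl' : l' ∈ E) (hl1 : l ≠ 1)
    (hl'1 : l' ≠ 1) (hint : ∀ x, l x = x → l' x = x → x = 1 ∨ x = z) :
    ∀ x y, l x = x → l' y = y → x * y = y * x := by
  intro x y hx hy
  have hzc := z_central H hz hzE
  rcases small_or_big H hz hzE hFE hl hl1 with hs | ⟨h, hh, hBl⟩
  · rcases hs x hx with h | h
    · rw [h]; simp
    · rw [h]; exact (hzc y).symm
  · have hmv : ∃ t, l t = t ∧ l' t ≠ t := by
      obtain ⟨t, ht, ht1, htz⟩ := hBl.exists_ne hzc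
      exact ⟨t, ht, fun h' => (hint t ht h').elim ht1 htz⟩
    exact claimF H hz hzE hFE _ ⊤ rfl (fun _ _ _ _ => Subgroup.mem_top _) l hl l' hl' hl1 hl'1
      hmv x (Subgroup.mem_top x) y (Subgroup.mem_top y) hx hy

omit hFE in
theorem fixS_small {l : MulAut W} (hl : l ∈ E) (hs : ∀ x, l x = x → x = 1 ∨ x = z) :
    fixS l = Subgroup.zpowers z := by
  apply le_antisymm
  · intro x hx; exact (mem_zpowers_z hz).mpr (hs x hx)
  · rw [Subgroup.zpowers_le]; exact hzE l hl

omit H hz hzE hFE in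
theorem card_sup_mul_card_inf (A B : Subgroup W) (hAB : A ≤ Subgroup.normalizer (B : Set W)) :
    Nat.card (A ⊔ B : Subgroup W) * Nat.card (A ⊓ B : Subgroup W) = Nat.card A * Nat.card B := by
  have h1 : B.relIndex (A ⊔ B) = B.relIndex A :=
    Cfsg.Agent.H1.relIndex_sup_of_le_normalizer A B hAB
  have h2 := Subgroup.card_mul_index (B.subgroupOf (A ⊔ B))
  rw [Cfsg.Agent.H1.card_subgroupOf_of_le le_sup_right] at h2
  have h3 := Subgroup.card_mul_index (B.subgroupOf A)
  rw [Cfsg.Agent.H1.card_subgroupOf] at h3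
  have h1' : (B.subgroupOf (A ⊔ B)).index = (B.subgroupOf A).index := h1
  rw [← h2, ← h3, h1', inf_comm]; ring

theorem card_sup_fixS (P : Subgroup W) (hzP : z ∈ P) {l : MulAut W} (hl : l ∈ E) (hl1 : l ≠ 1)
    (hc : ∀ a ∈ P, ∀ b, l b = b → a * b = b * a) :
    (fixS l = Subgroup.zpowers z ∧ Nat.card (P ⊔ fixS l : Subgroup W) = Nat.card P) ∨
    ((∃ h ∈ E, BigQ (fixS l) z h) ∧ Nat.card (P ⊔ fixS l : Subgroup W) = 4 * Nat.card P) := by
  rcases small_or_big H hz hzE hFE hl hl1 with hs | ⟨h, hh, hBl⟩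
  · left
    have hsm := fixS_small H hz hzE hl hs
    have : fixS l ≤ P := by rw [hsm, Subgroup.zpowers_le]; exact hzP
    exact ⟨hsm, by rw [sup_eq_left.mpr this]⟩
  · right
    refine ⟨⟨h, hh, hBl⟩, ?_⟩
    have hle : P ≤ Subgroup.normalizer (fixS l : Set W) := by
      refine le_trans ?_ (Subgroup.centralizer_le_normalizer _)
      intro a ha
      rw [Subgroup.mem_centralizer_iff]
      intro b hb
      exact (hc a ha b hb).symm
    have hinf : P ⊓ fixS l = Subgroup.zpowers z := by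
      apply le_antisymm
      · intro x hx
        obtain ⟨hxP, hxl⟩ := Subgroup.mem_inf.mp hx
        exact (mem_zpowers_z hz).mpr (hBl.center x hxl (fun y hy => hc x hxP y hy))
      · rw [Subgroup.zpowers_le]; exact Subgroup.mem_inf.mpr ⟨hzP, hzE l hl⟩
    have := card_sup_mul_card_inf P (fixS l) hle
    rw [hinf, Nat.card_zpowers, hz, hBl.card] at this
    omega

theorem center_eq : Subgroup.center W = Subgroup.zpowers z := by
  have hzc := z_central H hz hzE
  apply le_antisymm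
  · apply H.gen (Subgroup.center W) _
    · intro g hg x hx
      rw [Subgroup.mem_center_iff] at hx ⊢
      intro y
      have := hx (g⁻¹ y)
      have h2 := congrArg g this
      rw [map_mul, map_mul, MulAut.apply_inv_self] at h2
      exact h2
    · intro l hl hl1 x hx hlx
      rw [mem_zpowers_z hz]
      rcases small_or_big H hz hzE hFE hl hl1 with hs | ⟨h, hh, hBl⟩
      · exact hs x hlx
      · exact hBl.center x hlx (fun y _ => ((Subgroup.mem_center_iff.mp hx) y).symm)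
  · rw [Subgroup.zpowers_le, Subgroup.mem_center_iff]
    exact hzc

theorem cz_all : ∀ x y : W, x * y = y * x ∨ x * y = y * x * z := by
  have hzc := z_central H hz hzE
  have hzz := z_mul_self hz
  have st1 : ∀ l ∈ E, l ≠ 1 → ∀ l' ∈ E, l' ≠ 1 → ∀ x y, l x = x → l' y = y →
      (x * y = y * x ∨ x * y = y * x * z) := by
    intro l hl hl1 l' hl' hl'1 x y hx hy
    rcases small_or_big H hz hzE hFE hl hl1 with hs | ⟨h, hh, hBl⟩
    · left
      rcases hs x hx with h | h
      · rw [h]; simp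
      · rw [h]; exact (hzc y).symm
    · by_cases hmv : ∃ t, l t = t ∧ l' t ≠ t
      · left
        exact claimF H hz hzE hFE _ ⊤ rfl (fun _ _ _ _ => Subgroup.mem_top _) l hl l' hl' hl1
          hl'1 hmv x (Subgroup.mem_top x) y (Subgroup.mem_top y) hx hy
      · push Not at hmv
        have hle : fixS l ≤ fixS l' := fun t ht => hmv t ht
        obtain ⟨t₁, ht₁, ht₁1, ht₁z⟩ := hBl.exists_ne hzc
        obtain ⟨h', hh', hB'⟩ := (small_or_big H hz hzE hFE hl' hl'1).resolve_left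
          (fun hs => (hs t₁ (hle ht₁)).elim ht₁1 ht₁z)
        have heq : fixS l = fixS l' :=
          Subgroup.eq_of_le_of_card_ge hle (by rw [hBl.card, hB'.card])
        have hy2 : y ∈ fixS l := by rw [heq]; exact hy
        exact hBl.comm x hx y hy2
  have st2 : ∀ l' ∈ E, l' ≠ 1 → ∀ y, l' y = y → ∀ x,
      (x * y = y * x ∨ x * y = y * x * z) := by
    intro l' hl' hl'1 y hy x
    obtain ⟨K, hK⟩ := exists_czS H hz hzE ({y} : Set W)
    have : (⊤ : Subgroup W) ≤ K := H.gen ⊤ K (fun _ _ _ _ => Subgroup.mem_top _)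
      (fun l hl hl1 x _ hx => (hK x).mpr (fun v hv => by
        rw [Set.mem_singleton_iff] at hv; rw [hv]
        exact st1 l hl hl1 l' hl' hl'1 x y hx hy))
    exact (hK x).mp (this (Subgroup.mem_top x)) y rfl
  intro x y
  obtain ⟨K, hK⟩ := exists_czS H hz hzE ({x} : Set W)
  have : (⊤ : Subgroup W) ≤ K := H.gen ⊤ K (fun _ _ _ _ => Subgroup.mem_top _)
    (fun l hl hl1 y _ hy => (hK y).mpr (fun v hv => by
      rw [Set.mem_singleton_iff] at hv; rw [hv]
      rcases st2 l hl hl1 y hy x with h | h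
      · left; exact h.symm
      · right; rw [h, mul_assoc, hzz, mul_one]))
  have h := (hK y).mp (this (Subgroup.mem_top y)) x rfl
  rcases h with h | h
  · left; exact h.symm
  · right; rw [h, mul_assoc, hzz, mul_one]

theorem sq_all (hcz : ∀ x y : W, x * y = y * x ∨ x * y = y * x * z) :
    ∀ x : W, x * x = 1 ∨ x * x = z := by
  have hzc := z_central H hz hzE
  have hzz := z_mul_self hz
  let Y : Subgroup W :=
    { carrier := {x | x * x ∈ Subgroup.zpowers z}
      mul_mem' := by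
        intro a b ha hb
        simp only [Set.mem_ofPred_eq] at *
        have : a * b * (a * b) = (a * a) * (b * b) ∨
            a * b * (a * b) = (a * a) * (b * b) * z := by
          rcases hcz b a with h | h
          · left
            calc a * b * (a * b) = a * (b * a) * b := by group
              _ = a * (a * b) * b := by rw [h]
              _ = a * a * (b * b) := by group
          · right
            calc a * b * (a * b) = a * (b * a) * b := by group
              _ = a * (a * b * z) * b := by rw [h]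
              _ = a * a * b * (z * b) := by group
              _ = a * a * b * (b * z) := by rw [hzc b]
              _ = a * a * (b * b) * z := by group
        rcases this with h | h
        · rw [h]; exact Subgroup.mul_mem _ ha hb
        · rw [h]; exact Subgroup.mul_mem _ (Subgroup.mul_mem _ ha hb) (Subgroup.mem_zpowers z)
      one_mem' := by
        show (1 : W) * 1 ∈ Subgroup.zpowers z
        rw [mul_one]; exact Subgroup.one_mem _
      inv_mem' := by
        intro a ha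
        simp only [Set.mem_ofPred_eq] at *
        have : a⁻¹ * a⁻¹ = (a * a)⁻¹ := by group
        rw [this]; exact Subgroup.inv_mem _ ha }
  have : (⊤ : Subgroup W) ≤ Y := H.gen ⊤ Y (fun _ _ _ _ => Subgroup.mem_top _)
    (fun l hl hl1 x _ hx => by
      show x * x ∈ Subgroup.zpowers z
      rw [mem_zpowers_z hz]
      rcases small_or_big H hz hzE hFE hl hl1 with hs | ⟨h, hh, hBl⟩
      · rcases hs x hx with h | h
        · left; rw [h]; simp
        · left; rw [h]; exact hzz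
      · by_cases hx1 : x = 1
        · left; rw [hx1]; simp
        by_cases hxz : x = z
        · left; rw [hxz]; exact hzz
        · right; exact hBl.sq x hx hx1 hxz)
  intro x
  exact (mem_zpowers_z hz).mp (this (Subgroup.mem_top x))

omit H hz hzE hFE in
theorem pow_three_eq_one (hnc : ¬ IsCyclic E) (h9 : Nat.card E = 9) {f : MulAut W}
    (hf : f ∈ E) : f ^ 3 = 1 := by
  have h1 : orderOf (⟨f, hf⟩ : E) ∣ 9 := h9 ▸ orderOf_dvd_natCard _
  have h2 : orderOf (⟨f, hf⟩ : E) ≠ 9 := by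
    intro h
    exact hnc (isCyclic_of_orderOf_eq_card _ (by rw [h, h9]))
  have h3 : orderOf (⟨f, hf⟩ : E) ∣ 3 := by
    have hle : orderOf (⟨f, hf⟩ : E) ≤ 9 := Nat.le_of_dvd (by norm_num) h1
    have hpos : 0 < orderOf (⟨f, hf⟩ : E) := Nat.pos_of_dvd_of_pos h1 (by norm_num)
    generalize orderOf (⟨f, hf⟩ : E) = m at *
    interval_cases m <;> simp_all
  have := orderOf_dvd_iff_pow_eq_one.mp h3
  exact congrArg Subtype.val this

section Pair

variable {e e' : MulAut W} (he : e ∈ E) (he' : e' ∈ E) (hne : e ≠ 1) (hne' : e' ≠ 1)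
  (hB : BigQ (fixS e) z e') (hB' : BigQ (fixS e') z e)

include he he' hne hne' hB hB'

theorem eq_one_of_fix_both {h : MulAut W} (hh : h ∈ E) (hfe : ∀ x, e x = x → h x = x)
    (hfe' : ∀ x, e' x = x → h x = x) : h = 1 := by
  have hzc := z_central H hz hzE
  have hzz := z_mul_self hz
  by_contra hh1
  obtain ⟨u, hu, hu1, huz⟩ := hB.exists_ne hzc
  obtain ⟨v, hv, hv1, hvz⟩ := hB'.exists_ne hzc
  have huu := hB.sq u hu hu1 huz
  have hvv := hB'.sq v hv hv1 hvz
  have huv : u * v = v * u :=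
    comm_of_inter H hz hzE hFE he he' hne hne' (fun x hx hx' => hB.fix x hx hx') u v hu hv
  have h2 : (u * v) ^ 2 = 1 := by
    rw [pow_two]
    calc u * v * (u * v) = u * (v * u) * v := by group
      _ = u * (u * v) * v := by rw [huv]
      _ = (u * u) * (v * v) := by group
      _ = 1 := by rw [huu, hvv, hzz]
  have huv1 : u * v ≠ 1 := by
    intro h1
    have : v = u⁻¹ := eq_inv_of_mul_eq_one_right h1
    have hve : e v = v := by rw [this]; exact Subgroup.inv_mem (fixS e) hu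
    exact (hB.fix v hve hv).elim hv1 hvz
  haveI : Fact (Nat.Prime 2) := ⟨Nat.prime_two⟩
  have ho : orderOf (u * v) = 2 := orderOf_eq_prime h2 huv1
  have hfuv : h (u * v) = u * v := by rw [map_mul, hfe u hu, hfe' v hv]
  have huvz := uniq_z H hz hzE hh hh1 hfuv ho
  have hv2 : v = u⁻¹ * z := by rw [← huvz]; group
  have hve : e v = v := by
    rw [hv2]; exact Subgroup.mul_mem (fixS e) (Subgroup.inv_mem _ hu) (hzE e he)
  exact (hB.fix v hve hv).elim hv1 hvz

theorem exists_decomp {g : MulAut W} (hg : g ∈ E) :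
    ∃ i j, i < 3 ∧ j < 3 ∧ g = e' ^ j * e ^ i := by
  obtain ⟨j, hj, hgj⟩ := exists_pow_agree H hz hzE hFE he hne he' hg hB
  obtain ⟨i, hi, hgi⟩ := exists_pow_agree H hz hzE hFE he' hne' he hg hB'
  refine ⟨i, j, hi, hj, ?_⟩
  have hk : (e' ^ j * e ^ i)⁻¹ * g ∈ E :=
    E.mul_mem (E.inv_mem (E.mul_mem (E.pow_mem he' j) (E.pow_mem he i))) hg
  have h1 : (e' ^ j * e ^ i)⁻¹ * g = 1 := by
    apply eq_one_of_fix_both H hz hzE hFE he he' hne hne' hB hB' hk
    · intro y hy
      rw [MulAut.mul_apply, hgj y hy, mul_inv_rev, MulAut.mul_apply, MulAut.inv_apply_self]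
      exact aut_inv_fix _ (aut_pow_fix e hy i)
    · intro y hy
      have hcomm : e' ^ j * e ^ i = e ^ i * e' ^ j :=
        H.comm _ (E.pow_mem he' j) _ (E.pow_mem he i)
      rw [hcomm, MulAut.mul_apply, hgi y hy, mul_inv_rev, MulAut.mul_apply,
        MulAut.inv_apply_self]
      exact aut_inv_fix _ (aut_pow_fix e' hy j)
  exact (inv_mul_eq_one.mp h1).symm

theorem card_le_nine : Nat.card E ≤ 9 := by
  have hdec : ∀ g : E, ∃ i j, i < 3 ∧ j < 3 ∧ (g : MulAut W) = e' ^ j * e ^ i :=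
    fun g => exists_decomp H hz hzE hFE he he' hne hne' hB hB' g.2
  choose i j hi hj hg using hdec
  have hinj : Function.Injective
      (fun g : E => ((⟨i g, hi g⟩ : Fin 3), (⟨j g, hj g⟩ : Fin 3))) := by
    intro g g' hgg
    simp only [Prod.mk.injEq, Fin.mk.injEq] at hgg
    apply Subtype.ext
    rw [hg g, hg g', hgg.1, hgg.2]
  have := Nat.card_le_card_of_injective _ hinj
  simpa using this

theorem fix_four (h3 : ∀ f ∈ E, f ^ 3 = 1) {l : MulAut W} (hl : l ∈ E) (hl1 : l ≠ 1) {x : W}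
    (hx : l x = x) : e x = x ∨ e' x = x ∨ (e' * e) x = x ∨ (e' ^ 2 * e) x = x := by
  obtain ⟨i, j, hi, hj, rfl⟩ := exists_decomp H hz hzE hFE he he' hne hne' hB hB' hl
  have hodd3 : Odd 3 := by decide
  interval_cases i <;> interval_cases j
  · exact absurd (by simp) hl1
  · right; left; simpa using hx
  · right; left
    have hx' : e' (e' x) = x := by simpa [pow_two] using hx
    exact fix_of_sq_fix e' (h3 e' he') hodd3 hx'
  · left; simpa using hx
  · right; right; left; simpa using hx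
  · right; right; right; simpa using hx
  · left
    have hx' : e (e x) = x := by simpa [pow_two] using hx
    exact fix_of_sq_fix e (h3 e he) hodd3 hx'
  · right; right; right
    have hsq : e' ^ 1 * e ^ 2 = (e' ^ 2 * e) * (e' ^ 2 * e) := by
      have hc : e * e' ^ 2 = e' ^ 2 * e := H.comm _ he _ (E.pow_mem he' 2)
      calc e' ^ 1 * e ^ 2 = (e' ^ 3 * e') * e ^ 2 := by rw [h3 e' he', one_mul, pow_one]
        _ = e' ^ 2 * (e' ^ 2 * e) * e := by rw [pow_two e]; group
        _ = e' ^ 2 * (e * e' ^ 2) * e := by rw [hc]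
        _ = (e' ^ 2 * e) * (e' ^ 2 * e) := by group
    rw [hsq, MulAut.mul_apply] at hx
    exact fix_of_sq_fix (e' ^ 2 * e) (h3 _ (E.mul_mem (E.pow_mem he' 2) he)) hodd3 hx
  · right; right; left
    have hsq : e' ^ 2 * e ^ 2 = (e' * e) * (e' * e) := by
      have hc : e * e' = e' * e := H.comm _ he _ he'
      calc e' ^ 2 * e ^ 2 = e' * (e' * e) * e := by rw [pow_two, pow_two]; group
        _ = e' * (e * e') * e := by rw [hc]
        _ = (e' * e) * (e' * e) := by group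
    rw [hsq, MulAut.mul_apply] at hx
    exact fix_of_sq_fix (e' * e) (h3 _ (E.mul_mem he' he)) hodd3 hx

omit hne hne' hB' in
theorem fix_pair (h3 : ∀ f ∈ E, f ^ 3 = 1) :
    (∀ x, e x = x → (e' * e) x = x → x = 1 ∨ x = z) ∧
    (∀ x, e x = x → (e' ^ 2 * e) x = x → x = 1 ∨ x = z) ∧
    (∀ x, e' x = x → (e' * e) x = x → x = 1 ∨ x = z) ∧
    (∀ x, e' x = x → (e' ^ 2 * e) x = x → x = 1 ∨ x = z) ∧
    (∀ x, (e' * e) x = x → (e' ^ 2 * e) x = x → x = 1 ∨ x = z) := by
  have hodd3 : Odd 3 := by decide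
  have k3 : ∀ x, e' x = x → (e' * e) x = x → e x = x := by
    intro x hx hx2
    rw [MulAut.mul_apply] at hx2
    apply e'.injective
    rw [hx2, hx]
  refine ⟨?_, ?_, ?_, ?_, ?_⟩
  · intro x hx hx2
    rw [MulAut.mul_apply, hx] at hx2
    exact hB.fix x hx hx2
  · intro x hx hx2
    rw [MulAut.mul_apply, hx, pow_two, MulAut.mul_apply] at hx2
    exact hB.fix x hx (fix_of_sq_fix e' (h3 e' he') hodd3 hx2)
  · intro x hx hx2
    exact hB.fix x (k3 x hx hx2) hx
  · intro x hx hx2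
    rw [MulAut.mul_apply, pow_two, MulAut.mul_apply] at hx2
    have : e x = x := by
      apply e'.injective
      apply e'.injective
      rw [hx2, hx, hx]
    exact hB.fix x this hx
  · intro x hx hx2
    have hx' : e' x = x := by
      have h : e' ^ 2 * e = e' * (e' * e) := by rw [pow_two, mul_assoc]
      rw [h, MulAut.mul_apply, hx] at hx2
      exact hx2
    exact hB.fix x (k3 x hx' hx) hx'

theorem card_W (h3 : ∀ f ∈ E, f ^ 3 = 1) :
    Nat.card W = 2 ^ 5 ∨ Nat.card W = 2 ^ 7 ∨ Nat.card W = 2 ^ 9 := by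
  have hzc := z_central H hz hzE
  have hodd3 : Odd 3 := by decide
  obtain ⟨f1, f2, f3, f4, f5⟩ := fix_pair H hz hzE hFE he he' hB h3
  have hl3 : e' * e ∈ E := E.mul_mem he' he
  have hl4 : e' ^ 2 * e ∈ E := E.mul_mem (E.pow_mem he' 2) he
  have hl31 : e' * e ≠ 1 := by
    intro h
    obtain ⟨t, ht, ht'⟩ := hB.exists_moved hzc
    apply ht'
    have : (e' * e) t = t := by rw [h]; rfl
    rw [MulAut.mul_apply, mem_fixS.mp ht] at this
    exact this
  have hl41 : e' ^ 2 * e ≠ 1 := by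
    intro h
    obtain ⟨t, ht, ht'⟩ := hB.exists_moved hzc
    apply ht'
    have : (e' ^ 2 * e) t = t := by rw [h]; rfl
    rw [MulAut.mul_apply, mem_fixS.mp ht, pow_two, MulAut.mul_apply] at this
    exact fix_of_sq_fix e' (h3 e' he') hodd3 this
  have c12 := comm_of_inter H hz hzE hFE he he' hne hne' (fun x hx hx' => hB.fix x hx hx')
  have c13 := comm_of_inter H hz hzE hFE he hl3 hne hl31 f1
  have c14 := comm_of_inter H hz hzE hFE he hl4 hne hl41 f2
  have c23 := comm_of_inter H hz hzE hFE he' hl3 hne' hl31 f3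
  have c24 := comm_of_inter H hz hzE hFE he' hl4 hne' hl41 f4
  have c34 := comm_of_inter H hz hzE hFE hl3 hl4 hl31 hl41 f5
  have s1 : Nat.card (fixS e ⊔ fixS e' : Subgroup W) = 32 := by
    rcases card_sup_fixS H hz hzE hFE (fixS e) (hzE e he) he' hne'
      (fun a ha b hb => c12 a b ha hb) with ⟨h1, _⟩ | ⟨_, h2⟩
    · exfalso
      have := hB'.card
      rw [h1, Nat.card_zpowers, hz] at this
      omega
    · rw [h2, hB.card]
  have hz2 : z ∈ fixS e ⊔ fixS e' := (le_sup_left : fixS e ≤ fixS e ⊔ fixS e') (hzE e he)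
  have mkc : ∀ (P : Subgroup W) (b : W), (∀ u ∈ P, u * b = b * u) →
      P ≤ Subgroup.centralizer {b} := by
    intro P b hP u hu
    rw [Subgroup.mem_centralizer_iff]
    intro w hw
    rw [Set.mem_singleton_iff] at hw
    rw [hw]; exact (hP u hu).symm
  have hc3 : ∀ a ∈ fixS e ⊔ fixS e', ∀ b, (e' * e) b = b → a * b = b * a := by
    intro a ha b hb
    have hle : fixS e ⊔ fixS e' ≤ Subgroup.centralizer {b} :=
      sup_le (mkc _ b (fun u hu => c13 u b hu hb)) (mkc _ b (fun u hu => c23 u b hu hb))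
    exact (Subgroup.mem_centralizer_iff.mp (hle ha) b rfl).symm
  have s2 := card_sup_fixS H hz hzE hFE (fixS e ⊔ fixS e') hz2 hl3 hl31 hc3
  have hz3 : z ∈ fixS e ⊔ fixS e' ⊔ fixS (e' * e) :=
    (le_sup_left : fixS e ⊔ fixS e' ≤ fixS e ⊔ fixS e' ⊔ fixS (e' * e)) hz2
  have hc4 : ∀ a ∈ fixS e ⊔ fixS e' ⊔ fixS (e' * e), ∀ b, (e' ^ 2 * e) b = b →
      a * b = b * a := by
    intro a ha b hb
    have hle : fixS e ⊔ fixS e' ⊔ fixS (e' * e) ≤ Subgroup.centralizer {b} :=
      sup_le (sup_le (mkc _ b (fun u hu => c14 u b hu hb)) (mkc _ b (fun u hu => c24 u b hu hb)))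
        (mkc _ b (fun u hu => c34 u b hu hb))
    exact (Subgroup.mem_centralizer_iff.mp (hle ha) b rfl).symm
  have s3 := card_sup_fixS H hz hzE hFE (fixS e ⊔ fixS e' ⊔ fixS (e' * e)) hz3 hl4 hl41 hc4
  have htop : fixS e ⊔ fixS e' ⊔ fixS (e' * e) ⊔ fixS (e' ^ 2 * e) = ⊤ := by
    rw [eq_top_iff]
    apply H.gen ⊤ _ (fun _ _ _ _ => Subgroup.mem_top _)
    intro l hl hl1 x _ hx
    rcases fix_four H hz hzE hFE he he' hne hne' hB hB' h3 hl hl1 hx with h | h | h | h
    · exact (le_sup_left.trans (le_sup_left.trans le_sup_left) :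
        fixS e ≤ fixS e ⊔ fixS e' ⊔ fixS (e' * e) ⊔ fixS (e' ^ 2 * e)) h
    · exact (le_sup_right.trans (le_sup_left.trans le_sup_left) :
        fixS e' ≤ fixS e ⊔ fixS e' ⊔ fixS (e' * e) ⊔ fixS (e' ^ 2 * e)) h
    · exact (le_sup_right.trans le_sup_left :
        fixS (e' * e) ≤ fixS e ⊔ fixS e' ⊔ fixS (e' * e) ⊔ fixS (e' ^ 2 * e)) h
    · exact (le_sup_right :
        fixS (e' ^ 2 * e) ≤ fixS e ⊔ fixS e' ⊔ fixS (e' * e) ⊔ fixS (e' ^ 2 * e)) h
  have hcard : Nat.card (⊤ : Subgroup W) = Nat.card W := Subgroup.card_top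
  rw [htop, hcard] at s3
  rcases s2 with ⟨_, s2⟩ | ⟨_, s2⟩ <;> rcases s3 with ⟨_, s3⟩ | ⟨_, s3⟩ <;>
    rw [s1] at s2 <;> rw [s2] at s3 <;> simp [s3]

end Pair

end Global

theorem main_thm [Finite W] (hW : IsPGroup 2 W) {p : ℕ} [Fact p.Prime] (hp : p ≠ 2)
    (E : Subgroup (MulAut W)) (hE : IsPGroup p E) (hab : IsMulCommutative E)
    (hnc : ¬ IsCyclic E)
    (hfix : ∀ e ∈ E, e ≠ 1 → ∀ x y : W, orderOf x = 2 → orderOf y = 2 → e x = x → e y = y →
      x = y) :
    Nat.card E = 9 ∧ ((IsPGroup 2 W ∧ frattini W = Subgroup.center W ∧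
      commutator W = Subgroup.center W) ∧ Nat.card (Subgroup.center W) = 2) ∧
    (Nat.card W = 2 ^ 5 ∨ Nat.card W = 2 ^ 7 ∨ Nat.card W = 2 ^ 9) ∧
    {x : W | ∀ e ∈ E, e x = x} = (Subgroup.center W : Set W) := by
  have H := hyp_of hW hp E hE hab hnc hfix
  obtain ⟨z, hz, hzE, he₀⟩ := H.exists_z
  have hzc := z_central H hz hzE
  have hzz := z_mul_self hz
  have hFE : ∀ x, (∀ g ∈ E, g x = x) → x = 1 ∨ x = z := by
    obtain ⟨e₀, he₀', hne₀, g₀, hg₀, hmv⟩ := he₀
    have hB₀ := big_of_moved H hz hzE he₀' hne₀ hg₀ hmv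
    intro x hx
    exact hB₀.fix x (hx e₀ he₀') (hx g₀ hg₀)
  obtain ⟨e, he, e', he', hne, hne', hB, hB'⟩ := exists_two_big H hz hzE hFE he₀
  have hle9 : Nat.card E ≤ 9 := card_le_nine H hz hzE hFE he he' hne hne' hB hB'
  have hge9 : 9 ≤ Nat.card E := by
    obtain ⟨m, hm⟩ := IsPGroup.iff_card.mp hE
    have hp3 : 3 ≤ p := by
      have := (Fact.out : p.Prime).two_le
      omega
    have hm2 : 2 ≤ m := by
      by_contra hlt
      push Not at hlt
      apply hnc
      interval_cases m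
      · rw [pow_zero] at hm
        haveI : Subsingleton E := (Nat.card_eq_one_iff_unique.mp hm).1
        infer_instance
      · rw [pow_one] at hm
        exact isCyclic_of_prime_card hm
    rw [hm]
    calc 9 = 3 ^ 2 := by norm_num
      _ ≤ p ^ 2 := Nat.pow_le_pow_left hp3 2
      _ ≤ p ^ m := Nat.pow_le_pow_right (by omega) hm2
  have h9 : Nat.card E = 9 := le_antisymm hle9 hge9
  have h3 : ∀ f ∈ E, f ^ 3 = 1 := fun f hf => pow_three_eq_one hnc h9 hf
  have hcen := center_eq H hz hzE hFE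
  have hcz := cz_all H hz hzE hFE
  have hsq := sq_all H hz hzE hFE hcz
  haveI := normal_zpowers_z H hz hzE
  haveI : Fact (Nat.Prime 2) := ⟨Nat.prime_two⟩
  have hfr : frattini W ≤ Subgroup.zpowers z := by
    apply Cfsg.Agent.H52.frattini_le_of_comm_pow (p := 2) (Subgroup.zpowers z)
    · intro a b
      rw [commutatorElement_def, mem_zpowers_z hz]
      rcases hcz a b with h | h
      · left; rw [h]; group
      · right; rw [h]
        calc b * a * z * a⁻¹ * b⁻¹ = (b * a) * z * (b * a)⁻¹ := by group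
          _ = z * (b * a) * (b * a)⁻¹ := by rw [hzc (b * a)]
          _ = z := by group
    · intro x
      rw [pow_two, mem_zpowers_z hz]; exact hsq x
  have hcomm : Subgroup.zpowers z ≤ commutator W := by
    rw [Subgroup.zpowers_le]
    obtain ⟨u, hu, v, hv, huv⟩ := hB.noncomm
    have h := (hcz u v).resolve_left huv
    have : z = ⁅u, v⁆ := by
      rw [commutatorElement_def, h]
      calc z = z * (v * u) * (v * u)⁻¹ := by group
        _ = (v * u) * z * (v * u)⁻¹ := by rw [hzc (v * u)]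
        _ = v * u * z * u⁻¹ * v⁻¹ := by group
    rw [this, commutator_def]
    exact Subgroup.commutator_mem_commutator (Subgroup.mem_top u) (Subgroup.mem_top v)
  have hcf : commutator W ≤ frattini W := Cfsg.Agent.H3.commutator_le_frattini hW
  refine ⟨h9, ⟨⟨hW, ?_, ?_⟩, ?_⟩, card_W H hz hzE hFE he he' hne hne' hB hB' h3, ?_⟩
  · rw [hcen]; exact le_antisymm hfr (hcomm.trans hcf)
  · rw [hcen]; exact le_antisymm (hcf.trans hfr) hcomm
  · rw [hcen, Nat.card_zpowers, hz]
  · ext x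
    simp only [Set.mem_ofPred_eq, SetLike.mem_coe]
    rw [hcen, mem_zpowers_z hz]
    constructor
    · exact hFE x
    · rintro (rfl | rfl)
      · intro g _; exact map_one g
      · exact hzE

end Cfsg.Agent.H1.OneInv
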