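import Mathlib
import Cfsg.Agent.H7.PsDefs

set_option autoImplicit false

namespace Cfsg.Agent.H1.Ps

open Matrix

variable {F : Type} [Field F] [Fintype F]

theorem tw_two_eq_zero (hF : Fintype.card F = 8) : (2 : F) = 0 := by
  have h : ((Fintype.card F : ℕ) : F) = 0 := Nat.cast_card_eq_zero F
  rw [hF] at h
  have h2 : (2 : F) ^ 3 = 0 := by
    have : (2 : F) ^ 3 = ((8 : ℕ) : F) := by norm_num
    rw [this]; exact h
  exact (pow_eq_zero_iff (by norm_num)).mp h2

/-- orbit counting: a `g`-invariant additive subgroup is `⊥` or `⊤` -/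
theorem tw_inv_sub (hF : Fintype.card F = 8) (g : Matrix (Fin 4) (Fin 4) F) (h13 : g ^ 13 = 1)
    (hfix : ∀ v : Fin 4 → F, g.mulVec v = v → v = 0)
    (W : AddSubgroup (Fin 4 → F)) (hW : ∀ v ∈ W, g.mulVec v ∈ W) : W = ⊥ ∨ W = ⊤ := by
  classical
  haveI : Fact (Nat.Prime 13) := ⟨by norm_num⟩
  let f : Function.End W := fun v => ⟨g.mulVec v.1, hW v.1 v.2⟩
  have hfpow : ∀ k : ℕ, ∀ v : W, ((f ^ k) v).1 = (g ^ k).mulVec v.1 := by
    intro k
    induction k with
    | zero => intro v; rw [pow_zero, pow_zero, Matrix.one_mulVec]; rfl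
    | succ k ih =>
      intro v
      rw [pow_succ', pow_succ']
      show (f ((f ^ k) v)).1 = _
      show g.mulVec ((f ^ k) v).1 = _
      rw [ih, Matrix.mulVec_mulVec]
  have hf13 : f ^ 13 ^ 1 = 1 := by
    funext v
    apply Subtype.ext
    rw [pow_one, hfpow, h13, Matrix.one_mulVec]
    rfl
  have hcard := Equiv.Perm.card_fixedPoints_modEq (p := 13) (n := 1) hf13
  have hfp : Fintype.card (Function.fixedPoints f) = 1 := by
    rw [Fintype.card_eq_one_iff]
    refine ⟨⟨0, ?_⟩, ?_⟩
    · show f 0 = 0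
      apply Subtype.ext
      simp [f]
    · rintro ⟨v, hv⟩
      apply Subtype.ext
      have h1 : g.mulVec v.1 = v.1 := congrArg Subtype.val hv
      apply Subtype.ext
      exact hfix _ h1
  rw [hfp] at hcard
  have hV : Nat.card (Fin 4 → F) = 2 ^ 12 := by
    rw [Nat.card_eq_fintype_card, Fintype.card_fun, hF]; rfl
  have hdvd : Nat.card W ∣ 2 ^ 12 := by
    rw [← hV]; exact AddSubgroup.card_addSubgroup_dvd_card W
  obtain ⟨e, he, hWe⟩ := (Nat.dvd_prime_pow Nat.prime_two).mp hdvd
  rw [← Nat.card_eq_fintype_card, hWe] at hcard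
  have he' : e = 0 ∨ e = 12 := by
    interval_cases e <;> simp [Nat.ModEq] at hcard ⊢
  rcases he' with rfl | rfl
  · left; exact AddSubgroup.eq_bot_of_card_eq W (by simpa using hWe)
  · right; exact AddSubgroup.eq_top_of_card_eq W (by rw [hWe, hV])

/-- **PS-TW13** -/
theorem tw13 : Cfsg.Agent.H7.Ps.StTw13 := by
  intro F _ _ hF g h13 hfix X hX
  classical
  have h2 : (2 : F) = 0 := tw_two_eq_zero hF
  haveI : CharP F 2 := CharTwo.of_one_ne_zero_of_two_eq_zero one_ne_zero h2
  let φ : F →+* F := frobenius F 2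
  have hφ : ∀ a : F, φ a = a ^ 2 := fun a => rfl
  have hmap : g.map (fun a => a ^ 2) = g.map φ := by
    ext i j; simp [hφ]
  let G : AddMonoid.End (Fin 4 → F) := AddMonoidHom.mk' (fun v => g.mulVec v) (Matrix.mulVec_add g)
  let D : Subring (AddMonoid.End (Fin 4 → F)) := Subring.centralizer {G}
  have hmemD : ∀ T : AddMonoid.End (Fin 4 → F),
      T ∈ D ↔ ∀ v, g.mulVec (T v) = T (g.mulVec v) := by
    intro T
    rw [Subring.mem_centralizer_iff]
    constructor
    · intro h v
      have h1 := h G (Set.mem_singleton _)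
      exact congrArg (fun S : AddMonoid.End (Fin 4 → F) => S v) h1
    · intro h S hS
      rw [Set.mem_singleton_iff] at hS
      subst hS
      apply AddMonoidHom.ext
      intro v
      exact h v
  have hsurj : ∀ T ∈ D, T ≠ 0 → Function.Surjective T := by
    intro T hT hT0
    have hker : (AddMonoidHom.ker T) = ⊥ ∨ (AddMonoidHom.ker T) = ⊤ := by
      apply tw_inv_sub hF g h13 hfix
      intro v hv
      have hv' : T v = 0 := hv
      show T (g.mulVec v) = 0
      rw [← (hmemD T).mp hT v, hv', Matrix.mulVec_zero]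
    rcases hker with h | h
    · have hi : Function.Injective T := (AddMonoidHom.ker_eq_bot_iff T).mp h
      exact Finite.injective_iff_surjective.mp hi
    · exfalso; apply hT0
      apply AddMonoidHom.ext
      intro v
      have hv : v ∈ AddMonoidHom.ker T := by rw [h]; trivial
      exact hv
  haveI : NoZeroDivisors D := ⟨by
    intro a b hab
    by_contra hcon
    push Not at hcon
    obtain ⟨ha, hb⟩ := hcon
    have hb' : (b : AddMonoid.End (Fin 4 → F)) ≠ 0 := fun h => hb (Subtype.ext h)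
    have hs := hsurj b.1 b.2 hb'
    apply ha
    apply Subtype.ext
    apply AddMonoidHom.ext
    intro v
    obtain ⟨w, rfl⟩ := hs v
    have h1 : ((a * b : D) : AddMonoid.End (Fin 4 → F)) w = 0 := by rw [hab]; rfl
    exact h1⟩
  haveI : Nontrivial D := ⟨⟨0, 1, fun h => by
    have h1 : (0 : AddMonoid.End (Fin 4 → F)) = 1 := congrArg Subtype.val h
    have h3 : (0 : AddMonoid.End (Fin 4 → F)) (fun _ => (1 : F)) = (fun _ => (1 : F)) := by
      rw [h1]; rfl
    have h4 : (0 : F) = 1 := congrFun h3 0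
    exact zero_ne_one h4⟩⟩
  haveI : IsDomain D := NoZeroDivisors.to_isDomain D
  haveI : Finite (AddMonoid.End (Fin 4 → F)) :=
    Finite.of_injective (fun T : AddMonoid.End (Fin 4 → F) => (T : (Fin 4 → F) → (Fin 4 → F)))
      DFunLike.coe_injective
  have hcomm := (Finite.isDomain_to_isField D).mul_comm
  -- the semilinear map
  let Θ : AddMonoid.End (Fin 4 → F) := AddMonoidHom.mk' (fun v => X.mulVec (φ ∘ v)) (by
    intro a b
    have : φ ∘ (a + b) = φ ∘ a + φ ∘ b := by
      funext i; simp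
    rw [this, Matrix.mulVec_add])
  have hΘ : Θ ∈ D := by
    rw [hmemD]
    intro v
    show g.mulVec (X.mulVec (φ ∘ v)) = X.mulVec (φ ∘ (g.mulVec v))
    rw [Matrix.mulVec_mulVec, hX, hmap, ← Matrix.mulVec_mulVec]
    congr 1
    funext i
    rw [Function.comp_apply, RingHom.map_mulVec]
  let μ : F → AddMonoid.End (Fin 4 → F) := fun c => AddMonoidHom.mk' (fun v => c • v) (smul_add c)
  have hμ : ∀ c, μ c ∈ D := by
    intro c
    rw [hmemD]
    intro v
    show g.mulVec (c • v) = c • g.mulVec v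
    rw [Matrix.mulVec_smul]
  obtain ⟨c, hc⟩ : ∃ c : F, c ^ 2 ≠ c := by
    by_contra hcon
    push Not at hcon
    have hsub : (Finset.univ : Finset F) ⊆ {0, 1} := by
      intro c _
      have h := hcon c
      have h1 : c * (c - 1) = 0 := by rw [mul_sub, mul_one, ← sq, h, sub_self]
      rcases mul_eq_zero.mp h1 with h0 | h1
      · simp [h0]
      · simp [sub_eq_zero.mp h1]
    have h3 := Finset.card_le_card hsub
    rw [Finset.card_univ, hF] at h3
    have h4 : ({0, 1} : Finset F).card ≤ 2 := Finset.card_le_two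
    omega
  have hzero : ∀ v : Fin 4 → F, X.mulVec (φ ∘ v) = 0 := by
    intro v
    have h1 := congrArg Subtype.val (hcomm ⟨Θ, hΘ⟩ ⟨μ c, hμ c⟩)
    have h3 : (Θ * μ c) v = (μ c * Θ) v := congrArg (fun S : AddMonoid.End (Fin 4 → F) => S v) h1
    have h4 : X.mulVec (φ ∘ (c • v)) = c • X.mulVec (φ ∘ v) := h3
    have h5 : φ ∘ (c • v) = (c ^ 2) • (φ ∘ v) := by
      funext i; simp [hφ, mul_pow]
    rw [h5, Matrix.mulVec_smul] at h4
    have h6 : (c ^ 2 - c) • X.mulVec (φ ∘ v) = 0 := by rw [sub_smul, h4, sub_self]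
    rcases smul_eq_zero.mp h6 with h7 | h7
    · exact absurd (sub_eq_zero.mp h7) hc
    · exact h7
  ext i j
  have h1 := hzero (Pi.single j 1)
  have h2' : φ ∘ (Pi.single j (1 : F)) = Pi.single j 1 := by
    funext k
    by_cases hk : k = j
    · subst hk; simp
    · simp [hk]
  rw [h2', Matrix.mulVec_single_one] at h1
  have := congrFun h1 i
  simpa using this

example : Cfsg.Agent.H7.Ps.StTw13 := tw13

end Cfsg.Agent.H1.Ps

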