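import Mathlib

/-
helper1: abstract core R1-OUT for S2953 (sub-case "V not inside Q1" of the residual
four-group configuration (R1)).  Mathlib only.

`r1_out`: T' a 2-group, Q1 of index 2 in T' with T' = Q1<v>, v an involution acting on Q1 as a
"transvection with centre z" (every q in Q1 is fixed or multiplied by z), z a central involution
of T'; k a 3-element normalising Q1, moving z, inverted by v modulo Q1, inside a group K'
generated by its odd-order elements with K' inside O<k>, O a subgroup of Q1.  Then every s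
normalising T' and fixing v modulo z normalises Q1.
-/

namespace Cfsg.Agent.H1.R1

universe u

section
variable {G : Type u} [Group G]

/-- the elements normalising `Q` and `W` and acting trivially on `Q` modulo `W`. -/
def trivOn (Q W : Subgroup G) : Subgroup G where
  carrier := {g | g ∈ Subgroup.normalizer (Q : Set G) ∧ g ∈ Subgroup.normalizer (W : Set G) ∧ ∀ q ∈ Q, q⁻¹ * (g * q * g⁻¹) ∈ W}
  one_mem' := ⟨one_mem _, one_mem _, fun q _ => by simp⟩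
  mul_mem' := by
    rintro g h ⟨hgQ, hgW, hg⟩ ⟨hhQ, hhW, hh⟩
    refine ⟨mul_mem hgQ hhQ, mul_mem hgW hhW, fun q hq => ?_⟩
    have e : q⁻¹ * (g * h * q * (g * h)⁻¹)
        = (q⁻¹ * (g * q * g⁻¹)) * (g * (q⁻¹ * (h * q * h⁻¹)) * g⁻¹) := by group
    rw [e]
    exact mul_mem (hg q hq) ((Subgroup.mem_normalizer_iff.mp hgW _).mp (hh q hq))
  inv_mem' := by
    rintro g ⟨hgQ, hgW, hg⟩
    refine ⟨inv_mem hgQ, inv_mem hgW, fun q hq => ?_⟩
    have hq' : g⁻¹ * q * g ∈ Q := by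
      have := (Subgroup.mem_normalizer_iff.mp (inv_mem hgQ) q).mp hq
      simpa using this
    have h1 := inv_mem (hg _ hq')
    have e : ((g⁻¹ * q * g)⁻¹ * (g * (g⁻¹ * q * g) * g⁻¹))⁻¹ = q⁻¹ * (g⁻¹ * q * g⁻¹⁻¹) := by
      group
    rwa [e] at h1

theorem trivOn_conj {Q W : Subgroup G} {n g : G} (hnQ : n ∈ Subgroup.normalizer (Q : Set G))
    (hnW : n ∈ Subgroup.normalizer (W : Set G)) (hg : g ∈ trivOn Q W) : n * g * n⁻¹ ∈ trivOn Q W := by
  obtain ⟨hgQ, hgW, hg'⟩ := hg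
  refine ⟨mul_mem (mul_mem hnQ hgQ) (inv_mem hnQ), mul_mem (mul_mem hnW hgW) (inv_mem hnW),
    fun q hq => ?_⟩
  have hq' : n⁻¹ * q * n ∈ Q := by
    have := (Subgroup.mem_normalizer_iff.mp (inv_mem hnQ) q).mp hq
    simpa using this
  have h1 := (Subgroup.mem_normalizer_iff.mp hnW _).mp (hg' _ hq')
  have e : n * ((n⁻¹ * q * n)⁻¹ * (g * (n⁻¹ * q * n) * g⁻¹)) * n⁻¹
      = q⁻¹ * (n * g * n⁻¹ * q * (n * g * n⁻¹)⁻¹) := by group
  rwa [e] at h1

/-- `W * ⟨k⟩` as a subgroup, when `k` normalises `W`. -/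
def mulZ (W : Subgroup G) (k : G) (hk : k ∈ Subgroup.normalizer (W : Set G)) : Subgroup G where
  carrier := {g | ∃ w ∈ W, ∃ c ∈ Subgroup.zpowers k, g = w * c}
  one_mem' := ⟨1, one_mem _, 1, one_mem _, by simp⟩
  mul_mem' := by
    rintro _ _ ⟨w, hw, c, hc, rfl⟩ ⟨w', hw', c', hc', rfl⟩
    have hcN : c ∈ Subgroup.normalizer (W : Set G) := (Subgroup.zpowers_le.mpr hk) hc
    exact ⟨w * (c * w' * c⁻¹), mul_mem hw ((Subgroup.mem_normalizer_iff.mp hcN _).mp hw'),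
      c * c', mul_mem hc hc', by group⟩
  inv_mem' := by
    rintro _ ⟨w, hw, c, hc, rfl⟩
    have hcN : c⁻¹ ∈ Subgroup.normalizer (W : Set G) := inv_mem ((Subgroup.zpowers_le.mpr hk) hc)
    exact ⟨c⁻¹ * w⁻¹ * c⁻¹⁻¹, (Subgroup.mem_normalizer_iff.mp hcN _).mp (inv_mem hw), c⁻¹,
      inv_mem hc, by group⟩

theorem exists_four (a b : G) (ha : a * a = 1) (hb : b * b = 1) (hab : a * b = b * a) :
    ∃ W : Subgroup G, ∀ w, w ∈ W ↔ (w = 1 ∨ w = a ∨ w = b ∨ w = a * b) := by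
  have ha' : ∀ x, a * (a * x) = x := fun x => by rw [← mul_assoc, ha, one_mul]
  have hb' : ∀ x, b * (b * x) = x := fun x => by rw [← mul_assoc, hb, one_mul]
  have hab' : ∀ x, a * (b * x) = b * (a * x) := fun x => by
    rw [← mul_assoc, hab, mul_assoc]
  have hai : a⁻¹ = a := inv_eq_of_mul_eq_one_left ha
  have hbi : b⁻¹ = b := inv_eq_of_mul_eq_one_left hb
  refine ⟨{ carrier := {w | w = 1 ∨ w = a ∨ w = b ∨ w = a * b}
            one_mem' := Or.inl rfl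
            mul_mem' := ?_
            inv_mem' := ?_ }, fun w => Iff.rfl⟩
  · rintro x y (rfl | rfl | rfl | rfl) (rfl | rfl | rfl | rfl) <;>
      simp [mul_assoc, ha, hb, hab, hb', hab']
  · rintro x (rfl | rfl | rfl | rfl) <;> simp [hai, hbi, hab]

theorem mem_normalizer_of_pow (H : Subgroup G) (g : G) (n : ℕ) (hn : g ^ (n + 1) = 1)
    (h : ∀ q ∈ H, g * q * g⁻¹ ∈ H) : g ∈ Subgroup.normalizer (H : Set G) := by
  have hp : ∀ m : ℕ, ∀ q ∈ H, g ^ m * q * (g ^ m)⁻¹ ∈ H := by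
    intro m
    induction m with
    | zero => intro q hq; simpa using hq
    | succ m ih =>
      intro q hq
      have := h _ (ih q hq)
      have e : g * (g ^ m * q * (g ^ m)⁻¹) * g⁻¹ = g ^ (m + 1) * q * (g ^ (m + 1))⁻¹ := by
        rw [pow_succ']; group
      rwa [e] at this
  refine Subgroup.mem_normalizer_iff.mpr fun q => ⟨h q, fun hq => ?_⟩
  have := hp n _ hq
  have e : g ^ n * (g * q * g⁻¹) * (g ^ n)⁻¹ = g ^ (n + 1) * q * (g ^ (n + 1))⁻¹ := by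
    rw [pow_succ]; group
  rw [e, hn] at this
  simpa using this

theorem r1_out {G : Type u} [Group G] [Finite G] (T' Q₁ K' O : Subgroup G) (z v k s : G)
    (hQT : Q₁ ≤ T') (hT2 : IsPGroup 2 ↥T') (hvT : v ∈ T') (_hvQ : v ∉ Q₁)
    (hTQv : ∀ t ∈ T', t ∈ Q₁ ∨ t * v ∈ Q₁) (hv2 : v * v = 1) (hz2 : z * z = 1) (hzQ : z ∈ Q₁)
    (hzT : ∀ t ∈ T', t * z = z * t) (hQv : ∀ q ∈ Q₁, v * q * v⁻¹ = q ∨ v * q * v⁻¹ = q * z)
    (hkK : k ∈ K') (hk3 : k ^ 3 = 1) (hkz : k * z * k⁻¹ ≠ z) (hkQ : ∀ q ∈ Q₁, k * q * k⁻¹ ∈ Q₁)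
    (hOQ : O ≤ Q₁) (hKO : ∀ g ∈ K', ∃ o ∈ O, ∃ i : ℕ, g = o * k ^ i)
    (hKgen : Subgroup.closure {g : G | g ∈ K' ∧ Odd (orderOf g)} = K')
    (hvk : v * k * v⁻¹ ∈ K') (hvk' : v * k * v⁻¹ * k ∈ Q₁)
    (hsT : ∀ t ∈ T', s * t * s⁻¹ ∈ T') (hsv : s * v * s⁻¹ = v ∨ s * v * s⁻¹ = v * z) :
    ∀ q ∈ Q₁, s * q * s⁻¹ ∈ Q₁ := by
  classical
  have hvi : v⁻¹ = v := inv_eq_of_mul_eq_one_left hv2
  have hzi : z⁻¹ = z := inv_eq_of_mul_eq_one_left hz2
  have hki : k⁻¹ = k * k := by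
    apply inv_eq_of_mul_eq_one_right
    rw [← hk3, pow_succ, pow_two, mul_assoc]
  have hkk : k⁻¹ * k⁻¹ = k := by rw [← mul_inv_rev, ← hki, inv_inv]
  have hkQ' : ∀ q ∈ Q₁, k⁻¹ * q * k ∈ Q₁ := by
    intro q hq
    have e : k⁻¹ * q * k = k * (k * q * k⁻¹) * k⁻¹ := by
      calc k⁻¹ * q * k = (k * k) * q * (k * k)⁻¹ := by rw [← hki, inv_inv]
        _ = k * (k * q * k⁻¹) * k⁻¹ := by group
    rw [e]; exact hkQ _ (hkQ _ hq)
  have two_elt : ∀ q ∈ Q₁, ∃ n : ℕ, q ^ (2 ^ n) = 1 := by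
    intro q hq
    obtain ⟨n, hn⟩ := hT2 ⟨q, hQT hq⟩
    have := congrArg Subtype.val hn
    exact ⟨n, by simpa using this⟩
  have hzc : ∀ q ∈ Q₁, q * z = z * q := fun q hq => hzT q (hQT hq)
  obtain ⟨z₁, hz₁⟩ : ∃ z₁, z₁ = k * z * k⁻¹ := ⟨_, rfl⟩
  obtain ⟨z₂, hz₂⟩ : ∃ z₂, z₂ = k⁻¹ * z * k := ⟨_, rfl⟩
  have hz₁Q : z₁ ∈ Q₁ := hz₁ ▸ hkQ z hzQ
  have hz₂Q : z₂ ∈ Q₁ := hz₂ ▸ hkQ' z hzQ
  have hz₁c : ∀ q ∈ Q₁, q * z₁ = z₁ * q := by
    intro q hq
    have h := hzc _ (hkQ' q hq)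
    calc q * z₁ = k * (k⁻¹ * q * k * z) * k⁻¹ := by rw [hz₁]; group
      _ = k * (z * (k⁻¹ * q * k)) * k⁻¹ := by rw [h]
      _ = z₁ * q := by rw [hz₁]; group
  have hz₂c : ∀ q ∈ Q₁, q * z₂ = z₂ * q := by
    intro q hq
    have h := hzc _ (hkQ q hq)
    calc q * z₂ = k⁻¹ * (k * q * k⁻¹ * z) * k := by rw [hz₂]; group
      _ = k⁻¹ * (z * (k * q * k⁻¹)) * k := by rw [h]
      _ = z₂ * q := by rw [hz₂]; group
  have hz₁2 : z₁ * z₁ = 1 := by
    calc z₁ * z₁ = k * (z * z) * k⁻¹ := by rw [hz₁]; group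
      _ = 1 := by rw [hz2]; group
  have hz₂2 : z₂ * z₂ = 1 := by
    calc z₂ * z₂ = k⁻¹ * (z * z) * k := by rw [hz₂]; group
      _ = 1 := by rw [hz2]; group
  have hk1 : k * z * k⁻¹ = z₁ := hz₁.symm
  have hk2 : k * z₁ * k⁻¹ = z₂ := by
    rw [hz₁, hz₂]
    calc k * (k * z * k⁻¹) * k⁻¹ = (k * k) * z * (k * k)⁻¹ := by group
      _ = k⁻¹ * z * k := by rw [← hki, inv_inv]
  have hk3' : k * z₂ * k⁻¹ = z := by rw [hz₂]; group
  -- Step A
  obtain ⟨o, ho⟩ : ∃ o, o = v * k * v⁻¹ * k := ⟨_, rfl⟩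
  have hoQ : o ∈ Q₁ := ho ▸ hvk'
  have hvkv : v * k * v⁻¹ = o * k⁻¹ := by rw [ho]; group
  have hvz : v * z * v⁻¹ = z := by rw [hzT v hvT]; group
  have hA : v * z₁ * v⁻¹ = z₂ := by
    calc v * z₁ * v⁻¹ = (v * k * v⁻¹) * (v * z * v⁻¹) * (v * k * v⁻¹)⁻¹ := by rw [hz₁]; group
      _ = (o * k⁻¹) * z * (o * k⁻¹)⁻¹ := by rw [hvkv, hvz]
      _ = o * z₂ * o⁻¹ := by rw [hz₂]; group
      _ = z₂ := by rw [hz₂c o hoQ]; group
  -- Step B
  have hz₂₁ : z₂ ≠ z₁ := by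
    intro h
    have : z = z₁ := by
      calc z = k * z₂ * k⁻¹ := hk3'.symm
        _ = k * z₁ * k⁻¹ := by rw [h]
        _ = z₂ := hk2
        _ = z₁ := h
    exact hkz (hk1.trans this.symm)
  have hB : z₂ = z₁ * z := by
    rcases hQv z₁ hz₁Q with h | h
    · rw [hA] at h; exact absurd h hz₂₁
    · rw [hA] at h; exact h
  have t1 : z * z₁ = z₁ * z := hz₁c z hzQ
  have t12 : z₁ * z₂ = z := by rw [hB, ← mul_assoc, hz₁2, one_mul]
  have t01 : z * z₁ = z₂ := by rw [hB, t1]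
  have t20 : z₂ * z = z₁ := by rw [hB, mul_assoc, hz2, mul_one]
  have t21 : z₂ * z₁ = z := by rw [hz₁c z₂ hz₂Q]; exact t12
  have t02 : z * z₂ = z₁ := by rw [hz₂c z hzQ]; exact t20
  -- the four-group
  obtain ⟨W, hW0⟩ := exists_four z₁ z hz₁2 hz2 t1.symm
  have hW : ∀ w, w ∈ W ↔ (w = 1 ∨ w = z₁ ∨ w = z ∨ w = z₂) := by
    intro w; rw [hW0, hB]
  have hzW : z ∈ W := (hW z).mpr (Or.inr (Or.inr (Or.inl rfl)))
  have hz₁W : z₁ ∈ W := (hW z₁).mpr (Or.inr (Or.inl rfl))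
  have hz₂W : z₂ ∈ W := (hW z₂).mpr (Or.inr (Or.inr (Or.inr rfl)))
  have hWQ : ∀ w ∈ W, w ∈ Q₁ := by
    intro w hw
    rcases (hW w).mp hw with rfl | rfl | rfl | rfl
    · exact one_mem _
    · exact hz₁Q
    · exact hzQ
    · exact hz₂Q
  have hWc : ∀ w ∈ W, ∀ q ∈ Q₁, q * w = w * q := by
    intro w hw q hq
    rcases (hW w).mp hw with rfl | rfl | rfl | rfl
    · simp
    · exact hz₁c q hq
    · exact hzc q hq
    · exact hz₂c q hq
  have hWinv : ∀ w ∈ W, w * w = 1 := by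
    intro w hw
    rcases (hW w).mp hw with rfl | rfl | rfl | rfl
    · simp
    · exact hz₁2
    · exact hz2
    · exact hz₂2
  have hvz₂ : v * z₂ * v⁻¹ = z₁ := by
    rw [hB]
    calc v * (z₁ * z) * v⁻¹ = (v * z₁ * v⁻¹) * (v * z * v⁻¹) := by group
      _ = z₂ * z := by rw [hA, hvz]
      _ = z₁ := t20
  -- normalizers
  have hkN : k ∈ Subgroup.normalizer (Q₁ : Set G) := mem_normalizer_of_pow Q₁ k 2 hk3 hkQ
  have hvN : v ∈ Subgroup.normalizer (Q₁ : Set G) := by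
    refine mem_normalizer_of_pow Q₁ v 1 (by rw [pow_succ, pow_one]; exact hv2) ?_
    intro q hq
    rcases hQv q hq with h | h
    · rw [h]; exact hq
    · rw [h]; exact mul_mem hq hzQ
  have hkW : k ∈ Subgroup.normalizer (W : Set G) := by
    refine mem_normalizer_of_pow W k 2 hk3 ?_
    intro w hw
    rcases (hW w).mp hw with rfl | rfl | rfl | rfl
    · simp
    · rw [hk2]; exact hz₂W
    · rw [hk1]; exact hz₁W
    · rw [hk3']; exact hzW
  have hvW : v ∈ Subgroup.normalizer (W : Set G) := by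
    refine mem_normalizer_of_pow W v 1 (by rw [pow_succ, pow_one]; exact hv2) ?_
    intro w hw
    rcases (hW w).mp hw with rfl | rfl | rfl | rfl
    · simp
    · rw [hA]; exact hz₂W
    · rw [hvz]; exact hzW
    · rw [hvz₂]; exact hz₁W
  have hQNQ : ∀ q ∈ Q₁, q ∈ Subgroup.normalizer (Q₁ : Set G) := fun q hq =>
    Subgroup.le_normalizer hq
  have hQNW : ∀ q ∈ Q₁, q ∈ Subgroup.normalizer (W : Set G) := by
    intro q hq
    refine Subgroup.mem_normalizer_iff.mpr fun w => ⟨fun hw => ?_, fun hw => ?_⟩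
    · rw [hWc w hw q hq, mul_inv_cancel_right]; exact hw
    · have h1 := hWc _ hw q⁻¹ (inv_mem hq)
      have e : w = q⁻¹ * (q * w * q⁻¹) * q⁻¹⁻¹ := by group
      rw [e, h1, mul_inv_cancel_right]; exact hw
  -- Step C
  have hvA : v ∈ trivOn Q₁ W := by
    refine ⟨hvN, hvW, fun q hq => ?_⟩
    rcases hQv q hq with h | h
    · rw [h, inv_mul_cancel]; exact one_mem _
    · rw [h, inv_mul_cancel_left]; exact hzW
  have hm : k * v * k⁻¹ * v⁻¹ ∈ trivOn Q₁ W :=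
    mul_mem (trivOn_conj hkN hkW hvA) (inv_mem hvA)
  have ha : k⁻¹ * o⁻¹ ∈ trivOn Q₁ W := by
    have e : k * v * k⁻¹ * v⁻¹ = k⁻¹ * o⁻¹ := by
      rw [ho]
      calc k * v * k⁻¹ * v⁻¹ = (k⁻¹ * k⁻¹) * v * k⁻¹ * v⁻¹ := by rw [hkk]
        _ = k⁻¹ * (v * k * v⁻¹ * k)⁻¹ := by group
    rwa [e] at hm
  have hoN := hQNQ o hoQ
  have hoW := hQNW o hoQ
  have ho3 : o ^ 3 ∈ trivOn Q₁ W := by
    obtain ⟨a, ha_def⟩ : ∃ a, a = k⁻¹ * o⁻¹ := ⟨_, rfl⟩
    rw [← ha_def] at ha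
    have hao : a * o = k⁻¹ := by rw [ha_def]; group
    have h3 : o ^ 3 = (a * (o * a * o⁻¹) * (o * o * a * (o * o)⁻¹))⁻¹ *
        ((a * o) * (a * o) * (a * o)) := by
      group
    rw [h3, hao, hkk, mul_inv_cancel, mul_one]
    exact inv_mem (mul_mem (mul_mem ha (trivOn_conj hoN hoW ha))
      (trivOn_conj (mul_mem hoN hoN) (mul_mem hoW hoW) ha))
  have hoA : o ∈ trivOn Q₁ W := by
    obtain ⟨n, hn⟩ := two_elt o hoQ
    have hd : orderOf o ∣ 2 ^ n := orderOf_dvd_of_pow_eq_one hn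
    have hc : Nat.Coprime 3 (orderOf o) :=
      Nat.Coprime.coprime_dvd_right hd (Nat.Coprime.pow_right n (by norm_num))
    obtain ⟨m, hm'⟩ := exists_pow_eq_self_of_coprime hc
    rw [← hm']; exact pow_mem ho3 m
  have hkinvA : k⁻¹ ∈ trivOn Q₁ W := by
    have := mul_mem ha hoA
    simpa using this
  have hkA : k ∈ trivOn Q₁ W := by simpa using inv_mem hkinvA
  have hkT : ∀ q ∈ Q₁, q⁻¹ * (k * q * k⁻¹) ∈ W := hkA.2.2
  -- Step E0
  have hcA : ∀ c ∈ Subgroup.zpowers k, c ∈ trivOn Q₁ W := fun c hc =>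
    (Subgroup.zpowers_le.mpr hkA) hc
  have conjH : ∀ q ∈ Q₁, ∀ h ∈ mulZ W k hkW, q⁻¹ * h * q ∈ mulZ W k hkW := by
    rintro q hq _ ⟨w, hw, c, hc, rfl⟩
    refine ⟨w * (q⁻¹ * (c * q * c⁻¹)), mul_mem hw ((hcA c hc).2.2 q hq), c, hc, ?_⟩
    have := hWc w hw q⁻¹ (inv_mem hq)
    calc q⁻¹ * (w * c) * q = (q⁻¹ * w) * c * q := by group
      _ = (w * q⁻¹) * c * q := by rw [this]
      _ = w * (q⁻¹ * (c * q * c⁻¹)) * c := by group
  have hoddH : ∀ g ∈ K', Odd (orderOf g) → g ∈ mulZ W k hkW := by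
    intro g hg hodd
    obtain ⟨o', ho', i, rfl⟩ := hKO g hg
    have ho'Q := hOQ ho'
    have hkiH : k ^ i ∈ mulZ W k hkW :=
      ⟨1, one_mem _, k ^ i, pow_mem (Subgroup.mem_zpowers k) i, by simp⟩
    have hind : ∀ n : ℕ, ∃ h ∈ mulZ W k hkW, (o' * k ^ i) ^ n = o' ^ n * h := by
      intro n
      induction n with
      | zero => exact ⟨1, one_mem _, by simp⟩
      | succ n ih =>
        obtain ⟨h, hh, e⟩ := ih
        refine ⟨o'⁻¹ * h * o' * k ^ i, mul_mem (conjH o' ho'Q h hh) hkiH, ?_⟩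
        rw [pow_succ, e, pow_succ]; group
    obtain ⟨n, hn⟩ := two_elt o' ho'Q
    obtain ⟨h, hh, e⟩ := hind (2 ^ n)
    rw [hn, one_mul] at e
    have hc : Nat.Coprime (2 ^ n) (orderOf (o' * k ^ i)) :=
      Nat.Coprime.pow_left n (Nat.coprime_two_left.mpr hodd)
    obtain ⟨m, hm'⟩ := exists_pow_eq_self_of_coprime hc
    rw [← hm', e]; exact pow_mem hh m
  have hKH : Subgroup.closure {g : G | g ∈ K' ∧ Odd (orderOf g)} ≤ mulZ W k hkW :=
    (Subgroup.closure_le _).mpr fun g hg => hoddH g hg.1 hg.2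
  rw [hKgen] at hKH
  have hoW' : o ∈ W := by
    have hoH : o ∈ mulZ W k hkW := by rw [ho]; exact mul_mem (hKH hvk) (hKH hkK)
    obtain ⟨w, hw, c, hc, e⟩ := hoH
    have hcQ : c ∈ Q₁ := by
      have : c = w⁻¹ * o := by rw [e]; group
      rw [this]; exact mul_mem (inv_mem (hWQ w hw)) hoQ
    obtain ⟨n, hn⟩ := two_elt c hcQ
    have hc3 : c ^ 3 = 1 := by
      obtain ⟨j, rfl⟩ := Subgroup.mem_zpowers_iff.mp hc
      rw [← zpow_natCast, ← zpow_mul, mul_comm, zpow_mul, zpow_natCast, hk3, one_zpow]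
    have h1 : orderOf c ∣ Nat.gcd 3 (2 ^ n) :=
      Nat.dvd_gcd (orderOf_dvd_of_pow_eq_one hc3) (orderOf_dvd_of_pow_eq_one hn)
    have h2 : Nat.gcd 3 (2 ^ n) = 1 := Nat.Coprime.pow_right n (by norm_num)
    rw [h2, Nat.dvd_one, orderOf_eq_one_iff] at h1
    rw [e, h1, mul_one]; exact hw
  -- Step D
  have hD : ∀ q ∈ Q₁, ∃ w₀ ∈ W, k * (w₀ * q) * k⁻¹ = w₀ * q := by
    intro q hq
    have key : ∀ w₀ ∈ W, ∀ w, k * q * k⁻¹ = q * w → (k * w₀ * k⁻¹) * w = w₀ →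
        k * (w₀ * q) * k⁻¹ = w₀ * q := by
      intro w₀ hw₀ w hqw hw₀w
      have hkw₀ : k * w₀ * k⁻¹ ∈ W := (Subgroup.mem_normalizer_iff.mp hkW _).mp hw₀
      calc k * (w₀ * q) * k⁻¹ = (k * w₀ * k⁻¹) * (k * q * k⁻¹) := by group
        _ = (k * w₀ * k⁻¹) * (q * w) := by rw [hqw]
        _ = q * ((k * w₀ * k⁻¹) * w) := by
            rw [← mul_assoc, ← hWc (k * w₀ * k⁻¹) hkw₀ q hq, mul_assoc]
        _ = q * w₀ := by rw [hw₀w]
        _ = w₀ * q := hWc w₀ hw₀ q hq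
    have h := hkT q hq
    rcases (hW _).mp h with h1 | h1 | h1 | h1
    · exact ⟨1, one_mem _, key 1 (one_mem _) 1 (eq_mul_of_inv_mul_eq h1) (by simp)⟩
    · exact ⟨z₂, hz₂W, key z₂ hz₂W z₁ (eq_mul_of_inv_mul_eq h1) (by rw [hk3']; exact t01)⟩
    · exact ⟨z₁, hz₁W, key z₁ hz₁W z (eq_mul_of_inv_mul_eq h1) (by rw [hk2]; exact t20)⟩
    · exact ⟨z, hzW, key z hzW z₂ (eq_mul_of_inv_mul_eq h1) (by rw [hk1]; exact t12)⟩
  -- Step E
  have hE : ∀ r ∈ Q₁, k * r * k⁻¹ = r → v * r * v⁻¹ = r := by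
    intro r hr hkr
    rcases hQv r hr with h | h
    · exact h
    · exfalso
      have e1 : (o * k⁻¹) * (r * z) * (o * k⁻¹)⁻¹ = r * z := by
        rw [← hvkv, ← h]
        calc (v * k * v⁻¹) * (v * r * v⁻¹) * (v * k * v⁻¹)⁻¹ = v * (k * r * k⁻¹) * v⁻¹ := by group
          _ = v * r * v⁻¹ := by rw [hkr]
      have hrz : r * z ∈ Q₁ := mul_mem hr hzQ
      have e2 : k⁻¹ * (r * z) * k = r * z := by
        have hx : k⁻¹ * (r * z) * k ∈ Q₁ := hkQ' _ hrz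
        have h5 : o * (k⁻¹ * (r * z) * k) * o⁻¹ = r * z := by
          have h50 : o * (k⁻¹ * (r * z) * k) * o⁻¹ = (o * k⁻¹) * (r * z) * (o * k⁻¹)⁻¹ := by
            group
          rw [h50]; exact e1
        have hc := hWc o hoW' (k⁻¹ * (r * z) * k) hx
        rw [← hc, mul_inv_cancel_right] at h5
        exact h5
      have e3 : r * z = r * z₁ := by
        calc r * z = k * (k⁻¹ * (r * z) * k) * k⁻¹ := by group
          _ = k * (r * z) * k⁻¹ := by rw [e2]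
          _ = (k * r * k⁻¹) * (k * z * k⁻¹) := by group
          _ = r * z₁ := by rw [hkr, hk1]
      exact hkz (by rw [hk1]; exact (mul_left_cancel e3).symm)
  -- (P)
  have hP : ∀ y ∈ T', y * y = 1 → y * v ≠ v * y → ∀ t ∈ T', t * y = y * t → t ∈ Q₁ := by
    intro y hy hy2 hyv t ht hty
    by_contra htQ
    obtain ⟨q, hq_def⟩ : ∃ q, q = t * v := ⟨_, rfl⟩
    have hq : q ∈ Q₁ := hq_def ▸ (hTQv t ht).resolve_left htQ
    have ht' : t = q * v := by rw [hq_def, mul_assoc, hv2, mul_one]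
    by_cases hyQ : y ∈ Q₁
    · obtain ⟨w₀, hw₀, hkr⟩ := hD y hyQ
      obtain ⟨r, hr_def⟩ : ∃ r, r = w₀ * y := ⟨_, rfl⟩
      rw [← hr_def] at hkr
      have hr : r ∈ Q₁ := hr_def ▸ mul_mem (hWQ w₀ hw₀) hyQ
      have hy_eq : y = w₀ * r := by rw [hr_def, ← mul_assoc, hWinv w₀ hw₀, one_mul]
      have hvr := hE r hr hkr
      rcases hQv w₀ (hWQ w₀ hw₀) with hvw | hvw
      · have : v * y * v⁻¹ = y := by
          rw [hy_eq]
          calc v * (w₀ * r) * v⁻¹ = (v * w₀ * v⁻¹) * (v * r * v⁻¹) := by group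
            _ = w₀ * r := by rw [hvw, hvr]
        exact hyv (mul_inv_eq_iff_eq_mul.mp this).symm
      · have hvy : v * y * v⁻¹ = w₀ * z * r := by
          rw [hy_eq]
          calc v * (w₀ * r) * v⁻¹ = (v * w₀ * v⁻¹) * (v * r * v⁻¹) := by group
            _ = w₀ * z * r := by rw [hvw, hvr]
        have hty' : t * y * t⁻¹ = y := by rw [hty]; group
        have e : q * (v * y * v⁻¹) * q⁻¹ = y := by
          have h5 : q * (v * y * v⁻¹) * q⁻¹ = (q * v) * y * (q * v)⁻¹ := by group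
          rw [h5, ← ht']; exact hty'
        rw [hvy] at e
        have hw₀z : w₀ * z ∈ W := mul_mem hw₀ hzW
        have c1 := hWc (w₀ * z) hw₀z q hq
        have e' : w₀ * z * (q * r * q⁻¹) = w₀ * r := by
          calc w₀ * z * (q * r * q⁻¹) = (w₀ * z * q) * r * q⁻¹ := by group
            _ = (q * (w₀ * z)) * r * q⁻¹ := by rw [c1]
            _ = q * (w₀ * z * r) * q⁻¹ := by group
            _ = y := e
            _ = w₀ * r := hy_eq
        have e'' : z * (q * r * q⁻¹) = r := by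
          rw [mul_assoc] at e'
          exact mul_left_cancel e'
        have hkq : k * (q * r * q⁻¹) * k⁻¹ = q * r * q⁻¹ := by
          obtain ⟨w', hw'_def⟩ : ∃ w', w' = q⁻¹ * (k * q * k⁻¹) := ⟨_, rfl⟩
          have hw' : w' ∈ W := hw'_def ▸ hkT q hq
          have hqw : k * q * k⁻¹ = q * w' := by rw [hw'_def]; group
          calc k * (q * r * q⁻¹) * k⁻¹ = (k * q * k⁻¹) * (k * r * k⁻¹) * (k * q * k⁻¹)⁻¹ := by
                group
            _ = (q * w') * r * (q * w')⁻¹ := by rw [hqw, hkr]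
            _ = q * (w' * r * w'⁻¹) * q⁻¹ := by group
            _ = q * r * q⁻¹ := by rw [← hWc w' hw' r hr, mul_inv_cancel_right]
        have h6 : z₁ * (q * r * q⁻¹) = z * (q * r * q⁻¹) := by
          calc z₁ * (q * r * q⁻¹) = (k * z * k⁻¹) * (k * (q * r * q⁻¹) * k⁻¹) := by
                rw [hk1, hkq]
            _ = k * (z * (q * r * q⁻¹)) * k⁻¹ := by group
            _ = k * r * k⁻¹ := by rw [e'']
            _ = r := hkr
            _ = z * (q * r * q⁻¹) := e''.symm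
        exact hkz (by rw [hk1]; exact mul_right_cancel h6)
    · obtain ⟨q', hq'_def⟩ : ∃ q', q' = y * v := ⟨_, rfl⟩
      have hq' : q' ∈ Q₁ := hq'_def ▸ (hTQv y hy).resolve_left hyQ
      have hy_eq : y = q' * v := by rw [hq'_def, mul_assoc, hv2, mul_one]
      obtain ⟨w₀, hw₀, hkr⟩ := hD q' hq'
      obtain ⟨r, hr_def⟩ : ∃ r, r = w₀ * q' := ⟨_, rfl⟩
      rw [← hr_def] at hkr
      have hr : r ∈ Q₁ := hr_def ▸ mul_mem (hWQ w₀ hw₀) hq'
      have hq'_eq : q' = w₀ * r := by rw [hr_def, ← mul_assoc, hWinv w₀ hw₀, one_mul]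
      have hvr := hE r hr hkr
      rcases hQv w₀ (hWQ w₀ hw₀) with hvw | hvw
      · have h7 : v * q' * v⁻¹ = q' := by
          rw [hq'_eq]
          calc v * (w₀ * r) * v⁻¹ = (v * w₀ * v⁻¹) * (v * r * v⁻¹) := by group
            _ = w₀ * r := by rw [hvw, hvr]
        have h8 : v * q' = q' * v := mul_inv_eq_iff_eq_mul.mp h7
        apply hyv
        rw [hy_eq, ← mul_assoc, h8]
      · have e1 : q' * (v * q' * v⁻¹) = 1 := by
          rw [hvi]
          calc q' * (v * q' * v) = (q' * v) * (q' * v) := by group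
            _ = 1 := by rw [← hy_eq]; exact hy2
        have e2 : v * q' * v⁻¹ = w₀ * z * r := by
          rw [hq'_eq]
          calc v * (w₀ * r) * v⁻¹ = (v * w₀ * v⁻¹) * (v * r * v⁻¹) := by group
            _ = w₀ * z * r := by rw [hvw, hvr]
        rw [e2, hq'_eq] at e1
        have hw₀z : w₀ * z ∈ W := mul_mem hw₀ hzW
        have c := hWc (w₀ * z) hw₀z r hr
        have e3 : z * (r * r) = 1 := by
          calc z * (r * r) = (w₀ * w₀) * z * (r * r) := by rw [hWinv w₀ hw₀, one_mul]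
            _ = w₀ * ((w₀ * z) * r) * r := by group
            _ = w₀ * (r * (w₀ * z)) * r := by rw [c]
            _ = (w₀ * r) * (w₀ * z * r) := by group
            _ = 1 := e1
        have e4 : r * r = z := by
          have := eq_inv_of_mul_eq_one_right e3
          rwa [hzi] at this
        exact hkz (by
          rw [← e4]
          calc k * (r * r) * k⁻¹ = (k * r * k⁻¹) * (k * r * k⁻¹) := by group
            _ = r * r := by rw [hkr])
  -- the end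
  obtain ⟨y, hy_def⟩ : ∃ y, y = s * z₁ * s⁻¹ := ⟨_, rfl⟩
  have hy : y ∈ T' := hy_def ▸ hsT z₁ (hQT hz₁Q)
  have hy2 : y * y = 1 := by
    rw [hy_def]
    calc s * z₁ * s⁻¹ * (s * z₁ * s⁻¹) = s * (z₁ * z₁) * s⁻¹ := by group
      _ = 1 := by rw [hz₁2]; group
  have hyv : y * v ≠ v * y := by
    intro hc
    have hcomm : y * (s * v * s⁻¹) = (s * v * s⁻¹) * y := by
      rcases hsv with h | h
      · rw [h]; exact hc
      · rw [h]
        calc y * (v * z) = (y * v) * z := by group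
          _ = (v * y) * z := by rw [hc]
          _ = v * (y * z) := by group
          _ = v * (z * y) := by rw [hzT y hy]
          _ = v * z * y := by group
    rw [hy_def] at hcomm
    have h9 : s * (z₁ * v) * s⁻¹ = s * (v * z₁) * s⁻¹ := by
      calc s * (z₁ * v) * s⁻¹ = (s * z₁ * s⁻¹) * (s * v * s⁻¹) := by group
        _ = (s * v * s⁻¹) * (s * z₁ * s⁻¹) := hcomm
        _ = s * (v * z₁) * s⁻¹ := by group
    have h10 : z₁ * v = v * z₁ := mul_left_cancel (mul_right_cancel h9)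
    have h11 : v * z₁ * v⁻¹ = z₁ := by rw [← h10]; group
    rw [hA] at h11
    exact hz₂₁ h11
  intro q hq
  refine hP y hy hy2 hyv (s * q * s⁻¹) (hsT q (hQT hq)) ?_
  rw [hy_def]
  calc s * q * s⁻¹ * (s * z₁ * s⁻¹) = s * (q * z₁) * s⁻¹ := by group
    _ = s * (z₁ * q) * s⁻¹ := by rw [hz₁c q hq]
    _ = s * z₁ * s⁻¹ * (s * q * s⁻¹) := by group

end

end Cfsg.Agent.H1.R1
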