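import Mathlib
import Cfsg.Agent.H96.RoDefs

set_option autoImplicit false

namespace Cfsg.Agent.H1.Ro

open Cfsg.Agent.H96.Ro

universe u

theorem triv2B (ha : StArith.{u}) : StTriv2B.{u} := by
  intro K _ _ _ m hm hcard γ hγ f3 g2 hshape hf3 hg2e
  obtain ⟨-, ⟨t0, ht0⟩, -, -, -, -, hA7⟩ := ha K m hm hcard
  have h3 : (3 : K) = 0 := by exact_mod_cast CharP.cast_eq_zero K 3
  have hodd : Odd (3 ^ (m + 1)) := Odd.pow (by decide)
  generalize 3 ^ (m + 1) = n at *
  have hf0 : f3 0 = 0 := by
    have := hf3 0 0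
    rw [add_zero] at this
    linear_combination -this
  have h02 : (0 : K) ^ 2 = 0 := by norm_num
  have hg0 : g2 0 = 0 := by
    have h := hγ (0, 0, 0) (0, 0, 0)
    have h2 := congrArg (fun p : K × K × K => p.2.2) h
    simp only [rm, hshape, hf0, h02, add_zero, mul_zero, sub_zero] at h2
    linear_combination -h2
  have hfid : ∀ x : K, f3 x = x := by
    intro x
    have h := hγ (0, x, 0) (-1, 0, 0)
    have h2 := congrArg (fun p : K × K × K => p.2.2) h
    simp only [rm, hshape, hf0, hg0, h02, add_zero, zero_add, mul_zero, sub_zero, zero_mul,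
      neg_mul, one_mul, sub_neg_eq_add] at h2
    linear_combination h2
  have hgadd : ∀ t t' : K, g2 (t + t') = g2 t + g2 t' := by
    intro t t'
    have h := hγ (t, 0, 0) (t', 0, 0)
    have h2 := congrArg (fun p : K × K × K => p.2.2) h
    simp only [rm, hshape, hfid, add_zero, mul_zero, sub_zero] at h2
    linear_combination h2
  have hodd2 : Odd (n + 2) := by
    obtain ⟨k, hk⟩ := hodd
    exact ⟨k + 1, by omega⟩
  refine ⟨hfid, ?_⟩
  by_contra hne
  push Not at hne
  obtain ⟨x, hx⟩ := hne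
  -- (κ+1)^(n+2) = κ^(n+2) + 1 for all κ
  have hP : ∀ κ : K, (κ + 1) ^ (n + 2) = κ ^ (n + 2) + 1 := by
    intro κ
    by_cases h0 : κ = 0
    · subst h0
      simp
    by_cases h1 : κ + 1 = 0
    · have hk : κ = -1 := by linear_combination h1
      subst hk
      rw [h1, hodd2.neg_one_pow, zero_pow (by omega)]
      ring
    have e1 := hg2e (κ + 1) h1 x
    have e2 := hg2e κ h0 x
    have e3 := hgadd (κ * x) x
    have e4 : κ * x + x = (κ + 1) * x := by ring
    rw [e4, e1, e2] at e3
    have e5 : ((κ + 1) ^ (n + 2) - (κ ^ (n + 2) + 1)) * g2 x = 0 := by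
      linear_combination e3
    rcases mul_eq_zero.1 e5 with h | h
    · exact sub_eq_zero.1 h
    · exact absurd h hx
  have hQ : ∀ κ : K, κ ^ n = κ := by
    intro κ
    have p1 := hP κ
    have p2 := hP (-κ)
    have a1 := hA7 κ 1
    have a2 := hA7 (-κ) 1
    rw [one_pow] at a1 a2
    rw [hodd.neg_pow] at a2
    rw [pow_add, a1] at p1
    rw [pow_add, a2, hodd2.neg_pow, pow_add] at p2
    linear_combination 2 * p1 - 2 * p2 - (κ ^ n + 3 * κ) * h3
  exact ht0 (hQ t0)

example : (StArith.{u}) → Cfsg.Agent.H96.Ro.StTriv2B.{u} := triv2B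

end Cfsg.Agent.H1.Ro
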