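import Mathlib
import Cfsg.Agent.H13.SchDefs
import Cfsg.Agent.H66.HHA
import Cfsg.Agent.H80.PSolvable
import Cfsg.Agent.S1324
import Cfsg.Agent.H1.CoprimeSylow

/-!
# S4394-P2a (team project of helper13): the local configuration exists
-/

set_option autoImplicit false
set_option linter.unusedVariables false
open Cfsg
open scoped commutatorElement

namespace Cfsg.Agent.H1.Sch

open Cfsg.Agent.H13.Sch

variable {G : Type*} [Group G]

/-- A subgroup `H ≤ K` containing a Sylow `r`-subgroup of `K` for every prime `r` is `K`. -/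
theorem eq_of_sylows_le [Finite G] (K H : Subgroup G) (hHK : H ≤ K)
    (h : ∀ (r : ℕ) [Fact r.Prime], ∃ P : Sylow r K, (P : Subgroup K).map K.subtype ≤ H) :
    H = K := by
  apply Subgroup.eq_of_le_of_card_ge hHK
  apply Nat.le_of_dvd Nat.card_pos
  rw [← Nat.factorization_prime_le_iff_dvd Nat.card_pos.ne' Nat.card_pos.ne']
  intro r hr
  haveI : Fact r.Prime := ⟨hr⟩
  obtain ⟨P, hP⟩ := h r
  have h1 : r ^ (Nat.card K).factorization r ∣ Nat.card H := by
    rw [← sylow_map_card r K P]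
    exact Subgroup.card_dvd_of_le hP
  exact (hr.pow_dvd_iff_le_factorization Nat.card_pos.ne').mp h1

/-- In an abelian group `A` of exponent `p`, a subgroup `B` of index at most `p` and an element
`x ∈ A ∖ B` generate `A`. -/
theorem exists_pow_mul_mem [Finite G] (p : ℕ) [Fact p.Prime] (A B : Subgroup G)
    (hAc : ∀ a ∈ A, ∀ b ∈ A, a * b = b * a) (hAp : ∀ a ∈ A, a ^ p = 1)
    (hBA : B ≤ A) (hidx : B.relIndex A ≤ p) (x : G) (hxA : x ∈ A) (hxB : x ∉ B) :
    ∀ g ∈ A, ∃ i : ℕ, (x ^ i)⁻¹ * g ∈ B := by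
  classical
  have hp : p.Prime := Fact.out
  haveI hn : (B.subgroupOf A).Normal := ⟨fun n hn g => by
    have h1 : g * n * g⁻¹ = n := by
      apply Subtype.ext
      simp only [Subgroup.coe_mul, InvMemClass.coe_inv]
      rw [hAc g.1 g.2 n.1 n.2, mul_inv_cancel_right]
    rwa [h1]⟩
  have hcard : Nat.card (A ⧸ B.subgroupOf A) ≤ p := hidx
  have hx1 : (QuotientGroup.mk (⟨x, hxA⟩ : A) : A ⧸ B.subgroupOf A) ≠ 1 := by
    rw [Ne, QuotientGroup.eq_one_iff, Subgroup.mem_subgroupOf]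
    exact hxB
  have hAg : IsPGroup p A := fun g => ⟨1, by
    rw [pow_one]; exact Subtype.ext (by simpa using hAp g.1 g.2)⟩
  have hpg : IsPGroup p (A ⧸ B.subgroupOf A) := hAg.to_quotient _
  obtain ⟨n, hn'⟩ := IsPGroup.iff_card.mp hpg
  have hcardp : Nat.card (A ⧸ B.subgroupOf A) = p := by
    rcases n with _ | n
    · exfalso
      rw [pow_zero] at hn'
      haveI : Subsingleton (A ⧸ B.subgroupOf A) := (Nat.card_eq_one_iff_unique.mp hn').1
      exact hx1 (Subsingleton.elim _ _)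
    · rcases n with _ | n
      · simpa using hn'
      · exfalso
        rw [hn'] at hcard
        have : p ^ 2 ≤ p ^ (n + 1 + 1) := Nat.pow_le_pow_right hp.pos (by omega)
        have h2 : p < p ^ 2 := by nlinarith [hp.two_le]
        omega
  intro g hg
  obtain ⟨i, hi⟩ := mem_powers_of_prime_card hcardp hx1
    (g' := (QuotientGroup.mk (⟨g, hg⟩ : A) : A ⧸ B.subgroupOf A))
  refine ⟨i, ?_⟩
  have hi' : (QuotientGroup.mk (⟨x, hxA⟩ : A) : A ⧸ B.subgroupOf A) ^ i
      = QuotientGroup.mk (⟨g, hg⟩ : A) := hi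
  have h3 : (QuotientGroup.mk (((⟨x, hxA⟩ : A) ^ i)⁻¹ * (⟨g, hg⟩ : A)) :
      A ⧸ B.subgroupOf A) = 1 := by
    rw [QuotientGroup.mk_mul, QuotientGroup.mk_inv, QuotientGroup.mk_pow, hi', inv_mul_cancel]
  rw [QuotientGroup.eq_one_iff, Subgroup.mem_subgroupOf] at h3
  simpa using h3

/-- The configuration in the quotient: `K` a normal `p'`-subgroup with `C_G(K) ≤ K`, `A ≠ 1` an
elementary abelian `p`-subgroup. -/
theorem quot_config [Finite G] (p : ℕ) [Fact p.Prime] (K A : Subgroup G) [K.Normal]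
    (hKp : (Nat.card K).Coprime p)
    (hCK : Subgroup.centralizer (K : Set G) ≤ K)
    (hA1 : A ≠ ⊥) (hAc : ∀ a ∈ A, ∀ b ∈ A, a * b = b * a) (hAp : ∀ a ∈ A, a ^ p = 1) :
    ∃ x ∈ A, ∃ (B R : Subgroup G) (r : ℕ), r.Prime ∧ r ≠ p ∧ IsPGroup r R ∧ R ≠ ⊥ ∧
      x ∈ Subgroup.normalizer (R : Set G) ∧
      R ≤ Subgroup.closure {c : G | ∃ s ∈ R, ∃ i : ℕ, c = ⁅s, x ^ i⁆} ∧
      (∀ b ∈ B, ∀ s ∈ R, b * s = s * b) ∧
      ∀ g ∈ A, ∃ i : ℕ, (x ^ i)⁻¹ * g ∈ B := by
  classical
  have hp : p.Prime := Fact.out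
  have hAg : IsPGroup p A := fun g => ⟨1, by
    rw [pow_one]; exact Subtype.ext (by simpa using hAp g.1 g.2)⟩
  obtain ⟨n, hn⟩ := IsPGroup.iff_card.mp hAg
  have hAK : A ⊓ K = ⊥ := by
    apply disjoint_iff.mp
    apply Subgroup.disjoint_of_coprime_natCard
    rw [hn]
    exact Nat.Coprime.pow_left n hKp.symm
  -- `A` does not centralize `K`
  have h1 : ∃ x₀ ∈ A, ∃ k ∈ K, x₀ * k ≠ k * x₀ := by
    by_contra hcon
    push Not at hcon
    apply hA1
    rw [eq_bot_iff, ← hAK]
    intro a ha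
    refine ⟨ha, hCK ?_⟩
    rw [Subgroup.mem_centralizer_iff]
    intro k hk
    exact (hcon a ha k hk).symm
  obtain ⟨x, hxA, k₀, hk₀, hxk₀⟩ := h1
  -- the hyperplane `B`
  have h2 : ∃ B : Subgroup G, B ≤ A ∧ B.relIndex A ≤ p ∧
      ∃ k ∈ K ⊓ Subgroup.centralizer (B : Set G), x * k ≠ k * x := by
    by_cases hc : p ^ 2 ≤ Nat.card A
    · have hS := Cfsg.Agent.S1324.result p A K ⟨⟨⟨fun a b => Subtype.ext (hAc a.1 a.2 b.1 b.2)⟩⟩, hAp⟩ hc
        (fun hd => by
          have := Nat.Coprime.eq_one_of_dvd hKp.symm hd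
          exact hp.one_lt.ne' this)
        (by rw [Subgroup.normalizer_eq_top]; exact le_top)
      by_contra hcon
      push Not at hcon
      have h3 : K ≤ Subgroup.centralizer ({x} : Set G) := by
        rw [hS]
        apply iSup_le
        rintro ⟨B, hBA, hBi⟩ k hk
        rw [Subgroup.mem_centralizer_iff]
        intro y hy
        rw [Set.mem_singleton_iff] at hy
        subst hy
        exact hcon B hBA hBi k hk
      have h4 := Subgroup.mem_centralizer_iff.mp (h3 hk₀) x rfl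
      exact hxk₀ h4
    · refine ⟨⊥, bot_le, ?_, k₀, Subgroup.mem_inf.mpr ⟨hk₀, ?_⟩, hxk₀⟩
      · rw [Subgroup.relIndex_bot_left, hn]
        rw [hn] at hc
        rcases n with _ | n
        · rw [pow_zero]; exact hp.pos
        · rcases n with _ | n
          · simp
          · exfalso
            exact hc (Nat.pow_le_pow_right hp.pos (by omega))
      · rw [Subgroup.mem_centralizer_iff]
        intro h hh
        rw [SetLike.mem_coe, Subgroup.mem_bot] at hh
        subst hh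
        simp
  obtain ⟨B, hBA, hBi, k, hk, hxk⟩ := h2
  set X : Subgroup G := K ⊓ Subgroup.centralizer (B : Set G) with hX
  set Ax : Subgroup G := Subgroup.zpowers x with hAx
  -- `x` normalizes `X`
  have hconj : ∀ z : G, (∀ b ∈ B, z * b = b * z) → ∀ g ∈ X, z * g * z⁻¹ ∈ X := by
    intro z hz g hg
    obtain ⟨hg1, hg2⟩ := Subgroup.mem_inf.mp hg
    refine Subgroup.mem_inf.mpr ⟨Subgroup.Normal.conj_mem inferInstance g hg1 z, ?_⟩
    rw [Subgroup.mem_centralizer_iff]
    intro b hb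
    have hgb := Subgroup.mem_centralizer_iff.mp hg2 b hb
    have hzb := hz b hb
    calc b * (z * g * z⁻¹) = (b * z) * g * z⁻¹ := by group
      _ = z * (b * g) * z⁻¹ := by rw [← hzb]; group
      _ = z * g * (b * z⁻¹) := by rw [hgb]; group
      _ = z * g * (z⁻¹ * (z * b) * z⁻¹) := by group
      _ = z * g * (z⁻¹ * (b * z) * z⁻¹) := by rw [hzb]
      _ = z * g * z⁻¹ * b := by group
  have hxB : ∀ b ∈ B, x * b = b * x := fun b hb => hAc x hxA b (hBA hb)
  have hxB' : ∀ b ∈ B, x⁻¹ * b = b * x⁻¹ := fun b hb => by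
    have := hxB b hb
    calc x⁻¹ * b = x⁻¹ * (b * x) * x⁻¹ := by group
      _ = x⁻¹ * (x * b) * x⁻¹ := by rw [this]
      _ = b * x⁻¹ := by group
  have hxX : x ∈ Subgroup.normalizer (X : Set G) := by
    rw [Subgroup.mem_normalizer_iff]
    intro g
    refine ⟨hconj x hxB g, fun h => ?_⟩
    have := hconj x⁻¹ hxB' _ h
    simpa [mul_assoc] using this
  have hAxX : Ax ≤ Subgroup.normalizer (X : Set G) := by
    rw [hAx, Subgroup.zpowers_le]; exact hxX
  have hxp : x ^ p = 1 := hAp x hxA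
  have hcop : (Nat.card Ax).Coprime (Nat.card X) := by
    rw [hAx, Nat.card_zpowers]
    exact Nat.Coprime.coprime_dvd_left (orderOf_dvd_of_pow_eq_one hxp)
      (Nat.Coprime.coprime_dvd_right (Subgroup.card_dvd_of_le inf_le_left) hKp.symm)
  have hAxs : Group.IsSolvable Ax := by
    rw [hAx]
    infer_instance
  have hcent : ∀ y : G, y ∈ Subgroup.centralizer (Ax : Set G) ↔ x * y = y * x := by
    intro y
    rw [Subgroup.mem_centralizer_iff]
    constructor
    · intro h
      exact h x (Subgroup.mem_zpowers x)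
    · intro h z hz
      obtain ⟨m, rfl⟩ := Subgroup.mem_zpowers_iff.mp hz
      exact (Commute.zpow_left (show Commute x y from h) m).eq
  -- an invariant Sylow subgroup not centralized by `x`
  have h5 : ∃ (r : ℕ) (_ : Fact r.Prime) (P : Sylow r X),
      Ax ≤ Subgroup.normalizer ((P : Subgroup X).map X.subtype : Set G) ∧
      ¬ (P : Subgroup X).map X.subtype ≤ Subgroup.centralizer (Ax : Set G) := by
    by_contra hcon
    push Not at hcon
    have h6 : X ⊓ Subgroup.centralizer (Ax : Set G) = X := by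
      apply eq_of_sylows_le X _ inf_le_left
      intro r hr
      obtain ⟨P, hP⟩ := coprime_exists_invariant_sylow Ax X hAxX hcop (Or.inl hAxs) r
      exact ⟨P, le_inf (Subgroup.map_subtype_le _) (hcon r hr P hP)⟩
    have h7 : k ∈ X ⊓ Subgroup.centralizer (Ax : Set G) := by rw [h6]; exact hk
    exact hxk ((hcent k).mp (Subgroup.mem_inf.mp h7).2)
  obtain ⟨r, hr, P, hPn, hPc⟩ := h5
  set S : Subgroup G := (P : Subgroup X).map X.subtype with hS
  have hSX : S ≤ X := Subgroup.map_subtype_le _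
  have hSr : IsPGroup r S := P.isPGroup'.map _
  have hrp : r ≠ p := by
    rintro rfl
    apply hPc
    have h8 : S = ⊥ := by
      rcases hSr.card_eq_or_dvd with h | h
      · exact Subgroup.card_eq_one.mp h
      · exfalso
        have h9 : r ∣ Nat.card K := h.trans (Subgroup.card_dvd_of_le (hSX.trans inf_le_left))
        exact hp.one_lt.ne' (Nat.Coprime.eq_one_of_dvd hKp.symm h9)
    rw [h8]; exact bot_le
  set R : Subgroup G := ⁅S, Ax⁆ with hR
  have hRS : R ≤ S := commutator_le_of_le_normalizer Ax S hPn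
  have hcopS : (Nat.card Ax).Coprime (Nat.card S) :=
    Nat.Coprime.coprime_dvd_right (Subgroup.card_dvd_of_le hSX) hcop
  have hRR : ⁅R, Ax⁆ = R := coprime_commutator_commutator Ax S hPn hcopS (Or.inl hAxs)
  refine ⟨x, hxA, B, R, r, hr.out, hrp, hSr.to_le hRS, ?_, ?_, ?_, ?_, ?_⟩
  · intro h
    apply hPc
    exact Subgroup.commutator_eq_bot_iff_le_centralizer.mp h
  · exact (Subgroup.normalizer_commutator_ge_right (H₁ := S) (H₂ := Ax)) (Subgroup.mem_zpowers x)
  · calc R = ⁅R, Ax⁆ := hRR.symm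
      _ ≤ _ := by
        rw [Subgroup.commutator_le]
        intro s hs a ha
        have ha' : a ∈ Submonoid.powers x := mem_powers_iff_mem_zpowers.mpr ha
        obtain ⟨i, rfl⟩ := (Submonoid.mem_powers_iff _ _).mp ha'
        exact Subgroup.subset_closure ⟨s, hs, i, rfl⟩
  · intro b hb s hs
    exact Subgroup.mem_centralizer_iff.mp (Subgroup.mem_inf.mp (hSX (hRS hs))).2 b hb
  · apply exists_pow_mul_mem p A B hAc hAp hBA hBi x hxA
    intro hxB0
    exact hxk (Subgroup.mem_centralizer_iff.mp (Subgroup.mem_inf.mp hk).2 x hxB0)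

/-- **S4394-P2a**: the local configuration exists. -/
theorem exists_config {Γ : Type*} [Group Γ] [Finite Γ] (p : ℕ) [Fact p.Prime]
    (hsol : Cfsg.IsPSolvable p Γ) (Q : Sylow p Γ)
    (hcomm : ∀ a ∈ (Q : Subgroup Γ), ∀ b ∈ (Q : Subgroup Γ), ⁅a, b⁆ ∈ pCore p Γ)
    (hpow : ∀ u ∈ (Q : Subgroup Γ), u ^ p ∈ pCore p Γ)
    (hne : ¬ (Q : Subgroup Γ) ≤ pCore p Γ) :
    ∃ (x : Γ) (R : Subgroup Γ), Config p (Q : Subgroup Γ) x R := by
  classical
  set W : Subgroup Γ := pCore p Γ with hW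
  set π : Γ →* Γ ⧸ W := QuotientGroup.mk' W with hπdef
  have hπ : Function.Surjective π := QuotientGroup.mk'_surjective W
  have hker : π.ker = W := QuotientGroup.ker_mk' W
  have hmemW : ∀ g : Γ, π g = 1 ↔ g ∈ W := fun g => by
    rw [← MonoidHom.mem_ker, hker]
  have hO : pCore p (Γ ⧸ W) = ⊥ := H66.pCore_quotient_pCore_bot p
  have hsol' : IsPSolvable p (Γ ⧸ W) := H80.isPSolvable_quotient p W hsol
  have hC := H66.centralizer_pPrimeCore_le p hsol' hO
  have hKp : (Nat.card (pPrimeCore p (Γ ⧸ W))).Coprime p := H14.pPrimeCore_coprime p _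
  obtain ⟨xb, hxb, B, Rb, r, hr, hrp, hRb, hRb1, hxn, hRcl, hBR, hgen⟩ :=
    quot_config p (pPrimeCore p (Γ ⧸ W)) ((Q : Subgroup Γ).map π) hKp hC
      (by
        intro h
        rw [Subgroup.map_eq_bot_iff, hker] at h
        exact hne h)
      (by
        rintro _ ⟨a, ha, rfl⟩ _ ⟨b, hb, rfl⟩
        rw [← commutatorElement_eq_one_iff_mul_comm, ← map_commutatorElement, hmemW]
        exact hcomm a ha b hb)
      (by
        rintro _ ⟨a, ha, rfl⟩
        rw [← map_pow, hmemW]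
        exact hpow a ha)
  obtain ⟨x, hxQ, rfl⟩ := hxb
  haveI : Fact r.Prime := ⟨hr⟩
  set L : Subgroup Γ := Rb.comap π with hL
  let f : L →* Rb := π.subgroupComap Rb
  have hf : Function.Surjective f := MonoidHom.subgroupComap_surjective_of_surjective π Rb hπ
  let P : Sylow r L := default
  set R : Subgroup Γ := (P : Subgroup L).map L.subtype with hR
  have hPtop : ((P.mapSurjective hf : Sylow r Rb) : Subgroup Rb) = ⊤ :=
    ((P.mapSurjective hf).is_maximal' (hRb.to_subgroup ⊤) le_top).symm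
  have hRmap : R.map π = Rb := by
    apply le_antisymm
    · rintro _ ⟨s, hs, rfl⟩
      obtain ⟨l, hl, rfl⟩ := hs
      exact l.2
    · intro y hy
      have h1 : (⟨y, hy⟩ : Rb) ∈ ((P.mapSurjective hf : Sylow r Rb) : Subgroup Rb) := by
        rw [hPtop]; trivial
      rw [Sylow.coe_mapSurjective] at h1
      obtain ⟨l, hl, hly⟩ := h1
      refine ⟨l.1, ⟨l, hl, rfl⟩, ?_⟩
      have := congrArg Subtype.val hly
      exact this
  have hRW : R ⊔ W = L := by
    rw [hL, ← hRmap, Subgroup.comap_map_eq, hker]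
  refine ⟨x, R, hxQ, ?_, ?_, ⟨r, hr, hrp, P.isPGroup'.map _⟩, ?_, ?_, ?_⟩
  · -- x ∉ W
    intro hxW
    apply hRb1
    rw [eq_bot_iff]
    refine hRcl.trans ?_
    rw [Subgroup.closure_le]
    rintro c ⟨s, hs, i, rfl⟩
    rw [(hmemW x).mpr hxW]
    simp
  · -- R ≠ ⊥
    intro h
    apply hRb1
    rw [← hRmap, h, Subgroup.map_bot]
  · -- x normalizes R ⊔ W
    rw [hRW, Subgroup.mem_normalizer_iff]
    intro g
    rw [hL, Subgroup.mem_comap, Subgroup.mem_comap, map_mul, map_mul, map_inv]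
    exact Subgroup.mem_normalizer_iff.mp hxn (π g)
  · -- R ≤ [R, x] W
    set T : Subgroup Γ := Subgroup.closure {c : Γ | ∃ s ∈ R, ∃ i : ℕ, c = ⁅s, x ^ i⁆} with hT
    have h1 : T ⊔ W = (T.map π).comap π := by
      rw [Subgroup.comap_map_eq, hker]
    rw [h1]
    intro s hs
    rw [Subgroup.mem_comap]
    have h2 : π s ∈ Rb := by rw [← hRmap]; exact ⟨s, hs, rfl⟩
    refine (hRcl.trans ?_) h2
    rw [Subgroup.closure_le]
    rintro c ⟨sb, hsb, i, rfl⟩
    rw [← hRmap] at hsb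
    obtain ⟨s', hs', rfl⟩ := hsb
    refine ⟨⁅s', x ^ i⁆, Subgroup.subset_closure ⟨s', hs', i, rfl⟩, ?_⟩
    rw [map_commutatorElement, map_pow]
  · -- decomposition of Q
    intro g hg
    obtain ⟨i, hi⟩ := hgen (π g) ⟨g, hg, rfl⟩
    refine ⟨i, (x ^ i)⁻¹ * g, Subgroup.mul_mem _ (Subgroup.inv_mem _ (Subgroup.pow_mem _ hxQ i)) hg,
      by group, ?_⟩
    intro s hs
    rw [← hmemW, map_commutatorElement, commutatorElement_eq_one_iff_mul_comm]
    have h2 : π s ∈ Rb := by rw [← hRmap]; exact ⟨s, hs, rfl⟩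
    have h3 : π ((x ^ i)⁻¹ * g) ∈ B := by
      rw [map_mul, map_inv, map_pow]; exact hi
    exact hBR _ h3 _ h2

end Cfsg.Agent.H1.Sch
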