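import Cfsg.Agent.H1.Hall
import Cfsg.Agent.H1.HallCount

/-!
# Solvable groups whose non-abelian subgroups are self-normalizing (S4071)
-/

set_option autoImplicit false
open Pointwise

namespace Cfsg.Agent.H1.SelfNorm

variable {G : Type*} [Group G]

/-- In a finite group, `g H g⁻¹ ⊆ H` implies that `g` normalizes `H`. -/
theorem mem_normalizer_of_conj_mem [Finite G] (H : Subgroup G) (g : G)
    (h : ∀ x ∈ H, g * x * g⁻¹ ∈ H) : g ∈ Subgroup.normalizer (H : Set G) := by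
  rw [mem_normalizer_iff_conj_smul]
  apply Subgroup.eq_of_le_of_card_ge
  · intro y hy
    rw [mem_conj_smul_iff] at hy
    have h1 := h (g⁻¹ * y * g) hy
    have h2 : g * (g⁻¹ * y * g) * g⁻¹ = y := by group
    rwa [h2] at h1
  · rw [card_conj_smul]

/-- The structure implies that every non-abelian subgroup is self-normalizing. -/
theorem selfNorm_of_structure [Finite G] (x : G) (A : Subgroup G) (p : ℕ) (hp : p.Prime)
    [hAn : A.Normal] (hAc : IsMulCommutative A) (k : ℕ) (hx : orderOf x = p ^ k)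
    (hcompl : (Subgroup.zpowers x).IsComplement' A) (hxp : x ^ p ∈ Subgroup.center G)
    (hfpf : ∀ a : G, a ∈ A → a ≠ 1 → x * a * x⁻¹ ≠ a)
    (H : Subgroup G) (hH : ¬ IsMulCommutative H) : Subgroup.normalizer (H : Set G) = H := by
  apply le_antisymm _ Subgroup.le_normalizer
  have hAcomm : ∀ a ∈ A, ∀ b ∈ A, a * b = b * a := fun a ha b hb =>
    setLike_mul_comm ha hb
  have hdec : ∀ g : G, ∃ i : ℕ, ∃ a ∈ A, g = x ^ i * a := by
    intro g
    have hsup : (Subgroup.zpowers x) ⊔ A = ⊤ := hcompl.sup_eq_top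
    have hg : g ∈ (Subgroup.zpowers x) ⊔ A := by rw [hsup]; trivial
    rw [← SetLike.mem_coe, Subgroup.mul_normal] at hg
    obtain ⟨y, hy, a, ha, rfl⟩ := Set.mem_mul.mp hg
    obtain ⟨i, rfl⟩ := (isOfFinOrder_of_finite x).mem_powers_iff_mem_zpowers.mpr hy
    exact ⟨i, a, ha, rfl⟩
  have hmk : ∀ (i : ℕ) (a : G), a ∈ A → ((x ^ i * a : G) : G ⧸ A) = (x : G ⧸ A) ^ i := by
    intro i a ha
    rw [QuotientGroup.mk_mul, (QuotientGroup.eq_one_iff a).mpr ha, mul_one, QuotientGroup.mk_pow]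
  by_cases hcase : ∃ h ∈ H, ∃ i : ℕ, ∃ a ∈ A, h = x ^ i * a ∧ ¬ p ∣ i
  · obtain ⟨h, hhH, i, a, ha, hh, hpi⟩ := hcase
    have hk1 : 1 < p ^ k := by
      by_contra hk1
      have hx1 : x = 1 := by
        rw [← orderOf_eq_one_iff, hx]
        have := Nat.pos_of_ne_zero (pow_ne_zero k hp.ne_zero)
        omega
      apply hH
      refine ⟨⟨fun u v => Subtype.ext ?_⟩⟩
      obtain ⟨i1, a1, ha1, h1⟩ := hdec u.1
      obtain ⟨i2, a2, ha2, h2⟩ := hdec v.1
      rw [hx1, one_pow, one_mul] at h1 h2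
      show u.1 * v.1 = v.1 * u.1
      rw [h1, h2]
      exact hAcomm a1 ha1 a2 ha2
    obtain ⟨j, -, hj⟩ := Nat.exists_mul_mod_eq_one_of_coprime (k := p ^ k) (n := i)
      (Nat.Coprime.pow_right k ((Nat.Prime.coprime_iff_not_dvd hp).mpr hpi).symm) hk1
    -- `h' = h ^ j` lies in `x A`
    have hq : ((x : G) : G ⧸ A) = ((h ^ j : G) : G ⧸ A) := by
      rw [QuotientGroup.mk_pow, hh, hmk i a ha, ← pow_mul, ← QuotientGroup.mk_pow,
        ← pow_mod_orderOf, hx, hj, pow_one]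
    have ha' : x⁻¹ * h ^ j ∈ A := QuotientGroup.eq.mp hq
    have hh' : h ^ j ∈ H := H.pow_mem hhH j
    obtain ⟨h', hh'def⟩ : ∃ h', h' = h ^ j := ⟨_, rfl⟩
    rw [← hh'def] at ha' hh' hq
    -- conjugation by `h'` on `A` is conjugation by `x`
    have hconj : ∀ b ∈ A, h' * b * h'⁻¹ = x * b * x⁻¹ := by
      intro b hb
      have h1 : h' = x * (x⁻¹ * h') := by group
      have h2 := hAcomm _ ha' b hb
      calc h' * b * h'⁻¹ = x * ((x⁻¹ * h') * b) * (x⁻¹ * h')⁻¹ * x⁻¹ := by group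
        _ = x * (b * (x⁻¹ * h')) * (x⁻¹ * h')⁻¹ * x⁻¹ := by rw [h2]
        _ = x * b * x⁻¹ := by group
    have hfpf' : ∀ b ∈ A, h' * b * h'⁻¹ = b → b = 1 := by
      intro b hb hb'
      by_contra hne
      exact hfpf b hb hne ((hconj b hb).symm.trans hb')
    have hinjA : ∀ a₁ ∈ A, ∀ a₂ ∈ A, a₁ * h' * a₁⁻¹ * h'⁻¹ = a₂ * h' * a₂⁻¹ * h'⁻¹ →
        a₁ = a₂ := by
      intro a₁ ha₁ a₂ ha₂ he
      have h1 : a₁ * h' * a₁⁻¹ = a₂ * h' * a₂⁻¹ := mul_right_cancel he
      have h2 : h' * (a₂⁻¹ * a₁) * h'⁻¹ = a₂⁻¹ * a₁ := by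
        calc h' * (a₂⁻¹ * a₁) * h'⁻¹ = a₂⁻¹ * (a₂ * h' * a₂⁻¹) * a₁ * h'⁻¹ := by group
          _ = a₂⁻¹ * (a₁ * h' * a₁⁻¹) * a₁ * h'⁻¹ := by rw [h1]
          _ = a₂⁻¹ * a₁ := by group
      have h3 := hfpf' _ (A.mul_mem (A.inv_mem ha₂) ha₁) h2
      exact (inv_mul_eq_one.mp h3).symm
    intro g hg
    obtain ⟨m, c, hc, hgm⟩ := hdec g
    -- `b = h'^(-m) g ∈ A`
    have hb : (h' ^ m)⁻¹ * g ∈ A := by
      apply QuotientGroup.eq.mp
      rw [QuotientGroup.mk_pow, ← hq, hgm, hmk m c hc]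
    obtain ⟨b, hbdef⟩ : ∃ b, b = (h' ^ m)⁻¹ * g := ⟨_, rfl⟩
    rw [← hbdef] at hb
    have hbN : b ∈ Subgroup.normalizer (H : Set G) := by
      rw [hbdef]
      exact Subgroup.mul_mem _ (Subgroup.inv_mem _ (Subgroup.le_normalizer (H.pow_mem hh' m))) hg
    have hc₀H : b * h' * b⁻¹ * h'⁻¹ ∈ H :=
      H.mul_mem ((Subgroup.mem_normalizer_iff.mp hbN h').mp hh') (H.inv_mem hh')
    have hc₀A : b * h' * b⁻¹ * h'⁻¹ ∈ A := by
      have h1 : b * h' * b⁻¹ * h'⁻¹ = b * (h' * b⁻¹ * h'⁻¹) := by group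
      rw [h1]
      exact A.mul_mem hb (hAn.conj_mem _ (A.inv_mem hb) h')
    let φ : ↥(H ⊓ A) → ↥(H ⊓ A) := fun a => ⟨a.1 * h' * a.1⁻¹ * h'⁻¹, by
      have haH : a.1 ∈ H := a.2.1
      have haA : a.1 ∈ A := a.2.2
      refine Subgroup.mem_inf.mpr ⟨?_, ?_⟩
      · exact H.mul_mem (H.mul_mem (H.mul_mem haH hh') (H.inv_mem haH)) (H.inv_mem hh')
      · have h1 : a.1 * h' * a.1⁻¹ * h'⁻¹ = a.1 * (h' * a.1⁻¹ * h'⁻¹) := by group
        rw [h1]
        exact A.mul_mem haA (hAn.conj_mem _ (A.inv_mem haA) h')⟩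
    have hφinj : Function.Injective φ := by
      intro a₁ a₂ he
      have he' : a₁.1 * h' * a₁.1⁻¹ * h'⁻¹ = a₂.1 * h' * a₂.1⁻¹ * h'⁻¹ :=
        congrArg Subtype.val he
      exact Subtype.ext (hinjA _ a₁.2.2 _ a₂.2.2 he')
    have hφsurj : Function.Surjective φ := Finite.injective_iff_surjective.mp hφinj
    obtain ⟨b₀, hb₀⟩ := hφsurj ⟨b * h' * b⁻¹ * h'⁻¹, Subgroup.mem_inf.mpr ⟨hc₀H, hc₀A⟩⟩
    have hb₀' : b₀.1 * h' * b₀.1⁻¹ * h'⁻¹ = b * h' * b⁻¹ * h'⁻¹ := congrArg Subtype.val hb₀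
    have hbb₀ : b = b₀.1 := (hinjA _ b₀.2.2 _ hb hb₀').symm
    have hbH : b ∈ H := by rw [hbb₀]; exact b₀.2.1
    have hg' : g = h' ^ m * b := by rw [hbdef]; group
    rw [hg']
    exact H.mul_mem (H.pow_mem hh' m) hbH
  · exfalso
    push Not at hcase
    apply hH
    refine ⟨⟨fun u v => Subtype.ext ?_⟩⟩
    obtain ⟨i1, a1, ha1, h1⟩ := hdec u.1
    obtain ⟨i2, a2, ha2, h2⟩ := hdec v.1
    obtain ⟨e1, rfl⟩ := hcase u.1 u.2 i1 a1 ha1 h1
    obtain ⟨e2, rfl⟩ := hcase v.1 v.2 i2 a2 ha2 h2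
    have hz1 : ∀ g : G, g * x ^ (p * e1) = x ^ (p * e1) * g := by
      intro g
      rw [pow_mul]
      exact Subgroup.mem_center_iff.mp (Subgroup.pow_mem _ hxp e1) g
    have hz2 : ∀ g : G, g * x ^ (p * e2) = x ^ (p * e2) * g := by
      intro g
      rw [pow_mul]
      exact Subgroup.mem_center_iff.mp (Subgroup.pow_mem _ hxp e2) g
    show u.1 * v.1 = v.1 * u.1
    rw [h1, h2]
    calc x ^ (p * e1) * a1 * (x ^ (p * e2) * a2)
        = x ^ (p * e1) * (a1 * x ^ (p * e2)) * a2 := by group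
      _ = x ^ (p * e1) * (x ^ (p * e2) * a1) * a2 := by rw [hz2 a1]
      _ = x ^ (p * e1) * x ^ (p * e2) * (a1 * a2) := by group
      _ = x ^ (p * e2) * x ^ (p * e1) * (a2 * a1) := by
          rw [hAcomm a1 ha1 a2 ha2, hz1 (x ^ (p * e2))]
      _ = x ^ (p * e2) * (x ^ (p * e1) * a2) * a1 := by group
      _ = x ^ (p * e2) * (a2 * x ^ (p * e1)) * a1 := by rw [hz1 a2]
      _ = x ^ (p * e2) * a2 * (x ^ (p * e1) * a1) := by group

/-- Structure of a solvable non-nilpotent group whose non-abelian subgroups are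
self-normalizing. -/
theorem structure_of_selfNorm [Finite G] [Group.IsSolvable G] (hnn : ¬ Group.IsNilpotent G)
    (hsn : ∀ H : Subgroup G, ¬ IsMulCommutative H → Subgroup.normalizer (H : Set G) = H) :
    ∃ (x : G) (A : Subgroup G) (p : ℕ), p.Prime ∧ A.Normal ∧ IsMulCommutative A ∧
      (∃ k : ℕ, orderOf x = p ^ k) ∧ ¬ p ∣ Nat.card A ∧ (Subgroup.zpowers x).IsComplement' A ∧
      x ^ p ∈ Subgroup.center G ∧ ∀ a : G, a ∈ A → a ≠ 1 → x * a * x⁻¹ ≠ a := by
  have hnt : Nontrivial G := by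
    by_contra hsub
    rw [not_nontrivial_iff_subsingleton] at hsub
    exact hnn inferInstance
  obtain ⟨M, hMn, hMp⟩ := exists_normal_prime_index G
  obtain ⟨p, hpdef⟩ : ∃ p, p = M.index := ⟨_, rfl⟩
  have hp : p.Prime := hpdef ▸ hMp
  haveI : Fact p.Prime := ⟨hp⟩
  -- `M` is abelian
  have hMc : IsMulCommutative M := by
    by_contra h
    have h1 := hsn M h
    rw [Subgroup.normalizer_eq_top] at h1
    rw [← h1, Subgroup.index_top] at hMp
    exact Nat.not_prime_one hMp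
  have hMcomm : ∀ a ∈ M, ∀ b ∈ M, a * b = b * a := fun a ha b hb => setLike_mul_comm ha hb
  obtain ⟨e, n', hpn', hGc⟩ := Nat.exists_eq_pow_mul_and_not_dvd
    (Nat.card_pos (α := G)).ne' p hp.ne_one
  have hn'0 : 0 < n' := by
    rcases Nat.eq_zero_or_pos n' with h | h
    · rw [h, mul_zero] at hGc; exact absurd hGc Nat.card_pos.ne'
    · exact h
  have hcopn : Nat.Coprime (p ^ e) n' :=
    Nat.Coprime.pow_left e ((Nat.Prime.coprime_iff_not_dvd hp).mpr hpn')
  -- the `p'`-part `A` of `M`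
  let A : Subgroup G :=
    { carrier := {m | m ∈ M ∧ m ^ n' = 1}
      mul_mem' := by
        rintro a b ⟨ha, ha'⟩ ⟨hb, hb'⟩
        refine ⟨M.mul_mem ha hb, ?_⟩
        rw [(show Commute a b from hMcomm a ha b hb).mul_pow, ha', hb', one_mul]
      one_mem' := ⟨M.one_mem, one_pow _⟩
      inv_mem' := by
        rintro a ⟨ha, ha'⟩
        exact ⟨M.inv_mem ha, by rw [inv_pow, ha', inv_one]⟩ }
  have hAmem : ∀ m : G, m ∈ A ↔ m ∈ M ∧ m ^ n' = 1 := fun m => Iff.rfl
  have hAM : A ≤ M := fun m hm => hm.1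
  haveI hAn : A.Normal := by
    refine ⟨fun m hm g => ?_⟩
    refine ⟨hMn.conj_mem m hm.1 g, ?_⟩
    rw [conj_pow, hm.2, mul_one, mul_inv_cancel]
  have hAcomm : ∀ a ∈ A, ∀ b ∈ A, a * b = b * a := fun a ha b hb =>
    hMcomm a (hAM ha) b (hAM hb)
  have hAc : IsMulCommutative A := ⟨⟨fun a b => Subtype.ext (hAcomm a.1 a.2 b.1 b.2)⟩⟩
  have hpA : ¬ p ∣ Nat.card A := by
    intro hdvd
    obtain ⟨a, ha⟩ := exists_prime_orderOf_dvd_card' (G := A) p hdvd
    have h1 : (a : G) ^ n' = 1 := a.2.2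
    have h2 : a ^ n' = 1 := Subtype.ext h1
    have h3 := orderOf_dvd_of_pow_eq_one h2
    rw [ha] at h3
    exact hpn' h3
  -- the quotient by `M` has order `p`
  have hQcard : Nat.card (G ⧸ M) = p := by rw [hpdef, Subgroup.index_eq_card]
  have hpowM : ∀ g : G, g ^ p ∈ M := by
    intro g
    rw [← QuotientGroup.eq_one_iff, QuotientGroup.mk_pow, ← hQcard]
    exact pow_card_eq_one'
  -- `|A| = n'`
  have hAcard : Nat.card A = n' := by
    obtain ⟨H₀, hH₀⟩ := hall_exists n' (p ^ e) (by rw [hGc, mul_comm]) hcopn.symm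
    have hH₀A : H₀ ≤ A := by
      intro h hh
      have h1 : h ^ n' = 1 := by
        have := pow_card_eq_one' (G := H₀) (x := ⟨h, hh⟩)
        rw [hH₀] at this
        exact congrArg Subtype.val this
      refine ⟨?_, h1⟩
      rw [← QuotientGroup.eq_one_iff]
      have h2 : (h : G ⧸ M) ^ n' = 1 := by rw [← QuotientGroup.mk_pow, h1]; rfl
      have h3 : (h : G ⧸ M) ^ p = 1 := by rw [← hQcard]; exact pow_card_eq_one'
      have h4 : orderOf (h : G ⧸ M) = 1 :=
        Nat.eq_one_of_dvd_coprimes ((Nat.Prime.coprime_iff_not_dvd hp).mpr hpn')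
          (orderOf_dvd_of_pow_eq_one h3) (orderOf_dvd_of_pow_eq_one h2)
      exact orderOf_eq_one_iff.mp h4
    apply Nat.dvd_antisymm
    · have h1 : Nat.card A ∣ p ^ e * n' := hGc ▸ Subgroup.card_subgroup_dvd_card A
      have h2 : Nat.Coprime (Nat.card A) (p ^ e) :=
        Nat.Coprime.pow_right e (((Nat.Prime.coprime_iff_not_dvd hp).mpr hpA).symm)
      exact h2.dvd_of_dvd_mul_left h1
    · rw [← hH₀]; exact Subgroup.card_dvd_of_le hH₀A
  -- a Sylow `p`-subgroup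
  obtain ⟨P⟩ : Nonempty (Sylow p G) := inferInstance
  have hPcard : Nat.card P = p ^ e := by
    rw [Sylow.card_eq_multiplicity, hGc, Nat.factorization_mul (pow_ne_zero e hp.ne_zero) hn'0.ne',
      hp.factorization_pow]
    simp [Nat.factorization_eq_zero_of_not_dvd hpn']
  have hPA : (P : Subgroup G) ⊓ A = ⊥ :=
    (Subgroup.disjoint_of_coprime_natCard (by rw [hPcard, hAcard]; exact hcopn)).eq_bot
  have hPM : ¬ (P : Subgroup G) ≤ M := by
    intro hle
    have h1 : p ^ e ∣ Nat.card M := hPcard ▸ Subgroup.card_dvd_of_le hle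
    have h2 := Subgroup.card_mul_index M
    rw [← hpdef, hGc] at h2
    obtain ⟨c, hc⟩ := h1
    rw [hc, mul_assoc] at h2
    have h3 : c * p = n' := Nat.eq_of_mul_eq_mul_left (pow_pos hp.pos e) h2
    exact hpn' ⟨c, by rw [← h3, mul_comm]⟩
  obtain ⟨x, hxP, hxM⟩ := SetLike.not_le_iff_exists.mp hPM
  -- decomposition `G = ⟨x⟩ M`
  have hdecM : ∀ g : G, ∃ i : ℕ, (x ^ i)⁻¹ * g ∈ M := by
    intro g
    have hx1 : (x : G ⧸ M) ≠ 1 := fun h => hxM ((QuotientGroup.eq_one_iff x).mp h)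
    have htop := zpowers_eq_top_of_prime_card hQcard hx1
    have hg : (g : G ⧸ M) ∈ Subgroup.zpowers (x : G ⧸ M) := by rw [htop]; trivial
    obtain ⟨i, hi⟩ := (isOfFinOrder_of_finite (x : G ⧸ M)).mem_powers_iff_mem_zpowers.mpr hg
    refine ⟨i, ?_⟩
    apply QuotientGroup.eq.mp
    rw [QuotientGroup.mk_pow]
    exact hi
  have hxpow : x ^ (p ^ e) = 1 := by
    have := pow_card_eq_one' (G := (P : Subgroup G)) (x := ⟨x, hxP⟩)
    rw [hPcard] at this
    exact congrArg Subtype.val this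
  -- `x` does not centralize `A`
  have hnc : ¬ ∀ a ∈ A, x * a = a * x := by
    intro hcent
    apply hnn
    have hAcenter : A ≤ Subgroup.center G := by
      intro a ha
      rw [Subgroup.mem_center_iff]
      intro g
      obtain ⟨i, hi⟩ := hdecM g
      have h1 : g = x ^ i * ((x ^ i)⁻¹ * g) := by group
      have h2 : a * ((x ^ i)⁻¹ * g) = ((x ^ i)⁻¹ * g) * a := hMcomm a (hAM ha) _ hi
      have h3 : x ^ i * a = a * x ^ i := ((show Commute x a from hcent a ha).pow_left i).eq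
      rw [h1]
      calc x ^ i * ((x ^ i)⁻¹ * g) * a = x ^ i * (((x ^ i)⁻¹ * g) * a) := by group
        _ = x ^ i * (a * ((x ^ i)⁻¹ * g)) := by rw [h2]
        _ = (x ^ i * a) * ((x ^ i)⁻¹ * g) := by group
        _ = a * (x ^ i * ((x ^ i)⁻¹ * g)) := by rw [h3]; group
    have hQA : Nat.card (G ⧸ A) = p ^ e := by
      have h1 := Subgroup.card_eq_card_quotient_mul_card_subgroup A
      rw [hAcard, hGc] at h1
      exact (Nat.eq_of_mul_eq_mul_right hn'0 h1).symm
    haveI : Group.IsNilpotent (G ⧸ A) := (IsPGroup.of_card hQA).isNilpotent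
    exact Subgroup.isNilpotent_of_ker_le_center (QuotientGroup.mk' A)
      (by rw [QuotientGroup.ker_mk']; exact hAcenter)
  -- key coprime computation
  have hkey : ∀ a ∈ A, x * (a * x * a⁻¹ * x⁻¹) = (a * x * a⁻¹ * x⁻¹) * x →
      a * x * a⁻¹ * x⁻¹ = 1 := by
    intro a ha hcomm
    obtain ⟨d, hd⟩ : ∃ d, d = a * x * a⁻¹ * x⁻¹ := ⟨_, rfl⟩
    rw [← hd] at hcomm ⊢
    have hdA : d ∈ A := by
      have h1 : d = a * (x * a⁻¹ * x⁻¹) := by rw [hd]; group
      rw [h1]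
      exact A.mul_mem ha (hAn.conj_mem _ (A.inv_mem ha) x)
    have hxa : x * a = d⁻¹ * a * x := by
      rw [hd]
      group
    have hxd : Commute x d⁻¹ := (show Commute x d from hcomm).inv_right
    have hind : ∀ j : ℕ, x ^ j * a = (d⁻¹) ^ j * a * x ^ j := by
      intro j
      induction j with
      | zero => simp
      | succ j ih =>
        calc x ^ (j + 1) * a = x * (x ^ j * a) := by rw [pow_succ']; group
          _ = x * ((d⁻¹) ^ j * a * x ^ j) := by rw [ih]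
          _ = (x * (d⁻¹) ^ j) * a * x ^ j := by group
          _ = ((d⁻¹) ^ j * x) * a * x ^ j := by rw [(hxd.pow_right j).eq]
          _ = (d⁻¹) ^ j * (x * a) * x ^ j := by group
          _ = (d⁻¹) ^ j * (d⁻¹ * a * x) * x ^ j := by rw [hxa]
          _ = (d⁻¹) ^ (j + 1) * a * x ^ (j + 1) := by rw [pow_succ, pow_succ]; group
    have h1 := hind (p ^ e)
    rw [hxpow, one_mul, mul_one] at h1
    have h2 : d ^ (p ^ e) = 1 := by
      have : (d⁻¹) ^ (p ^ e) = 1 := by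
        have h3 : (d⁻¹) ^ (p ^ e) * a = 1 * a := by rw [one_mul]; exact h1.symm
        exact mul_right_cancel h3
      rwa [inv_pow, inv_eq_one] at this
    have h3 : d ^ n' = 1 := hdA.2
    have h4 : orderOf d = 1 :=
      Nat.eq_one_of_dvd_coprimes hcopn (orderOf_dvd_of_pow_eq_one h2) (orderOf_dvd_of_pow_eq_one h3)
    exact orderOf_eq_one_iff.mp h4
  obtain ⟨a₀, ha₀, hxa₀⟩ : ∃ a₀ ∈ A, x * a₀ ≠ a₀ * x := by
    by_contra hcon
    push Not at hcon
    exact hnc hcon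
  -- `P` is generated by `x`
  have hPx : Subgroup.zpowers x = (P : Subgroup G) := by
    have hxle : Subgroup.zpowers x ≤ (P : Subgroup G) := (Subgroup.zpowers_le).mpr hxP
    by_contra hne
    have hHnc : ¬ IsMulCommutative (Subgroup.zpowers x ⊔ A : Subgroup G) := by
      intro hc
      exact hxa₀ (setLike_mul_comm (s := (Subgroup.zpowers x ⊔ A : Subgroup G))
        (Subgroup.mem_sup_left (Subgroup.mem_zpowers x)) (Subgroup.mem_sup_right ha₀))
    have hHsn := hsn _ hHnc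
    haveI : Group.IsNilpotent (P : Subgroup G) := P.isPGroup'.isNilpotent
    have hlt : (Subgroup.zpowers x).subgroupOf (P : Subgroup G) < ⊤ := by
      rw [lt_top_iff_ne_top]
      intro htop
      rw [Subgroup.subgroupOf_eq_top] at htop
      exact hne (le_antisymm hxle htop)
    have hnc' := Group.normalizerCondition_of_isNilpotent (G := (P : Subgroup G)) _ hlt
    obtain ⟨y, hyN, hyX⟩ := SetLike.exists_of_lt hnc'
    have hyconj : ∀ z ∈ Subgroup.zpowers x, (y : G) * z * (y : G)⁻¹ ∈ Subgroup.zpowers x := by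
      intro z hz
      have h1 := (Subgroup.mem_normalizer_iff.mp hyN ⟨z, hxle hz⟩).mp
        (Subgroup.mem_subgroupOf.mpr hz)
      exact Subgroup.mem_subgroupOf.mp h1
    have hyH : (y : G) ∈ Subgroup.normalizer ((Subgroup.zpowers x ⊔ A : Subgroup G) : Set G) := by
      apply mem_normalizer_of_conj_mem
      intro h hh
      rw [← SetLike.mem_coe, Subgroup.mul_normal] at hh ⊢
      obtain ⟨z, hz, a, ha, rfl⟩ := Set.mem_mul.mp hh
      have h1 : (y : G) * (z * a) * (y : G)⁻¹ = ((y : G) * z * (y : G)⁻¹) * ((y : G) * a * (y : G)⁻¹) := by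
        group
      rw [h1]
      exact Set.mul_mem_mul (hyconj z hz) (hAn.conj_mem a ha _)
    rw [hHsn, ← SetLike.mem_coe, Subgroup.mul_normal] at hyH
    obtain ⟨z, hz, a, ha, hza⟩ := Set.mem_mul.mp hyH
    have haP : a ∈ (P : Subgroup G) := by
      have h1 : a = z⁻¹ * (y : G) := by rw [← hza]; group
      rw [h1]
      exact Subgroup.mul_mem _ (Subgroup.inv_mem _ (hxle hz)) y.2
    have ha1 : a = 1 := by
      have : a ∈ (P : Subgroup G) ⊓ A := Subgroup.mem_inf.mpr ⟨haP, ha⟩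
      rwa [hPA, Subgroup.mem_bot] at this
    rw [ha1, mul_one] at hza
    apply hyX
    rw [Subgroup.mem_subgroupOf, ← hza]
    exact hz
  have hordx : orderOf x = p ^ e := by
    rw [← Nat.card_zpowers, hPx, hPcard]
  -- `x ^ p` is central
  have hxpc : x ^ p ∈ Subgroup.center G := by
    rw [Subgroup.mem_center_iff]
    intro g
    obtain ⟨i, hi⟩ := hdecM g
    have h1 : g = x ^ i * ((x ^ i)⁻¹ * g) := by group
    have h2 : x ^ p * ((x ^ i)⁻¹ * g) = ((x ^ i)⁻¹ * g) * x ^ p := hMcomm _ (hpowM x) _ hi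
    have h3 : x ^ i * x ^ p = x ^ p * x ^ i := ((Commute.refl x).pow_pow i p).eq
    rw [h1]
    calc x ^ i * ((x ^ i)⁻¹ * g) * x ^ p = x ^ i * (((x ^ i)⁻¹ * g) * x ^ p) := by group
      _ = x ^ i * (x ^ p * ((x ^ i)⁻¹ * g)) := by rw [h2]
      _ = (x ^ i * x ^ p) * ((x ^ i)⁻¹ * g) := by group
      _ = x ^ p * (x ^ i * ((x ^ i)⁻¹ * g)) := by rw [h3]; group
  refine ⟨x, A, p, hp, hAn, hAc, ⟨e, hordx⟩, hpA, ?_, hxpc, ?_⟩
  · apply Subgroup.isComplement'_of_coprime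
    · rw [hPx, hPcard, hAcard, hGc]
    · rw [hPx, hPcard, hAcard]; exact hcopn
  · -- fixed-point-freeness
    intro a₁ ha₁ hne hfix
    -- the commutator map
    let φ : A →* G := MonoidHom.mk' (fun a : A => (a : G) * x * (a : G)⁻¹ * x⁻¹) (by
      intro a b
      have h1 := hAcomm _ b.2 _ (hAn.conj_mem _ (A.inv_mem a.2) x)
      show (a : G) * b * x * ((a : G) * b)⁻¹ * x⁻¹ =
        ((a : G) * x * (a : G)⁻¹ * x⁻¹) * ((b : G) * x * (b : G)⁻¹ * x⁻¹)
      calc (a : G) * b * x * ((a : G) * b)⁻¹ * x⁻¹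
          = (a : G) * b * x * ((a : G)⁻¹ * (b : G)⁻¹) * x⁻¹ := by
            rw [mul_inv_rev, hAcomm _ (A.inv_mem b.2) _ (A.inv_mem a.2)]
        _ = (a : G) * ((b : G) * (x * (a : G)⁻¹ * x⁻¹)) * (x * (b : G)⁻¹ * x⁻¹) := by group
        _ = (a : G) * ((x * (a : G)⁻¹ * x⁻¹) * (b : G)) * (x * (b : G)⁻¹ * x⁻¹) := by rw [h1]
        _ = ((a : G) * x * (a : G)⁻¹ * x⁻¹) * ((b : G) * x * (b : G)⁻¹ * x⁻¹) := by group)
    have hφ : ∀ a : A, φ a = (a : G) * x * (a : G)⁻¹ * x⁻¹ := fun a => rfl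
    have hDA : φ.range ≤ A := by
      rintro _ ⟨a, rfl⟩
      rw [hφ]
      have h1 : (a : G) * x * (a : G)⁻¹ * x⁻¹ = (a : G) * (x * (a : G)⁻¹ * x⁻¹) := by group
      rw [h1]
      exact A.mul_mem a.2 (hAn.conj_mem _ (A.inv_mem a.2) x)
    -- `D` is normal
    have hxD : x ∈ Subgroup.normalizer (φ.range : Set G) := by
      apply mem_normalizer_of_conj_mem
      rintro _ ⟨a, rfl⟩
      refine ⟨⟨x * a * x⁻¹, hAn.conj_mem _ a.2 x⟩, ?_⟩
      rw [hφ, hφ]
      group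
    have hMD : M ≤ Subgroup.normalizer (φ.range : Set G) := by
      intro m hm
      apply mem_normalizer_of_conj_mem
      intro d hd
      have h1 := hMcomm m hm d (hAM (hDA hd))
      rw [h1, mul_inv_cancel_right]
      exact hd
    haveI hDn : (φ.range).Normal := by
      rw [← Subgroup.normalizer_eq_top_iff, eq_top_iff,
        ← HallCount.sup_eq_top_of_prime_index' (M := M) (K := Subgroup.zpowers x) hMp
          (fun h => hxM (h (Subgroup.mem_zpowers x)))]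
      exact sup_le hMD ((Subgroup.zpowers_le).mpr hxD)
    -- `⟨x⟩ D` is non-abelian
    have hH₂nc : ¬ IsMulCommutative (Subgroup.zpowers x ⊔ φ.range : Subgroup G) := by
      intro hc
      apply hnc
      intro a ha
      have h1 : x * φ ⟨a, ha⟩ = φ ⟨a, ha⟩ * x :=
        setLike_mul_comm (s := (Subgroup.zpowers x ⊔ φ.range : Subgroup G))
          (Subgroup.mem_sup_left (Subgroup.mem_zpowers x)) (Subgroup.mem_sup_right ⟨_, rfl⟩)
      have h2 := hkey a ha h1
      have h3 : a * x = x * a := by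
        have : a * x * a⁻¹ * x⁻¹ * (x * a) = x * a := by rw [h2, one_mul]
        rw [← this]; group
      exact h3.symm
    have hH₂sn := hsn _ hH₂nc
    have hxa₁ : x * a₁ = a₁ * x := by
      have : x * a₁ * x⁻¹ * x = a₁ * x := by rw [hfix]
      rw [← this]; group
    have ha₁N : a₁ ∈ Subgroup.normalizer ((Subgroup.zpowers x ⊔ φ.range : Subgroup G) : Set G) := by
      apply mem_normalizer_of_conj_mem
      intro h hh
      have hle : Subgroup.zpowers x ⊔ φ.range ≤ Subgroup.centralizer ({a₁} : Set G) := by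
        apply sup_le
        · rw [Subgroup.zpowers_le, Subgroup.mem_centralizer_iff]
          intro c hc
          rw [Set.mem_singleton_iff] at hc
          rw [hc]; exact hxa₁.symm
        · intro d hd
          rw [Subgroup.mem_centralizer_iff]
          intro c hc
          rw [Set.mem_singleton_iff] at hc
          rw [hc]; exact hAcomm a₁ ha₁ d (hDA hd)
      have h1 := Subgroup.mem_centralizer_iff.mp (hle hh) a₁ (Set.mem_singleton a₁)
      rw [h1, mul_inv_cancel_right]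
      exact hh
    rw [hH₂sn, ← SetLike.mem_coe, Subgroup.mul_normal] at ha₁N
    obtain ⟨z, hz, d, hd, hzd⟩ := Set.mem_mul.mp ha₁N
    have hzA : z ∈ A := by
      have h1 : z = a₁ * d⁻¹ := by rw [← hzd]; group
      rw [h1]
      exact A.mul_mem ha₁ (A.inv_mem (hDA hd))
    have hz1 : z = 1 := by
      have : z ∈ (P : Subgroup G) ⊓ A := Subgroup.mem_inf.mpr ⟨hPx ▸ hz, hzA⟩
      rwa [hPA, Subgroup.mem_bot] at this
    rw [hz1, one_mul] at hzd
    obtain ⟨a, rfl⟩ := hd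
    rw [hφ] at hzd
    have h1 := hkey a a.2 (by rw [hzd]; exact hxa₁)
    exact hne (hzd ▸ h1)

end Cfsg.Agent.H1.SelfNorm
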