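import Mathlib
import Cfsg.Agent.H17.TgDefs

/-! S1904, piece TG-C2 (helper17's team proof): if `Ω_i(B)` is central, an element commuting with
one element of `Ω_{i+1}(B) ∖ Ω_i(B)` centralizes `Ω_{i+1}(B)`. -/

set_option autoImplicit false

universe u

namespace Cfsg.Agent.H1.Tg

open Cfsg Cfsg.Agent.H17.Tg

open scoped commutatorElement

/-- four distinct elements exhaust a 4-element type -/
theorem c2_four_cover {α : Type*} [Finite α] (h : Nat.card α = 4) (a b c d : α)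
    (hab : a ≠ b) (hac : a ≠ c) (had : a ≠ d) (hbc : b ≠ c) (hbd : b ≠ d) (hcd : c ≠ d)
    (e : α) : e = a ∨ e = b ∨ e = c ∨ e = d := by
  classical
  haveI := Fintype.ofFinite α
  have hc : ({a, b, c, d} : Finset α).card = 4 := by
    rw [Finset.card_insert_of_notMem, Finset.card_insert_of_notMem,
      Finset.card_insert_of_notMem, Finset.card_singleton]
    · simpa using hcd
    · simp [hbc, hbd]
    · simp [hab, hac, had]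
  have hu : ({a, b, c, d} : Finset α) = Finset.univ := by
    apply Finset.eq_univ_of_card
    rw [hc, ← Nat.card_eq_fintype_card, h]
  have := Finset.mem_univ e
  rw [← hu] at this
  simpa using this

theorem c2_beta_eq_one_iff {X : Type*} [Group X] (b z : X) :
    b * z * b⁻¹ * z⁻¹ = 1 ↔ b * z = z * b := by
  constructor
  · intro h
    calc b * z = (b * z * b⁻¹ * z⁻¹) * (z * b) := by group
      _ = z * b := by rw [h, one_mul]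
  · intro h
    rw [h]; group

/-- the hom `z ↦ [b, z]` into the centre, when all `[b, z]` are central -/
def c2Hom {X : Type*} [Group X] (b : X)
    (hb : ∀ z : X, b * z * b⁻¹ * z⁻¹ ∈ Subgroup.center X) : X →* Subgroup.center X :=
  MonoidHom.mk' (fun z => ⟨b * z * b⁻¹ * z⁻¹, hb z⟩) (by
    intro z w
    apply Subtype.ext
    have hc := Subgroup.mem_center_iff.mp (hb w) z⁻¹
    show b * (z * w) * b⁻¹ * (z * w)⁻¹ = (b * z * b⁻¹ * z⁻¹) * (b * w * b⁻¹ * w⁻¹)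
    calc b * (z * w) * b⁻¹ * (z * w)⁻¹
        = b * z * b⁻¹ * ((b * w * b⁻¹ * w⁻¹) * z⁻¹) := by group
      _ = b * z * b⁻¹ * (z⁻¹ * (b * w * b⁻¹ * w⁻¹)) := by rw [hc]
      _ = (b * z * b⁻¹ * z⁻¹) * (b * w * b⁻¹ * w⁻¹) := by group)

theorem c2 (hVB : StVB.{u}) (hFix : StFix.{u}) : StC2.{u} := by
  intro X _ _ A hyp B hB hnc i hi x b1 hb1 hb1p hb1n hxb1
  obtain ⟨hV1, hV4, hV3, hVmove, -, -⟩ := hVB X A hyp B hB hnc
  obtain ⟨hBn, hBA, hBc⟩ := hB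
  have hcen : ∀ z ∈ Subgroup.center X, ∀ g : X, g * z = z * g :=
    fun z hz g => Subgroup.mem_center_iff.mp hz g
  have hVpow : ∀ b ∈ B, b ^ 2 ^ (i + 1) = 1 → b ^ 2 ^ i ∈ B ∧ (b ^ 2 ^ i) ^ 2 = 1 := by
    intro b hb hbp
    refine ⟨B.pow_mem hb _, ?_⟩
    rw [← pow_mul, ← pow_succ]; exact hbp
  have hVA : ∀ ψ ∈ A, ∀ v ∈ B, v ^ 2 = 1 → ψ v ∈ B ∧ (ψ v) ^ 2 = 1 := by
    intro ψ hψ v hv hvs
    exact ⟨hBA ψ hψ v hv, by rw [← map_pow, hvs, map_one]⟩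
  have hΩA : ∀ ψ ∈ A, ∀ b ∈ B, b ^ 2 ^ (i + 1) = 1 →
      ψ b ∈ B ∧ (ψ b) ^ 2 ^ (i + 1) = 1 := by
    intro ψ hψ b hb hbp
    exact ⟨hBA ψ hψ b hb, by rw [← map_pow, hbp, map_one]⟩
  -- `[b, z] ∈ V_B`
  have hF1 : ∀ b ∈ B, b ^ 2 ^ (i + 1) = 1 → ∀ z : X,
      b * z * b⁻¹ * z⁻¹ ∈ B ∧ (b * z * b⁻¹ * z⁻¹) ^ 2 = 1 := by
    intro b hb hbp z
    have hconj : z * b⁻¹ * z⁻¹ ∈ B := hBn.conj_mem b⁻¹ (B.inv_mem hb) z
    have hb2 : ∀ g : X, g * b ^ 2 = b ^ 2 * g := by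
      apply hcen
      apply hi _ (B.pow_mem hb 2)
      rw [← pow_mul, ← pow_succ']; exact hbp
    have e : b * z * b⁻¹ * z⁻¹ = b * (z * b⁻¹ * z⁻¹) := by group
    refine ⟨by rw [e]; exact B.mul_mem hb hconj, ?_⟩
    calc (b * z * b⁻¹ * z⁻¹) ^ 2 = (b * (z * b⁻¹ * z⁻¹)) ^ 2 := by rw [e]
      _ = b ^ 2 * (z * b⁻¹ * z⁻¹) ^ 2 :=
          (show Commute b (z * b⁻¹ * z⁻¹) from hBc b hb _ hconj).mul_pow 2
      _ = b ^ 2 * (z * (b ^ 2)⁻¹ * z⁻¹) := by rw [conj_pow, inv_pow]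
      _ = (b ^ 2 * z) * (b ^ 2)⁻¹ * z⁻¹ := by group
      _ = (z * b ^ 2) * (b ^ 2)⁻¹ * z⁻¹ := by rw [hb2 z]
      _ = 1 := by group
  have hF1c : ∀ b ∈ B, b ^ 2 ^ (i + 1) = 1 → ∀ z : X,
      b * z * b⁻¹ * z⁻¹ ∈ Subgroup.center X :=
    fun b hb hbp z => hV1 _ (hF1 b hb hbp z).1 (hF1 b hb hbp z).2
  -- (S): automorphisms trivial on `V_B` do not change `[b, ·]`
  have hS : ∀ θ ∈ A, (∀ v ∈ B, v ^ 2 = 1 → θ v = v) → ∀ b ∈ B, b ^ 2 ^ (i + 1) = 1 →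
      ∀ z : X, b * θ z * b⁻¹ * (θ z)⁻¹ = b * z * b⁻¹ * z⁻¹ := by
    intro θ hθ htriv b hb hbp z
    obtain ⟨hc, hcp⟩ := hΩA θ⁻¹ (A.inv_mem hθ) b hb hbp
    obtain ⟨hvB, hvs⟩ := hVpow b hb hbp
    have hfixv : θ⁻¹ (b ^ 2 ^ i) = b ^ 2 ^ i := by
      have h := htriv _ hvB hvs
      calc θ⁻¹ (b ^ 2 ^ i) = θ⁻¹ (θ (b ^ 2 ^ i)) := by rw [h]
        _ = b ^ 2 ^ i := by simp
    obtain ⟨ω, hωdef⟩ : ∃ ω, ω = b⁻¹ * θ⁻¹ b := ⟨_, rfl⟩
    have hωB : ω ∈ B := by rw [hωdef]; exact B.mul_mem (B.inv_mem hb) hc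
    have hωp : ω ^ 2 ^ i = 1 := by
      rw [hωdef, (show Commute b⁻¹ (θ⁻¹ b) from hBc _ (B.inv_mem hb) _ hc).mul_pow, ← map_pow,
        hfixv, inv_pow, inv_mul_cancel]
    have hωc := hcen _ (hi ω hωB hωp)
    have hcω : θ⁻¹ b = b * ω := by rw [hωdef]; group
    have h1 : θ⁻¹ b * z * (θ⁻¹ b)⁻¹ * z⁻¹ = b * z * b⁻¹ * z⁻¹ := by
      rw [hcω]
      calc b * ω * z * (b * ω)⁻¹ * z⁻¹ = b * (ω * z) * ω⁻¹ * b⁻¹ * z⁻¹ := by group
        _ = b * (z * ω) * ω⁻¹ * b⁻¹ * z⁻¹ := by rw [hωc z]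
        _ = b * z * b⁻¹ * z⁻¹ := by group
    have h2 : θ (θ⁻¹ b * z * (θ⁻¹ b)⁻¹ * z⁻¹) = b * θ z * b⁻¹ * (θ z)⁻¹ := by
      simp [map_mul, map_inv]
    have h3 : θ (θ⁻¹ b * z * (θ⁻¹ b)⁻¹ * z⁻¹) = θ⁻¹ b * z * (θ⁻¹ b)⁻¹ * z⁻¹ :=
      htriv _ (hF1 _ hc hcp z).1 (hF1 _ hc hcp z).2
    rw [← h2, h3, h1]
  -- the centralizer of `Ω_{i+1}(B)`
  obtain ⟨C, hCdef⟩ : ∃ C : Subgroup X,
      C = Subgroup.centralizer {b : X | b ∈ B ∧ b ^ 2 ^ (i + 1) = 1} := ⟨_, rfl⟩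
  have hCmem : ∀ c : X, c ∈ C ↔ ∀ b ∈ B, b ^ 2 ^ (i + 1) = 1 → b * c = c * b := by
    intro c
    rw [hCdef, Subgroup.mem_centralizer_iff]
    constructor
    · intro h b hb hbp; exact h b ⟨hb, hbp⟩
    · rintro h b ⟨hb, hbp⟩; exact h b hb hbp
  have hCn : C.Normal := by
    constructor
    intro c hc g
    rw [hCmem] at hc ⊢
    intro b hb hbp
    have hb' : g⁻¹ * b * g ∈ B := by simpa using hBn.conj_mem b hb g⁻¹
    have hbp' : (g⁻¹ * b * g) ^ 2 ^ (i + 1) = 1 := by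
      have e : g⁻¹ * b * g = g⁻¹ * b * g⁻¹⁻¹ := by rw [inv_inv]
      rw [e, conj_pow, hbp, mul_one, mul_inv_cancel]
    have h := hc _ hb' hbp'
    calc b * (g * c * g⁻¹) = g * (g⁻¹ * b * g * c) * g⁻¹ := by group
      _ = g * (c * (g⁻¹ * b * g)) * g⁻¹ := by rw [h]
      _ = g * c * g⁻¹ * b := by group
  have hCcomm : commutator X ≤ C := by
    rw [commutator_def, Subgroup.commutator_le]
    intro g _ h _
    rw [hCmem]
    intro b hb hbp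
    have h1 : c2Hom b (hF1c b hb hbp) ⁅g, h⁆ = 1 := by
      rw [map_commutatorElement]
      exact commutatorElement_eq_one_iff_mul_comm.mpr
        (Subtype.ext (Subgroup.mem_center_iff.mp (c2Hom b (hF1c b hb hbp) h).2 _))
    exact (c2_beta_eq_one_iff b _).mp (congrArg Subtype.val h1)
  have hCA : ∀ ψ ∈ A, ∀ c ∈ C, ψ c ∈ C := by
    intro ψ hψ c hc
    rw [hCmem] at hc ⊢
    intro b hb hbp
    obtain ⟨hb', hbp'⟩ := hΩA ψ⁻¹ (A.inv_mem hψ) b hb hbp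
    have h := congrArg ψ (hc _ hb' hbp')
    simpa [map_mul] using h
  haveI := hCn
  have hK1 : ∀ θ ∈ A, (∀ v ∈ B, v ^ 2 = 1 → θ v = v) → ∀ z : X,
      (QuotientGroup.mk (θ z) : X ⧸ C) = QuotientGroup.mk z := by
    intro θ hθ htriv z
    rw [QuotientGroup.eq, hCmem]
    intro b hb hbp
    have h1 : c2Hom b (hF1c b hb hbp) ((θ z)⁻¹ * z) = 1 := by
      have h0 : c2Hom b (hF1c b hb hbp) (θ z) = c2Hom b (hF1c b hb hbp) z :=
        Subtype.ext (hS θ hθ htriv b hb hbp z)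
      rw [map_mul, map_inv, h0, inv_mul_cancel]
    exact (c2_beta_eq_one_iff b _).mp (congrArg Subtype.val h1)
  have hK2 : ∀ ψ ∈ A, ∀ z z' : X, (QuotientGroup.mk z : X ⧸ C) = QuotientGroup.mk z' →
      (QuotientGroup.mk (ψ z) : X ⧸ C) = QuotientGroup.mk (ψ z') := by
    intro ψ hψ z z' h
    rw [QuotientGroup.eq] at h ⊢
    have h' := hCA ψ hψ _ h
    simpa [map_mul, map_inv] using h'
  have hK3 : ∀ g h : X, (QuotientGroup.mk g : X ⧸ C) * QuotientGroup.mk h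
      = QuotientGroup.mk h * QuotientGroup.mk g := by
    intro g h
    rw [← QuotientGroup.mk_mul, ← QuotientGroup.mk_mul, QuotientGroup.eq]
    have e : (g * h)⁻¹ * (h * g) = ⁅h⁻¹, g⁻¹⁆ := by
      simp [commutatorElement_def, mul_assoc]
    rw [e]
    apply hCcomm
    rw [commutator_def]
    exact Subgroup.commutator_mem_commutator (Subgroup.mem_top _) (Subgroup.mem_top _)
  -- the four-group `V_B = {1, v1, v2, v3}`
  obtain ⟨v1, hv1def⟩ : ∃ v, v = b1 ^ 2 ^ i := ⟨_, rfl⟩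
  obtain ⟨hv1B, hv1s⟩ : v1 ∈ B ∧ v1 ^ 2 = 1 := by rw [hv1def]; exact hVpow b1 hb1 hb1p
  have hv1 : v1 ≠ 1 := by rw [hv1def]; exact hb1n
  obtain ⟨φ, hφ, hφv⟩ := hVmove v1 hv1B hv1s hv1
  have hfpf : ∀ v ∈ B, v ^ 2 = 1 → v ≠ 1 → φ v ≠ v :=
    (hV3 φ hφ).resolve_left (fun h => hφv (h v1 hv1B hv1s))
  have htriv_of_fix : ∀ θ ∈ A, θ v1 = v1 → ∀ v ∈ B, v ^ 2 = 1 → θ v = v :=
    fun θ hθ h => (hV3 θ hθ).resolve_right (fun h' => h' v1 hv1B hv1s hv1 h)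
  have hne1 : ∀ (ψ : MulAut X) (v : X), v ≠ 1 → ψ v ≠ 1 := by
    intro ψ v hv h
    exact hv (by simpa using h)
  obtain ⟨v2, hv2def⟩ : ∃ v, v = φ v1 := ⟨_, rfl⟩
  obtain ⟨v3, hv3def⟩ : ∃ v, v = φ v2 := ⟨_, rfl⟩
  obtain ⟨hv2B, hv2s⟩ : v2 ∈ B ∧ v2 ^ 2 = 1 := by rw [hv2def]; exact hVA φ hφ v1 hv1B hv1s
  obtain ⟨hv3B, hv3s⟩ : v3 ∈ B ∧ v3 ^ 2 = 1 := by rw [hv3def]; exact hVA φ hφ v2 hv2B hv2s
  have hv2 : v2 ≠ 1 := by rw [hv2def]; exact hne1 φ v1 hv1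
  have hv3 : v3 ≠ 1 := by rw [hv3def]; exact hne1 φ v2 hv2
  have h21 : v2 ≠ v1 := by rw [hv2def]; exact hφv
  have h32 : v3 ≠ v2 := by rw [hv3def]; exact hfpf v2 hv2B hv2s hv2
  have hinv1 : v1⁻¹ = v1 := inv_eq_of_mul_eq_one_right (by rw [← pow_two]; exact hv1s)
  have h12ne : v1 * v2 ≠ 1 := by
    intro h
    apply h21
    rw [← hinv1]; exact (inv_eq_of_mul_eq_one_right h).symm
  have hs12 : (v1 * v2) ^ 2 = 1 := by
    rw [(show Commute v1 v2 from hBc v1 hv1B v2 hv2B).mul_pow, hv1s, hv2s, one_mul]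
  have h31 : v3 ≠ v1 := by
    intro h
    have hw : φ (v1 * v2) = v1 * v2 := by
      rw [map_mul, ← hv2def, ← hv3def, h]; exact hBc v2 hv2B v1 hv1B
    exact hfpf _ (B.mul_mem hv1B hv2B) hs12 h12ne hw
  have hcover : ∀ v ∈ B, v ^ 2 = 1 → v = 1 ∨ v = v1 ∨ v = v2 ∨ v = v3 := by
    intro v hv hvs
    have h := c2_four_cover hV4 ⟨1, B.one_mem, one_pow 2⟩ ⟨v1, hv1B, hv1s⟩ ⟨v2, hv2B, hv2s⟩
      ⟨v3, hv3B, hv3s⟩
      (fun h => hv1 (congrArg Subtype.val h).symm) (fun h => hv2 (congrArg Subtype.val h).symm)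
      (fun h => hv3 (congrArg Subtype.val h).symm) (fun h => h21 (congrArg Subtype.val h).symm)
      (fun h => h31 (congrArg Subtype.val h).symm) (fun h => h32 (congrArg Subtype.val h).symm)
      ⟨v, hv, hvs⟩
    simpa [Subtype.ext_iff] using h
  have hφ3 : φ v3 = v1 := by
    obtain ⟨h3B, h3s⟩ := hVA φ hφ v3 hv3B hv3s
    rcases hcover _ h3B h3s with h | h | h | h
    · exact absurd h (hne1 φ v3 hv3)
    · exact h
    · exfalso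
      rw [hv2def] at h
      exact h31 (φ.injective h)
    · exact absurd h (hfpf v3 hv3B hv3s hv3)
  have h123 : v1 * v2 * v3 = 1 := by
    rcases hcover _ (B.mul_mem hv1B hv2B) hs12 with h | h | h | h
    · exact absurd h h12ne
    · exact absurd (by simpa using h) hv2
    · exact absurd (by simpa using h) hv1
    · rw [h, ← pow_two]; exact hv3s
  -- `ρ = φ⁻¹` and `y = x * ρ x * ρ² x`
  obtain ⟨ρ, hρdef⟩ : ∃ ρ : MulAut X, ρ = φ⁻¹ := ⟨_, rfl⟩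
  have hρ : ρ ∈ A := by rw [hρdef]; exact A.inv_mem hφ
  have hρφ : ∀ z : X, ρ (φ z) = z := by intro z; rw [hρdef]; simp
  have hφρ : ∀ z : X, φ (ρ z) = z := by intro z; rw [hρdef]; simp
  have hρ2 : ρ v2 = v1 := by rw [hv2def]; exact hρφ v1
  have hρ3 : ρ v3 = v2 := by rw [hv3def]; exact hρφ v2
  have hρ1 : ρ v1 = v3 := by rw [← hφ3]; exact hρφ v3
  obtain ⟨y, hydef⟩ : ∃ y : X, y = x * ρ x * ρ (ρ x) := ⟨_, rfl⟩
  have hρy : (QuotientGroup.mk (ρ y) : X ⧸ C) = QuotientGroup.mk y := by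
    have hθ : ρ * ρ * ρ ∈ A := A.mul_mem (A.mul_mem hρ hρ) hρ
    have h3 : (QuotientGroup.mk (ρ (ρ (ρ x))) : X ⧸ C) = QuotientGroup.mk x :=
      hK1 (ρ * ρ * ρ) hθ
        (htriv_of_fix _ hθ (by rw [MulAut.mul_apply, MulAut.mul_apply, hρ1, hρ3, hρ2])) x
    rw [hydef]
    calc (QuotientGroup.mk (ρ (x * ρ x * ρ (ρ x))) : X ⧸ C)
        = QuotientGroup.mk (ρ x * ρ (ρ x)) * QuotientGroup.mk (ρ (ρ (ρ x))) := by
          rw [map_mul, map_mul, QuotientGroup.mk_mul]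
      _ = QuotientGroup.mk (ρ x * ρ (ρ x)) * QuotientGroup.mk x := by rw [h3]
      _ = QuotientGroup.mk x * QuotientGroup.mk (ρ x * ρ (ρ x)) := hK3 _ _
      _ = QuotientGroup.mk (x * ρ x * ρ (ρ x)) := by rw [← QuotientGroup.mk_mul, mul_assoc]
  have hρρy : (QuotientGroup.mk (ρ (ρ y)) : X ⧸ C) = QuotientGroup.mk y :=
    (hK2 ρ hρ _ _ hρy).trans hρy
  have hψy : ∀ ψ ∈ A, (QuotientGroup.mk (ψ y) : X ⧸ C) = QuotientGroup.mk y := by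
    intro ψ hψ
    obtain ⟨hwB, hws⟩ := hVA ψ hψ v1 hv1B hv1s
    rcases hcover _ hwB hws with h | h | h | h
    · exact absurd h (hne1 ψ v1 hv1)
    · exact hK1 ψ hψ (htriv_of_fix ψ hψ h) y
    · have hθ : φ * φ * ψ ∈ A := A.mul_mem (A.mul_mem hφ hφ) hψ
      have h1 : (QuotientGroup.mk (φ (φ (ψ y))) : X ⧸ C) = QuotientGroup.mk y :=
        hK1 (φ * φ * ψ) hθ (htriv_of_fix _ hθ
          (by rw [MulAut.mul_apply, MulAut.mul_apply, h, ← hv3def, hφ3])) y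
      have h2 := hK2 ρ hρ _ _ (hK2 ρ hρ _ _ h1)
      rw [hρφ, hρφ] at h2
      exact h2.trans hρρy
    · have hθ : φ * ψ ∈ A := A.mul_mem hφ hψ
      have h1 : (QuotientGroup.mk (φ (ψ y)) : X ⧸ C) = QuotientGroup.mk y :=
        hK1 (φ * ψ) hθ (htriv_of_fix _ hθ (by rw [MulAut.mul_apply, h, hφ3])) y
      have h2 := hK2 ρ hρ _ _ h1
      rw [hρφ] at h2
      exact h2.trans hρy
  have hy : y ∈ C := hFix X A hyp C hCn hCcomm y
    (fun ψ hψ => QuotientGroup.eq.mp (hψy ψ hψ).symm)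
  have hyb1 : b1 * y = y * b1 := (hCmem y).mp hy b1 hb1 hb1p
  -- the three cosets
  obtain ⟨b2, hb2def⟩ : ∃ b, b = φ b1 := ⟨_, rfl⟩
  obtain ⟨b3, hb3def⟩ : ∃ b, b = φ b2 := ⟨_, rfl⟩
  obtain ⟨hb2, hb2p⟩ : b2 ∈ B ∧ b2 ^ 2 ^ (i + 1) = 1 := by
    rw [hb2def]; exact hΩA φ hφ b1 hb1 hb1p
  obtain ⟨hb3, hb3p⟩ : b3 ∈ B ∧ b3 ^ 2 ^ (i + 1) = 1 := by
    rw [hb3def]; exact hΩA φ hφ b2 hb2 hb2p
  have hb2v : b2 ^ 2 ^ i = v2 := by rw [hb2def, ← map_pow, ← hv1def, hv2def]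
  have hb3v : b3 ^ 2 ^ i = v3 := by rw [hb3def, ← map_pow, hb2v, hv3def]
  have e1 : (b1 * ρ x * b1⁻¹ * (ρ x)⁻¹) * (b1 * ρ (ρ x) * b1⁻¹ * (ρ (ρ x))⁻¹) = 1 := by
    have hy1 : c2Hom b1 (hF1c b1 hb1 hb1p) y = 1 :=
      Subtype.ext ((c2_beta_eq_one_iff b1 y).mpr hyb1)
    have hx1 : c2Hom b1 (hF1c b1 hb1 hb1p) x = 1 :=
      Subtype.ext ((c2_beta_eq_one_iff b1 x).mpr hxb1.symm)
    rw [hydef, map_mul, map_mul, hx1, one_mul] at hy1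
    exact congrArg Subtype.val hy1
  have e2 : (b3 * φ x * b3⁻¹ * (φ x)⁻¹) * (b3 * x * b3⁻¹ * x⁻¹) = 1 := by
    have h := congrArg (fun t => φ (φ t)) e1
    simp only [map_mul, map_inv, map_one, hφρ] at h
    rw [hb3def, hb2def]; exact h
  have e3 : (b2 * x * b2⁻¹ * x⁻¹) * (b3 * x * b3⁻¹ * x⁻¹) = 1 := by
    have hζB : b1 * (b2 * b3) ∈ B := B.mul_mem hb1 (B.mul_mem hb2 hb3)
    have hζp : (b1 * (b2 * b3)) ^ 2 ^ i = 1 := by
      rw [(show Commute b1 (b2 * b3) from hBc _ hb1 _ (B.mul_mem hb2 hb3)).mul_pow,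
        (show Commute b2 b3 from hBc _ hb2 _ hb3).mul_pow, hb2v, hb3v, ← hv1def, ← mul_assoc]
      exact h123
    have hζ := hcen _ (hi _ hζB hζp) x
    have h23 : (b2 * b3) * x = x * (b2 * b3) := by
      apply mul_left_cancel (a := b1)
      calc b1 * ((b2 * b3) * x) = b1 * (b2 * b3) * x := by group
        _ = x * (b1 * (b2 * b3)) := hζ.symm
        _ = (x * b1) * (b2 * b3) := by group
        _ = (b1 * x) * (b2 * b3) := by rw [hxb1]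
        _ = b1 * (x * (b2 * b3)) := by group
    have hc3 := hcen _ (hF1c b3 hb3 hb3p x)
    have h := (c2_beta_eq_one_iff (b2 * b3) x).mpr h23
    calc (b2 * x * b2⁻¹ * x⁻¹) * (b3 * x * b3⁻¹ * x⁻¹)
        = (b3 * x * b3⁻¹ * x⁻¹) * (b2 * x * b2⁻¹ * x⁻¹) := hc3 _
      _ = (b3 * x * b3⁻¹ * x⁻¹) * b2 * (x * b2⁻¹ * x⁻¹) := by group
      _ = b2 * (b3 * x * b3⁻¹ * x⁻¹) * (x * b2⁻¹ * x⁻¹) := by rw [hc3 b2]
      _ = (b2 * b3) * x * (b2 * b3)⁻¹ * x⁻¹ := by group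
      _ = 1 := h
  obtain ⟨a, hadef⟩ : ∃ a, a = b2 * x * b2⁻¹ * x⁻¹ := ⟨_, rfl⟩
  have hφa : φ a = b3 * φ x * b3⁻¹ * (φ x)⁻¹ := by
    rw [hadef, hb3def]; simp only [map_mul, map_inv]
  rw [← hφa] at e2
  rw [← hadef] at e3
  have hφa' : φ a = a := mul_right_cancel (e2.trans e3.symm)
  have haV : a ∈ B ∧ a ^ 2 = 1 := by rw [hadef]; exact hF1 b2 hb2 hb2p x
  have ha1 : a = 1 := by
    by_contra hne
    exact hfpf a haV.1 haV.2 hne hφa'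
  have hxb2 : b2 * x = x * b2 := (c2_beta_eq_one_iff b2 x).mp (by rw [← hadef]; exact ha1)
  have hxb3 : b3 * x = x * b3 :=
    (c2_beta_eq_one_iff b3 x).mp (by rw [ha1, one_mul] at e3; exact e3)
  intro b' hb' hb'p
  have hfin : ∀ c ∈ B, c * x = x * c → c ^ 2 ^ i = b' ^ 2 ^ i → x * b' = b' * x := by
    intro c hc hcx hcp
    obtain ⟨ω, hωdef⟩ : ∃ ω, ω = c⁻¹ * b' := ⟨_, rfl⟩
    have hωB : ω ∈ B := by rw [hωdef]; exact B.mul_mem (B.inv_mem hc) hb'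
    have hωp : ω ^ 2 ^ i = 1 := by
      rw [hωdef, (show Commute c⁻¹ b' from hBc _ (B.inv_mem hc) _ hb').mul_pow, inv_pow, hcp,
        inv_mul_cancel]
    have hωc := hcen _ (hi ω hωB hωp) x
    have e : b' = c * ω := by rw [hωdef]; group
    rw [e]
    calc x * (c * ω) = (x * c) * ω := by group
      _ = (c * x) * ω := by rw [hcx]
      _ = c * (x * ω) := by group
      _ = c * (ω * x) := by rw [hωc]
      _ = c * ω * x := by group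
  obtain ⟨hvB, hvs⟩ := hVpow b' hb' hb'p
  rcases hcover _ hvB hvs with h | h | h | h
  · exact hcen b' (hi b' hb' h) x
  · exact hfin b1 hb1 hxb1.symm (by rw [h, hv1def])
  · exact hfin b2 hb2 hxb2 (by rw [h, hb2v])
  · exact hfin b3 hb3 hxb3 (by rw [h, hb3v])

example : (StVB.{u}) → (StFix.{u}) → StC2.{u} := c2

end Cfsg.Agent.H1.Tg

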